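import Groth.Agent.DTenLib.Eval
import Groth.Agent.DRingLib.PCohMore
import Groth.Agent.DRingLib.AmplitudeTri
import Groth.Agent.DerLib.ModCompactGen

/-!
# Cohomological bounds detected by maps out of shifts of the unit; evaluation at pseudo-coherent objects
-/

set_option autoImplicit false

universe u

open CategoryTheory CategoryTheory.Limits MonoidalCategory HomologicalComplex Pretriangulated
attribute [local instance] HasDerivedCategory.standard

namespace DTenLib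

open DTen
open Groth.Agent (DRingLib.Hn)
open Groth.Agent.DerLib.ModCompactGen (gen)

variable {A : Type u} [CommRing A]

/-- Shifts of the unit are the standard generators. -/
theorem nonempty_gen_iso (n : ℤ) : Nonempty (DerivedCategory.Q.obj (gen A n) ≅ (unit A)⟦-n⟧) :=
  ⟨DerivedCategory.Q.mapIso
      ((((CochainComplex.singleFunctors (ModuleCat.{u} A)).shiftIso (-n) n 0 (by omega)).app
        (ModuleCat.of A A)).symm) ≪≫
    (DerivedCategory.Q.commShiftIso (-n)).app (𝟙_ (DRing.Cx A))⟩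

theorem hom_shift_unit_eq_zero {K : DRing.Cx A} {j : ℤ} (hK : IsZero (K.X (-j)))
    (f : (unit A)⟦j⟧ ⟶ DRing.toD K) : f = 0 := by
  obtain ⟨e⟩ := nonempty_gen_iso (A := A) (-j)
  have e' : DerivedCategory.Q.obj (gen A (-j)) ≅ (unit A)⟦j⟧ :=
    e ≪≫ eqToIso (by rw [neg_neg])
  obtain ⟨g', hg'⟩ := (CochainComplex.IsKProjective.Qh_map_bijective (gen A (-j))
    ((HomotopyCategory.quotient _ (ComplexShape.up ℤ)).obj K)).2 (e'.hom ≫ f)
  obtain ⟨g, rfl⟩ := (HomotopyCategory.quotient _ (ComplexShape.up ℤ)).map_surjective g'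
  have hg : DerivedCategory.Q.map g = e'.hom ≫ f := hg'
  have : g = 0 := HomologicalComplex.from_single_hom_ext (hK.eq_of_tgt _ _)
  rw [← cancel_epi e'.hom, ← hg, this, Functor.map_zero, comp_zero]

theorem hom_shift_unit_eq_zero_of_isLE {Z : Dual.D A} {b j : ℤ} (hZ : DerivedCategory.IsLE Z b)
    (hj : b < -j) (f : (unit A)⟦j⟧ ⟶ Z) : f = 0 := by
  obtain ⟨K, hK, ⟨e⟩⟩ := DerivedCategory.exists_iso_Q_obj_of_isLE Z b
  rw [← cancel_mono e.hom, zero_comp]
  exact hom_shift_unit_eq_zero (K.isZero_of_isStrictlyLE b _ hj) _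

/-- Cohomology is detected by maps out of shifts of the unit. -/
theorem isZero_Hn_of_hom_eq_zero {Z : Dual.D A} {i : ℤ} (h : ∀ f : (unit A)⟦-i⟧ ⟶ Z, f = 0) :
    IsZero ((DerivedCategory.homologyFunctor (ModuleCat.{u} A) i).obj Z) := by
  obtain ⟨e⟩ := nonempty_gen_iso (A := A) i
  let K := DerivedCategory.Q.objPreimage Z
  let eX : DerivedCategory.Q.obj K ≅ Z := DerivedCategory.Q.objObjPreimageIso Z
  refine IsZero.of_iso ?_ ((DerivedCategory.homologyFunctor _ i).mapIso eX.symm ≪≫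
    (DerivedCategory.homologyFunctorFactors (ModuleCat.{u} A) i).app K)
  show IsZero (K.homology i)
  rw [← exactAt_iff_isZero_homology, exactAt_iff' _ (i - 1) i (i + 1) (by simp) (by simp),
    ShortComplex.moduleCat_exact_iff]
  intro z hz
  let g : gen A i ⟶ K := mkHomFromSingle (ModuleCat.ofHom (LinearMap.toSpanSingleton A _ z))
    (fun k hk => by
      obtain rfl : k = i + 1 := hk.symm
      refine ModuleCat.hom_ext (LinearMap.ext_ring ?_)
      show (K.d i (i + 1)).hom ((1 : A) • z) = 0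
      rw [one_smul]
      exact hz)
  have h1 : DerivedCategory.Q.map g = 0 := by
    rw [← cancel_mono eX.hom, ← cancel_epi e.inv, h (e.inv ≫ DerivedCategory.Q.map g ≫ eX.hom),
      zero_comp, comp_zero]
  have h2 : (HomotopyCategory.quotient _ (ComplexShape.up ℤ)).map g = 0 :=
    (CochainComplex.IsKProjective.Qh_map_bijective (gen A i) _).1
      (h1.trans (Functor.map_zero _ _ _).symm)
  have H : Homotopy g 0 :=
    HomotopyCategory.homotopyOfEq _ _ (h2.trans (Functor.map_zero _ _ _).symm)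
  let s := singleObjXSelf (ComplexShape.up ℤ) i (ModuleCat.of A A)
  refine ⟨(H.hom i (i - 1)).hom (s.inv.hom (1 : A)), ?_⟩
  have hc := H.comm i
  rw [dNext_eq _ (show (ComplexShape.up ℤ).Rel i (i + 1) from rfl),
    prevD_eq _ (show (ComplexShape.up ℤ).Rel (i - 1) i by simp), single_obj_d, zero_comp,
    HomologicalComplex.zero_f, add_zero, zero_add, mkHomFromSingle_f, ← Iso.eq_inv_comp] at hc
  have := congrArg (fun t : ModuleCat.of A A ⟶ K.X i => t.hom (1 : A)) hc
  simp [g] at this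
  exact this.symm

theorem isLE_of_hom_eq_zero {Z : Dual.D A} {b : ℤ}
    (h : ∀ j, b < -j → ∀ f : (unit A)⟦j⟧ ⟶ Z, f = 0) : DerivedCategory.IsLE Z b :=
  (DerivedCategory.isLE_iff Z b).2 fun i hi => isZero_Hn_of_hom_eq_zero (h (-i) (by omega))

theorem isGE_of_hom_eq_zero {Z : Dual.D A} {g : ℤ}
    (h : ∀ j, -j < g → ∀ f : (unit A)⟦j⟧ ⟶ Z, f = 0) : DerivedCategory.IsGE Z g :=
  (DerivedCategory.isGE_iff Z g).2 fun i hi => isZero_Hn_of_hom_eq_zero (h (-i) (by omega))

/-- Isomorphisms are detected by maps out of shifts of the unit. -/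
theorem isIso_of_bijective_unit {X Y : Dual.D A} (f : X ⟶ Y)
    (h : ∀ j : ℤ, Function.Bijective fun g : (unit A)⟦j⟧ ⟶ X => g ≫ f) : IsIso f := by
  obtain ⟨Z, g, d, hT⟩ := Pretriangulated.distinguished_cocone_triangle f
  have hd : ∀ (j : ℤ) (p : (unit A)⟦j⟧ ⟶ X⟦(1 : ℤ)⟧), p ≫ f⟦(1 : ℤ)⟧' = 0 → p = 0 := by
    intro j p hp
    let e : (unit A)⟦j⟧ ≅ ((unit A)⟦j + -1⟧)⟦(1 : ℤ)⟧ :=
      (shiftFunctorAdd' (Dual.D A) (j + -1) 1 j (by omega)).app _
    obtain ⟨q, hq⟩ := (shiftFunctor (Dual.D A) (1 : ℤ)).map_surjective (e.inv ≫ p)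
    have : q ≫ f = 0 := (shiftFunctor (Dual.D A) (1 : ℤ)).map_injective (by
      rw [Functor.map_comp, hq, Category.assoc, hp, comp_zero, Functor.map_zero])
    rw [← cancel_epi e.inv, ← hq, (h _).1 (this.trans zero_comp.symm), Functor.map_zero, comp_zero]
  have hZ : ∀ (j : ℤ) (x : (unit A)⟦j⟧ ⟶ Z), x = 0 := by
    intro j x
    have h1 : x ≫ d = 0 := hd j _ (by
      have h0 : d ≫ f⟦(1 : ℤ)⟧' = 0 := comp_distTriang_mor_zero₃₁ _ hT
      rw [Category.assoc, h0, comp_zero])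
    obtain ⟨y, rfl⟩ := Triangle.coyoneda_exact₃ _ hT x h1
    obtain ⟨w, rfl⟩ := (h j).2 y
    show (w ≫ f) ≫ g = 0
    have h0 : f ≫ g = 0 := comp_distTriang_mor_zero₁₂ _ hT
    rw [Category.assoc, h0, comp_zero]
  refine (Triangle.isZero₃_iff_isIso₁ _ hT).1 ?_
  have h0 : DerivedCategory.IsLE Z 0 := isLE_of_hom_eq_zero fun j _ => hZ j
  have h1 : DerivedCategory.IsGE Z 1 := isGE_of_hom_eq_zero fun j _ => hZ j
  exact (IsZero.iff_id_eq_zero Z).2
    ((DerivedCategory.TStructure.t (C := ModuleCat.{u} A)).zero_of_isLE_of_isGE (𝟙 Z) 0 1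
      (by omega) h0 h1)

/-- Objects of injective amplitude below `b` receive no maps from objects above `b`. -/
theorem hom_eq_zero_of_injAmplitude {X M : Dual.D A} {a b g : ℤ}
    (hM : DRing.HasInjAmplitudeIn A a b M) (hX : DerivedCategory.IsGE X g) (hg : b < g)
    (f : X ⟶ M) : f = 0 := by
  obtain ⟨I, hI, hinj, ⟨e⟩⟩ := hM
  haveI : ∀ i, Injective (I.X i) := fun i =>
    haveI := hinj i
    Module.injective_object_of_injective_module A (I.X i)
  haveI : I.IsStrictlyGE a :=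
    (CochainComplex.isStrictlyGE_iff I a).2 fun i hi => hI i (Or.inl hi)
  haveI := CochainComplex.isKInjective_of_injective I a
  obtain ⟨K, hK, ⟨eK⟩⟩ := DerivedCategory.exists_iso_Q_obj_of_isGE X g
  obtain ⟨φ, hφ⟩ :=
    Groth.Agent.DerLib.KInjUse.Q_map_surjective K I (eK.inv ≫ f ≫ e.inv)
  have hφ0 : φ = 0 := HomologicalComplex.hom_ext _ _ fun i => by
    rcases lt_or_ge i g with hi | hi
    · exact (K.isZero_of_isStrictlyGE g i hi).eq_of_src _ _
    · exact (hI i (Or.inr (by omega))).eq_of_tgt _ _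
  rw [← cancel_epi eK.inv, ← cancel_mono e.inv, Category.assoc, ← hφ, hφ0, Functor.map_zero,
    comp_zero, zero_comp]

variable [HasLTen A]

theorem nonempty_tensor_shiftUnit (L : Dual.D A) (j : ℤ) :
    Nonempty ((LTen₂ A).obj ((unit A)⟦j⟧, L) ≅ L⟦j⟧) := by
  let o := 𝟙_ (DRing.Cx A)
  obtain ⟨P, hP, ⟨e⟩⟩ := exists_kf_rep L
  have := isIso_ε (A := A) (o⟦j⟧) P (Or.inr hP)
  let c : o⟦j⟧ ⊗ P ≅ P⟦j⟧ :=
    CochainComplex.mapBifunctorShift₁Iso o P (curriedTensor (ModuleCat.{u} A)) j ≪≫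
      (shiftFunctor _ j).mapIso (λ_ P)
  exact ⟨(LTen₂ A).mapIso (Iso.prod ((DerivedCategory.Q.commShiftIso j).app o).symm e.symm) ≪≫
    asIso ((ε A).app (o⟦j⟧, P)) ≪≫ DerivedCategory.Q.mapIso c ≪≫
      (DerivedCategory.Q.commShiftIso j).app P ≪≫ (shiftFunctor _ j).mapIso e⟩

theorem isLE_tensor {X Y : Dual.D A} {p q : ℤ} (hX : DerivedCategory.IsLE X p)
    (hY : DerivedCategory.IsLE Y q) : DerivedCategory.IsLE ((LTen₂ A).obj (X, Y)) (p + q) := by
  obtain ⟨P, hPb, hPf, ⟨eP⟩⟩ :=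
    Groth.Agent.DRingLib.exists_free_rep X p ((DerivedCategory.isLE_iff X p).1 hX)
  obtain ⟨Q, hQb, hQf, ⟨eQ⟩⟩ :=
    Groth.Agent.DRingLib.exists_free_rep Y q ((DerivedCategory.isLE_iff Y q).1 hY)
  have hPk : KF P := Groth.Agent.DRingLib.isKFlat_of_free P p hPb hPf
  have := isIso_ε (A := A) P Q (Or.inl hPk)
  let e : DerivedCategory.Q.obj (P ⊗ Q) ≅ (LTen₂ A).obj (X, Y) :=
    (asIso ((ε A).app (P, Q))).symm ≪≫ (LTen₂ A).mapIso (Iso.prod eP eQ)
  refine isLE_of_hom_eq_zero fun j hj f => ?_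
  rw [← cancel_mono e.inv, zero_comp]
  refine hom_shift_unit_eq_zero ((IsZero.iff_id_eq_zero _).2
    (mapBifunctor.hom_ext fun a b (h : a + b = -j) =>
      ModuleCat.MonoidalCategory.tensor_ext fun x y => ?_)) _
  rcases lt_or_ge p a with ha | ha
  · have := ModuleCat.subsingleton_of_isZero (hPb a ha)
    rw [Subsingleton.elim x 0, TensorProduct.zero_tmul, map_zero, map_zero]
  · have := ModuleCat.subsingleton_of_isZero (hQb b (by omega))
    rw [Subsingleton.elim y 0, TensorProduct.tmul_zero, map_zero, map_zero]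

variable [HasRHom A]

theorem hom_RHom_eq_zero {W X M : Dual.D A} (h : ∀ f : (LTen₂ A).obj (W, X) ⟶ M, f = 0)
    (f : W ⟶ (RHomR A X).obj M) : f = 0 :=
  ((rhomAdj A X).homEquiv W M).symm.injective ((h _).trans (h _).symm)

theorem isLE_RHom {X M : Dual.D A} {a b g : ℤ} (hM : DRing.HasInjAmplitudeIn A a b M)
    (hX : DerivedCategory.IsGE X g) : DerivedCategory.IsLE ((RHomR A X).obj M) (b - g) := by
  refine isLE_of_hom_eq_zero fun j hj f => hom_RHom_eq_zero (fun p => ?_) f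
  obtain ⟨e⟩ := nonempty_tensor_shiftUnit X j
  have hXj : DerivedCategory.IsGE (X⟦j⟧) (g - j) :=
    DerivedCategory.TStructure.t.isGE_shift X g j (g - j) (by omega)
  rw [← cancel_epi e.inv, comp_zero]
  exact hom_eq_zero_of_injAmplitude hM hXj (by omega) _

theorem isGE_RHom {X Y : Dual.D A} {p n : ℤ} (hX : DerivedCategory.IsLE X p)
    (hY : DerivedCategory.IsGE Y n) : DerivedCategory.IsGE ((RHomR A X).obj Y) (n - p) := by
  refine isGE_of_hom_eq_zero fun j hj f => hom_RHom_eq_zero (fun q => ?_) f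
  obtain ⟨e⟩ := nonempty_tensor_shiftUnit X j
  have hXj : DerivedCategory.IsLE (X⟦j⟧) (p - j) :=
    DerivedCategory.TStructure.t.isLE_shift X p j (p - j) (by omega)
  rw [← cancel_epi e.inv, comp_zero]
  exact DerivedCategory.TStructure.t.zero_of_isLE_of_isGE _ (p - j) n (by omega) hXj hY

variable [HasLTen₃ A] [IsSymMonoidal A]

theorem isIso_evalHom_of_isPseudoCoherent (K L M : Dual.D A) (hK : DRing.IsPseudoCoherent' A K)
    (n : ℤ) (hL : DerivedCategory.IsGE L n) (hM : DRing.HasFiniteInjDim A M) :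
    IsIso (evalHom K L M) := by
  obtain ⟨a, b, hM⟩ := hM
  let F := (LTen A).obj ((RHomR A L).obj M)
  let G := ((RHom A).flip.obj L).rightOp ⋙ (RHom A).flip.obj M
  have hF : HomExact F := homExact_LTen_obj _
  have hG : HomExact G := fun T hT => HomExactOp.map_isTri (F := (RHom A).flip.obj M)
    (fun T' hT' => homExact_id.map_isTri (isTri_RHom M T' hT')) (isTri_RHom L T hT)
  let τ : F ⟶ G := evalHomNat L M
  refine isIso_of_bijective_unit _ fun j => ?_
  show Function.Bijective fun g : (unit A)⟦j⟧ ⟶ F.obj K => g ≫ τ.app K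
  let m : ℤ := n - b - j - 1
  obtain ⟨E, c, d, α, hE, hfree, hiso, hepi⟩ :=
    Groth.Agent.DRingLib.isPseudoCoherent'_iff_forall.1 hK m
  obtain ⟨C, g, h, hT⟩ := Pretriangulated.distinguished_cocone_triangle α
  let T := Triangle.mk α g h
  have hC : DerivedCategory.IsLE C (m - 1) := (DerivedCategory.isLE_iff C (m - 1)).2 fun i hi =>
    (Groth.Agent.DRingLib.Approx.iff_cone m T hT).1 ⟨hiso, hepi⟩ i (by omega)
  have hC' : DerivedCategory.IsLE (C⟦(-1 : ℤ)⟧) m :=
    DerivedCategory.TStructure.t.isLE_shift C (m - 1) (-1) m (by omega)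
  have hGle : ∀ (X : Dual.D A) (p : ℤ), DerivedCategory.IsLE X p → p ≤ m →
      ∀ x : (unit A)⟦j⟧ ⟶ G.obj X, x = 0 := fun X p hX hp =>
    hom_shift_unit_eq_zero_of_isLE (b := b - (n - p)) (isLE_RHom hM (isGE_RHom hX hL)) (by omega)
  have hFC : ∀ x : (unit A)⟦j⟧ ⟶ F.obj C, x = 0 :=
    hom_shift_unit_eq_zero_of_isLE (b := b - n + (m - 1))
      (isLE_tensor (isLE_RHom hM hL) hC) (by omega)
  haveI hτE : IsIso (τ.app (DRing.toD E)) :=
    isIso_evalHom_of_isPerfect _ L M ⟨E, c, d, hE, fun i =>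
      haveI := (hfree i).2
      ⟨(hfree i).1, inferInstance⟩, ⟨Iso.refl _⟩⟩
  constructor
  · intro z z' hzz
    rw [← sub_eq_zero]
    have hz : (z - z') ≫ τ.app K = 0 := by
      rw [Preadditive.sub_comp, sub_eq_zero]
      exact hzz
    obtain ⟨x, hx⟩ := (hF T hT).2 _ (z - z') (hFC _)
    change x ≫ F.map α = z - z' at hx
    have hx' : (x ≫ τ.app _) ≫ G.map α = 0 := by
      rw [Category.assoc, ← τ.naturality, ← Category.assoc, hx, hz]
    obtain ⟨w, hw⟩ := (hG _ (inv_rot_of_distTriang _ hT)).2 _ (x ≫ τ.app _) hx'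
    have hxE : x ≫ τ.app (DRing.toD E) = 0 := hw.symm.trans
      ((congrArg (fun t => CategoryStruct.comp t (G.map T.invRotate.mor₁)) (hGle _ m hC' le_rfl w)).trans zero_comp)
    have hx0 : x = 0 := (cancel_mono (τ.app (DRing.toD E))).1 (hxE.trans zero_comp.symm)
    rw [← hx, hx0, zero_comp]
  · intro y
    obtain ⟨x, hx⟩ : ∃ x : (unit A)⟦j⟧ ⟶ G.obj (DRing.toD E), x ≫ G.map α = y :=
      (hG T hT).2 _ y (hGle _ (m - 1) hC (by omega) _)
    obtain ⟨i, -, hi⟩ := hτE.out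
    refine ⟨(x ≫ i) ≫ F.map α, ?_⟩
    show (_ ≫ F.map α) ≫ τ.app K = y
    rw [Category.assoc, τ.naturality, Category.assoc, reassoc_of% hi, hx]

end DTenLib
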