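import Groth.Agent.DTenLib.RHom
import Groth.Agent.S7010
import Mathlib.CategoryTheory.Triangulated.TriangleShift

/-!
# Evaluation maps are isomorphisms for perfect complexes
-/

set_option autoImplicit false

universe u

open CategoryTheory CategoryTheory.Limits MonoidalCategory Pretriangulated Opposite
attribute [local instance] HasDerivedCategory.standard

namespace DTenLib

open DTen

variable {A : Type u} [CommRing A]

section Induction

/-- `τ` is invertible at every shift of `K`. -/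
def AllShifts {F G : Dual.D A ⥤ Dual.D A} (τ : F ⟶ G) (K : Dual.D A) : Prop :=
  ∀ n : ℤ, IsIso (τ.app (K⟦n⟧))

theorem isIso_of_retract {C : Type*} [Category* C] {a b a' b' : C} {η : a ⟶ b} {η' : a' ⟶ b'}
    [IsIso η'] (i : a ⟶ a') (r : a' ⟶ a) (i' : b ⟶ b') (r' : b' ⟶ b) (h : i ≫ r = 𝟙 a)
    (h' : i' ≫ r' = 𝟙 b) (w : i ≫ η' = η ≫ i') (w' : r ≫ η = η' ≫ r') : IsIso η :=
  ⟨i' ≫ inv η' ≫ r, by rw [← reassoc_of% w, IsIso.hom_inv_id_assoc, h], by
    rw [Category.assoc, Category.assoc, w', IsIso.inv_hom_id_assoc, h']⟩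

/-- Perfect induction for a transformation of exact functors. -/
theorem isIso_app_of_isPerfect {F G : Dual.D A ⥤ Dual.D A} (hF : HomExact F) (hG : HomExact G)
    (τ : F ⟶ G) (h : AllShifts τ (unit A)) {K : Dual.D A} (hK : DRing.IsPerfect A K) :
    IsIso (τ.app K) := by
  let P : ObjectProperty (Dual.D A) := AllShifts τ
  haveI : P.IsClosedUnderIsomorphisms := ⟨fun {X Y} e hX n => by
    have := hX n
    exact isIso_app_of_iso τ ((shiftFunctor (Dual.D A) n).mapIso e)⟩
  have hshift : ∀ (X : Dual.D A) (n : ℤ), P X → P (X⟦n⟧) := fun X n hX m => by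
    have := hX (n + m)
    exact isIso_app_of_iso τ ((shiftFunctorAdd (Dual.D A) n m).app X)
  have hext : ∀ T : Triangle (Dual.D A), T ∈ distTriang (Dual.D A) → P T.obj₁ → P T.obj₃ → P T.obj₂ := by
    intro T hT h₁ h₃ n
    let T' := (Triangle.shiftFunctor (Dual.D A) n).obj T
    haveI : IsIso (τ.app T'.obj₁) := h₁ n
    haveI : IsIso (τ.app T'.obj₃) := h₃ n
    haveI : IsIso (τ.app (T'.obj₃⟦(-1 : ℤ)⟧)) := by
      have := h₃ (n + -1)
      exact isIso_app_of_iso τ ((shiftFunctorAdd (Dual.D A) n (-1)).app T.obj₃)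
    haveI : IsIso (τ.app (T'.obj₁⟦(1 : ℤ)⟧)) := by
      have := h₁ (n + 1)
      exact isIso_app_of_iso τ ((shiftFunctorAdd (Dual.D A) n 1).app T.obj₁)
    exact isIso_app₂ hF hG τ T' (Triangle.shift_distinguished T hT n)
  have hsum : ∀ (X Y : Dual.D A) [HasBinaryBiproduct X Y], P (X ⊞ Y) → P X := fun X Y _ hXY n => by
    have := hXY n
    let i : X⟦n⟧ ⟶ (X ⊞ Y)⟦n⟧ := (biprod.inl : X ⟶ X ⊞ Y)⟦n⟧'
    let r : (X ⊞ Y)⟦n⟧ ⟶ X⟦n⟧ := (biprod.fst : X ⊞ Y ⟶ X)⟦n⟧'
    have hir : i ≫ r = 𝟙 _ := by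
      rw [← Functor.map_comp, biprod.inl_fst, CategoryTheory.Functor.map_id]
    exact isIso_of_retract (F.map i) (F.map r) (G.map i) (G.map r)
      (by rw [← F.map_comp, hir, F.map_id]) (by rw [← G.map_comp, hir, G.map_id])
      (τ.naturality i) (τ.naturality r)
  have hP : P K := Groth.Agent.S7010.result A P h hshift hext hsum K hK
  have := hP 0
  exact isIso_app_of_iso τ ((shiftFunctorZero (Dual.D A) ℤ).app K)

/-- `τ` is invertible at every shift of `K`, contravariant version. -/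
def AllShiftsOp {F G : (Dual.D A)ᵒᵖ ⥤ Dual.D A} (τ : F ⟶ G) (K : Dual.D A) : Prop :=
  ∀ n : ℤ, IsIso (τ.app (op (K⟦n⟧)))

/-- Perfect induction, contravariant version. -/
theorem isIso_app_of_isPerfect_op {F G : (Dual.D A)ᵒᵖ ⥤ Dual.D A} (hF : HomExactOp F)
    (hG : HomExactOp G) (τ : F ⟶ G) (h : AllShiftsOp τ (unit A)) {K : Dual.D A}
    (hK : DRing.IsPerfect A K) : IsIso (τ.app (op K)) := by
  let P : ObjectProperty (Dual.D A) := AllShiftsOp τ
  haveI : P.IsClosedUnderIsomorphisms := ⟨fun {X Y} e hX n => by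
    have := hX n
    exact isIso_app_of_iso τ ((shiftFunctor (Dual.D A) n).mapIso e).op.symm⟩
  have hshift : ∀ (X : Dual.D A) (n : ℤ), P X → P (X⟦n⟧) := fun X n hX m => by
    have := hX (n + m)
    exact isIso_app_of_iso τ ((shiftFunctorAdd (Dual.D A) n m).app X).op.symm
  have hext : ∀ T : Triangle (Dual.D A), T ∈ distTriang (Dual.D A) → P T.obj₁ → P T.obj₃ → P T.obj₂ := by
    intro T hT h₁ h₃ n
    let T' := (Triangle.shiftFunctor (Dual.D A) n).obj T
    haveI : IsIso (τ.app (op T'.obj₁)) := h₁ n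
    haveI : IsIso (τ.app (op T'.obj₃)) := h₃ n
    haveI : IsIso (τ.app (op (T'.obj₃⟦(-1 : ℤ)⟧))) := by
      have := h₃ (n + -1)
      exact isIso_app_of_iso τ ((shiftFunctorAdd (Dual.D A) n (-1)).app T.obj₃).op.symm
    haveI : IsIso (τ.app (op (T'.obj₁⟦(1 : ℤ)⟧))) := by
      have := h₁ (n + 1)
      exact isIso_app_of_iso τ ((shiftFunctorAdd (Dual.D A) n 1).app T.obj₁).op.symm
    exact isIso_app₂_op hF hG τ T' (Triangle.shift_distinguished T hT n)
  have hsum : ∀ (X Y : Dual.D A) [HasBinaryBiproduct X Y], P (X ⊞ Y) → P X := fun X Y _ hXY n => by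
    have := hXY n
    let i : X⟦n⟧ ⟶ (X ⊞ Y)⟦n⟧ := (biprod.inl : X ⟶ X ⊞ Y)⟦n⟧'
    let r : (X ⊞ Y)⟦n⟧ ⟶ X⟦n⟧ := (biprod.fst : X ⊞ Y ⟶ X)⟦n⟧'
    have hir : r.op ≫ i.op = 𝟙 _ := by
      rw [← op_comp, ← Functor.map_comp, biprod.inl_fst, CategoryTheory.Functor.map_id, op_id]
    exact isIso_of_retract (F.map r.op) (F.map i.op) (G.map r.op) (G.map i.op)
      (by rw [← F.map_comp, hir, F.map_id]) (by rw [← G.map_comp, hir, G.map_id])
      (τ.naturality r.op) (τ.naturality i.op)
  have hP : P K := Groth.Agent.S7010.result A P h hshift hext hsum K hK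
  have := hP 0
  exact isIso_app_of_iso τ ((shiftFunctorZero (Dual.D A) ℤ).app K).op.symm

end Induction

variable [HasLTen A]

/-- The derived tensor product of two maps. -/
noncomputable abbrev tm {a b c d : Dual.D A} (f : a ⟶ c) (g : b ⟶ d) :
    (LTen₂ A).obj (a, b) ⟶ (LTen₂ A).obj (c, d) :=
  (LTen₂ A).map (Prod.mkHom f g)

theorem tm_comp {a b c d e f : Dual.D A} (p : a ⟶ c) (q : b ⟶ d) (p' : c ⟶ e) (q' : d ⟶ f) :
    tm p q ≫ tm p' q' = tm (p ≫ p') (q ≫ q') :=
  ((LTen₂ A).map_comp _ _).symm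

theorem tm_id (a b : Dual.D A) : tm (𝟙 a) (𝟙 b) = 𝟙 _ :=
  (LTen₂ A).map_id (a, b)

theorem symm_natural {a b c d : Dual.D A} (p : a ⟶ c) (q : b ⟶ d) :
    tm q p ≫ (DTen.symm A).app (c, d) = (DTen.symm A).app (a, b) ≫ tm p q :=
  (DTen.symm A).naturality (Prod.mkHom p q)

theorem exists_invertible_shift (n : ℤ) : ∃ b : Dual.D A,
    Nonempty ((LTen₂ A).obj ((unit A)⟦n⟧, b) ≅ unit A) := by
  let o := 𝟙_ (DRing.Cx A)
  have h1 : KF (o⟦n⟧) := KFlatLib.isKFlat_shift kf_unit n
  have := isIso_ε (A := A) (o⟦n⟧) (o⟦-n⟧) (Or.inl h1)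
  refine ⟨DerivedCategory.Q.obj (o⟦-n⟧), ⟨?_⟩⟩
  let c : o⟦n⟧ ⊗ o⟦-n⟧ ≅ o :=
    CochainComplex.mapBifunctorShift₁Iso o (o⟦-n⟧) (curriedTensor (ModuleCat.{u} A)) n ≪≫
      (shiftFunctor _ n).mapIso
        (CochainComplex.mapBifunctorShift₂Iso o o (curriedTensor (ModuleCat.{u} A)) (-n) ≪≫
          (shiftFunctor _ (-n)).mapIso (λ_ o)) ≪≫
      (shiftFunctorCompIsoId (DRing.Cx A) (-n) n (neg_add_cancel n)).app o
  exact (LTen₂ A).mapIso (Iso.prod ((DerivedCategory.Q.commShiftIso n).app o).symm (Iso.refl _)) ≪≫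
    asIso ((ε A).app (o⟦n⟧, o⟦-n⟧)) ≪≫ DerivedCategory.Q.mapIso c

variable [HasLTen₃ A] [IsSymMonoidal A]

theorem associator_natural {a b c a' b' c' : Dual.D A} (f : a ⟶ a') (g : b ⟶ b') (h : c ⟶ c') :
    tm (tm f g) h ≫ (associator a' b' c').hom = (associator a b c).hom ≫ tm f (tm g h) := by
  rw [← cancel_mono ((assocR A).app (a', (b', c'))), Category.assoc, Category.assoc,
    associator_hom_assocR]
  have h1 : tm f (tm g h) ≫ (assocR A).app (a', (b', c')) =
      (assocR A).app (a, (b, c)) ≫ (LTen₃ A).map (Prod.mkHom f (Prod.mkHom g h)) :=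
    (assocR A).naturality (Prod.mkHom f (Prod.mkHom g h))
  rw [h1, associator_hom_assocR_assoc]
  exact (assocL A).naturality (Prod.mkHom f (Prod.mkHom g h))

/-- Tensoring on the left with an invertible object is an equivalence. -/
theorem isEquivalence_LTen_obj {a b : Dual.D A} (e : (LTen₂ A).obj (a, b) ≅ unit A) :
    ((LTen A).obj a).IsEquivalence := by
  have e' : (LTen₂ A).obj (b, a) ≅ unit A := braiding a b ≪≫ e
  let comp : ∀ p q : Dual.D A, (LTen A).obj q ⋙ (LTen A).obj p ≅ (LTen A).obj ((LTen₂ A).obj (p, q)) :=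
    fun p q => NatIso.ofComponents (fun c => (associator p q c).symm) fun {c c'} h => by
      show tm (𝟙 p) (tm (𝟙 q) h) ≫ (associator p q c').inv =
        (associator p q c).inv ≫ tm (𝟙 _) h
      rw [Iso.comp_inv_eq, Category.assoc, Iso.eq_inv_comp, ← tm_id p q, associator_natural]
  exact (CategoryTheory.Equivalence.mk ((LTen A).obj a) ((LTen A).obj b)
    ((comp b a ≪≫ (LTen A).mapIso e' ≪≫ asIso (unitL A)).symm)
    (comp a b ≪≫ (LTen A).mapIso e ≪≫ asIso (unitL A))).isEquivalence_functor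

theorem isEquivalence_shiftUnit (n : ℤ) : ((LTen A).obj ((unit A)⟦n⟧)).IsEquivalence := by
  obtain ⟨b, ⟨e⟩⟩ := exists_invertible_shift (A := A) n
  exact isEquivalence_LTen_obj e

/-- `a ⊗ - ≅ - ⊗ a`. -/
noncomputable def flipObjIso (a : Dual.D A) : (LTen A).obj a ≅ (LTen A).flip.obj a :=
  NatIso.ofComponents (fun c => braiding c a) fun h => symm_natural h (𝟙 a)

theorem isEquivalence_shiftUnit' (n : ℤ) : (tensorRightD A ((unit A)⟦n⟧)).IsEquivalence :=
  haveI := isEquivalence_shiftUnit (A := A) n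
  Functor.isEquivalence_of_iso (flipObjIso _)

theorem homExact_LTen_obj (a : Dual.D A) : HomExact ((LTen A).obj a) :=
  (homExact_tensorRightD a).of_natIso (flipObjIso a).symm

variable [HasRHom A]

theorem uncurry_comp {X X' L M : Dual.D A} (f : X ⟶ X') (g : (LTen₂ A).obj (X', L) ⟶ M) :
    f ≫ rhomHomEquiv X' L M g = rhomHomEquiv X L M (tm f (𝟙 L) ≫ g) :=
  (Adjunction.homEquiv_naturality_left (rhomAdj A L) f g).symm

theorem curry_map {X L M M' : Dual.D A} (g : (LTen₂ A).obj (X, L) ⟶ M) (h : M ⟶ M') :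
    rhomHomEquiv X L M g ≫ (RHomR A L).map h = rhomHomEquiv X L M' (g ≫ h) :=
  (Adjunction.homEquiv_naturality_right (rhomAdj A L) g h).symm

theorem uncurry_curry {X L M : Dual.D A} (g : (LTen₂ A).obj (X, L) ⟶ M) :
    tm (rhomHomEquiv X L M g) (𝟙 L) ≫ ev L M = g :=
  ((rhomAdj A L).homEquiv _ _).left_inv g

theorem curry_RHomMap {X L L' M : Dual.D A} (g : (LTen₂ A).obj (X, L) ⟶ M) (a : L' ⟶ L) :
    rhomHomEquiv X L M g ≫ RHomMap a M = rhomHomEquiv X L' M (tm (𝟙 X) a ≫ g) := by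
  apply ((rhomAdj A L').homEquiv _ _).symm.injective
  rw [Equiv.symm_apply_apply, Adjunction.homEquiv_counit]
  show tm (rhomHomEquiv X L M g ≫ RHomMap a M) (𝟙 L') ≫ ev L' M = _
  rw [← Category.comp_id (𝟙 L'), ← tm_comp, Category.assoc]
  erw [RHom_map_ev]
  rw [← Category.assoc, tm_comp, Category.comp_id, Category.id_comp]
  conv_rhs => rw [← uncurry_curry g, ← Category.assoc, tm_comp, Category.id_comp, Category.comp_id]

/-- `evalTen` in its first variable. -/
noncomputable def evalTenNat (L M : Dual.D A) :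
    (LTen A).flip.obj ((RHomR A M).obj L) ⟶ tensorRightD A L ⋙ RHomR A M where
  app K := evalTen K L M
  naturality K K' f := by
    show tm f (𝟙 _) ≫ evalTen K' L M = evalTen K L M ≫ (RHomR A M).map (tm f (𝟙 L))
    rw [evalTen, evalTen, uncurry_comp, curry_map]
    refine congrArg _ ?_
    show tm (tm f (𝟙 _)) (𝟙 M) ≫ (associator K' _ M).hom ≫ tm (𝟙 K') (ev M L) =
      ((associator K _ M).hom ≫ tm (𝟙 K) (ev M L)) ≫ tm f (𝟙 L)
    rw [← Category.assoc, associator_natural, Category.assoc, Category.assoc, tm_comp, tm_comp, tm_id]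
    simp

theorem evalTen_iso_of_equivalence (K L M : Dual.D A) [((LTen A).obj K).IsEquivalence] :
    IsIso (evalTen K L M) := by
  have key : ∀ (Y : Dual.D A) (g : Y ⟶ (RHomR A M).obj L),
      tm (𝟙 K) g ≫ evalTen K L M =
        rhomHomEquiv _ _ _ ((associator K Y M).hom ≫ tm (𝟙 K) (tm g (𝟙 M) ≫ ev M L)) := by
    intro Y g
    rw [evalTen, uncurry_comp]
    refine congrArg _ ?_
    show tm (tm (𝟙 K) g) (𝟙 M) ≫ (associator K _ M).hom ≫ tm (𝟙 K) (ev M L) = _
    rw [← Category.assoc, associator_natural, Category.assoc, tm_comp, Category.comp_id]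
  have bij : ∀ X : Dual.D A, Function.Bijective
      fun f : X ⟶ (LTen₂ A).obj (K, (RHomR A M).obj L) => f ≫ evalTen K L M := by
    intro X
    let Y := ((LTen A).obj K).objPreimage X
    let e : (LTen₂ A).obj (K, Y) ≅ X := ((LTen A).obj K).objObjPreimageIso X
    refine ⟨fun f f' h => ?_, fun φ => ?_⟩
    · obtain ⟨g, hg⟩ := ((LTen A).obj K).map_surjective (e.hom ≫ f)
      obtain ⟨g', hg'⟩ := ((LTen A).obj K).map_surjective (e.hom ≫ f')
      change tm (𝟙 K) g = e.hom ≫ f at hg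
      change tm (𝟙 K) g' = e.hom ≫ f' at hg'
      have h' := congrArg (e.hom ≫ ·) h
      simp only [← Category.assoc, ← hg, ← hg', key] at h'
      have h2 := ((LTen A).obj K).map_injective
        ((cancel_epi _).1 ((rhomAdj A M).homEquiv _ _ |>.injective h'))
      have h3 : g = g' := ((rhomAdj A M).homEquiv Y L).symm.injective (by
        rw [Adjunction.homEquiv_counit, Adjunction.homEquiv_counit]
        exact h2)
      rw [← cancel_epi e.hom, ← hg, ← hg', h3]
    · obtain ⟨p, hp⟩ := ((LTen A).obj K).map_surjective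
        ((associator K Y M).inv ≫ ((rhomAdj A M).homEquiv _ _).symm (e.hom ≫ φ))
      change tm (𝟙 K) p = _ at hp
      refine ⟨e.inv ≫ tm (𝟙 K) (rhomHomEquiv _ _ _ p), ?_⟩
      show (e.inv ≫ _) ≫ _ = φ
      rw [Category.assoc, key, uncurry_curry, hp, Iso.hom_inv_id_assoc]
      erw [Equiv.apply_symm_apply]
      exact e.inv_hom_id_assoc φ
  obtain ⟨g, hg⟩ := (bij _).2 (𝟙 _)
  exact ⟨g, (bij _).1 (by simp only [Category.assoc]; rw [show g ≫ evalTen K L M = 𝟙 _ from hg]; simp), hg⟩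

theorem isIso_evalTen_left (K L M : Dual.D A) (hK : DRing.IsPerfect A K) :
    IsIso (evalTen K L M) :=
  isIso_app_of_isPerfect (homExact_tensorRightD _)
    (fun T hT => (homExact_tensorRightD L T hT).map_rightAdjoint (rhomAdj A M))
    (evalTenNat L M) (fun n => by
      haveI := isEquivalence_shiftUnit (A := A) n
      exact evalTen_iso_of_equivalence _ L M) hK

/-- `evalTen` in its third variable. -/
noncomputable def evalTenNat' (K L : Dual.D A) :
    (RHom A).flip.obj L ⋙ (LTen A).obj K ⟶ (RHom A).flip.obj ((LTen₂ A).obj (K, L)) where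
  app M := evalTen K L M.unop
  naturality M M' g := by
    show tm (𝟙 K) (RHomMap g.unop L) ≫ evalTen K L M'.unop =
      evalTen K L M.unop ≫ RHomMap g.unop ((LTen₂ A).obj (K, L))
    rw [evalTen, evalTen, uncurry_comp, curry_RHomMap]
    refine congrArg _ ?_
    show tm (tm (𝟙 K) (RHomMap g.unop L)) (𝟙 _) ≫ (associator K _ M'.unop).hom ≫ tm (𝟙 K) (ev M'.unop L) =
      tm (𝟙 _) g.unop ≫ (associator K _ M.unop).hom ≫ tm (𝟙 K) (ev M.unop L)
    rw [← Category.assoc, associator_natural, Category.assoc, tm_comp,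
      show tm (RHomMap g.unop L) (𝟙 M'.unop) ≫ ev M'.unop L = tm (𝟙 _) g.unop ≫ ev M.unop L from
        RHom_map_ev g.unop L, ← tm_id K ((RHomR A M.unop).obj L)]
    rw [← Category.assoc (tm (tm _ _) _), associator_natural, Category.assoc, tm_comp]

theorem evalTen_iso_of_equivalence' (K L M : Dual.D A) [(tensorRightD A M).IsEquivalence] :
    IsIso (evalTen K L M) := by
  haveI : (RHomR A M).IsEquivalence := (rhomAdj A M).isEquivalence_right_of_isEquivalence_left
  haveI : IsIso (Prod.mkHom (𝟙 K) (ev M L)) := (isIso_prod_iff _ _).2 ⟨inferInstance, inferInstance⟩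
  haveI : IsIso (evalTenAux K L M) := by unfold evalTenAux; infer_instance
  show IsIso ((rhomAdj A M).homEquiv _ _ (evalTenAux K L M))
  rw [Adjunction.homEquiv_unit]
  infer_instance

theorem isIso_evalTen_right (K L M : Dual.D A) (hM : DRing.IsPerfect A M) :
    IsIso (evalTen K L M) :=
  isIso_app_of_isPerfect_op
    (fun T hT => (homExact_LTen_obj K).map_isTri (isTri_RHom L T hT))
    (fun T hT => homExact_id.map_isTri (isTri_RHom _ T hT))
    (evalTenNat' K L) (fun n => by
      haveI := isEquivalence_shiftUnit' (A := A) n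
      exact evalTen_iso_of_equivalence' K L _) hM

/-- `evalHom` in its first variable. -/
noncomputable def evalHomNat (L M : Dual.D A) :
    (LTen A).obj ((RHomR A L).obj M) ⟶ ((RHom A).flip.obj L).rightOp ⋙ (RHom A).flip.obj M where
  app K := evalHom K L M
  naturality K K' f := by
    show tm (𝟙 _) f ≫ evalHom K' L M = evalHom K L M ≫ RHomMap (RHomMap f L) M
    rw [evalHom, evalHom, uncurry_comp, curry_RHomMap]
    refine congrArg _ ?_
    show tm (tm (𝟙 _) f) (𝟙 _) ≫ (associator _ K' _).hom ≫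
        tm (𝟙 _) ((DTen.symm A).app ((RHomR A K').obj L, K') ≫ ev K' L) ≫ ev L M =
      tm (𝟙 _) (RHomMap f L) ≫ (associator _ K _).hom ≫
        tm (𝟙 _) ((DTen.symm A).app ((RHomR A K).obj L, K) ≫ ev K L) ≫ ev L M
    rw [← Category.assoc, associator_natural, Category.assoc, ← tm_id ((RHomR A L).obj M) K,
      ← Category.assoc (tm (tm _ _) _), associator_natural, Category.assoc,
      ← Category.assoc (tm _ (tm f _)), tm_comp, ← Category.assoc (tm _ (tm _ (RHomMap f L))), tm_comp]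
    refine congrArg (fun t => (associator _ K _).hom ≫ tm (𝟙 _ ≫ 𝟙 _) t ≫ ev L M) ?_
    rw [← Category.assoc, ← Category.assoc, symm_natural, symm_natural, Category.assoc, Category.assoc]
    exact congrArg _ (RHom_map_ev f L).symm

theorem evalHom_iso_of_equivalence (K L M : Dual.D A) [(tensorRightD A K).IsEquivalence] :
    IsIso (evalHom K L M) := by
  haveI : (RHomR A K).IsEquivalence := (rhomAdj A K).isEquivalence_right_of_isEquivalence_left
  haveI : IsIso ((DTen.symm A).app ((RHomR A K).obj L, K) ≫ ev K L) := inferInstance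
  let i := (DTen.symm A).app ((RHomR A K).obj L, K) ≫ ev K L
  have key : ∀ (Y : Dual.D A) (g : Y ⟶ (RHomR A L).obj M),
      tm g (𝟙 K) ≫ evalHom K L M = rhomHomEquiv _ _ _
        ((associator Y K ((RHomR A K).obj L)).hom ≫ tm (𝟙 Y) i ≫ tm g (𝟙 L) ≫ ev L M) := by
    intro Y g
    rw [evalHom, uncurry_comp]
    refine congrArg _ ?_
    show tm (tm g (𝟙 K)) (𝟙 _) ≫ (associator _ K _).hom ≫ tm (𝟙 _) i ≫ ev L M = _
    rw [← Category.assoc, associator_natural, Category.assoc, tm_id,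
      ← Category.assoc (tm g (𝟙 _)), tm_comp, ← Category.assoc (tm (𝟙 Y) i), tm_comp]
    simp
  have bij : ∀ X : Dual.D A, Function.Bijective
      fun f : X ⟶ (LTen₂ A).obj ((RHomR A L).obj M, K) => f ≫ evalHom K L M := by
    intro X
    let Y := (tensorRightD A K).objPreimage X
    let e : (LTen₂ A).obj (Y, K) ≅ X := (tensorRightD A K).objObjPreimageIso X
    haveI : IsIso (tm (𝟙 Y) i) := by
      haveI : IsIso (Prod.mkHom (𝟙 Y) i) := (isIso_prod_iff _ _).2 ⟨inferInstance, inferInstance⟩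
      infer_instance
    refine ⟨fun f f' h => ?_, fun φ => ?_⟩
    · obtain ⟨g, hg⟩ := (tensorRightD A K).map_surjective (e.hom ≫ f)
      obtain ⟨g', hg'⟩ := (tensorRightD A K).map_surjective (e.hom ≫ f')
      change tm g (𝟙 K) = e.hom ≫ f at hg
      change tm g' (𝟙 K) = e.hom ≫ f' at hg'
      have h' := congrArg (e.hom ≫ ·) h
      simp only [← Category.assoc, ← hg, ← hg', key] at h'
      have h2 := (rhomAdj A ((RHomR A K).obj L)).homEquiv _ _ |>.injective h'
      simp only [Category.assoc, cancel_epi] at h2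
      have h3 : g = g' := ((rhomAdj A L).homEquiv Y M).symm.injective (by
        rw [Adjunction.homEquiv_counit, Adjunction.homEquiv_counit]
        exact h2)
      rw [← cancel_epi e.hom, ← hg, ← hg', h3]
    · refine ⟨e.inv ≫ tm (rhomHomEquiv _ _ _ (inv (tm (𝟙 Y) i) ≫ (associator Y K _).inv ≫
        ((rhomAdj A _).homEquiv _ _).symm (e.hom ≫ φ))) (𝟙 K), ?_⟩
      show (e.inv ≫ _) ≫ _ = φ
      rw [Category.assoc, key, uncurry_curry, IsIso.hom_inv_id_assoc, Iso.hom_inv_id_assoc,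
        Equiv.apply_symm_apply, e.inv_hom_id_assoc]
  obtain ⟨g, hg⟩ := (bij _).2 (𝟙 _)
  exact ⟨g, (bij _).1 (by simp only [Category.assoc]; rw [show g ≫ evalHom K L M = 𝟙 _ from hg]; simp), hg⟩

theorem isIso_evalHom_of_isPerfect (K L M : Dual.D A) (hK : DRing.IsPerfect A K) :
    IsIso (evalHom K L M) :=
  isIso_app_of_isPerfect (homExact_LTen_obj _)
    (fun T hT => HomExactOp.map_isTri (F := (RHom A).flip.obj M)
      (fun T' hT' => homExact_id.map_isTri (isTri_RHom M T' hT')) (isTri_RHom L T hT))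
    (evalHomNat L M) (fun n => by
      haveI := isEquivalence_shiftUnit' (A := A) n
      exact evalHom_iso_of_equivalence _ L M) hK

theorem isIso_curryHom (K L M : Dual.D A) : IsIso (curryHom K L M) := by
  have key : ∀ (X : Dual.D A) (f : X ⟶ (RHomR A ((LTen₂ A).obj (K, L))).obj M),
      f ≫ curryHom K L M = rhomHomEquiv _ _ _ (rhomHomEquiv _ _ _
        ((associator X K L).hom ≫ tm f (𝟙 _) ≫ ev _ M)) := by
    intro X f
    rw [curryHom, uncurry_comp, uncurry_comp]
    refine congrArg _ (congrArg _ ?_)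
    show tm (tm f (𝟙 K)) (𝟙 L) ≫ (associator _ K L).hom ≫ ev _ M = _
    rw [← Category.assoc, associator_natural, Category.assoc, tm_id]
  have bij : ∀ X : Dual.D A, Function.Bijective
      fun f : X ⟶ (RHomR A ((LTen₂ A).obj (K, L))).obj M => f ≫ curryHom K L M := by
    intro X
    refine ⟨fun f f' h => ?_, fun φ => ?_⟩
    · simp only [key] at h
      have h2 := (cancel_epi _).1 (((rhomAdj A L).homEquiv _ _).injective
        (((rhomAdj A K).homEquiv _ _).injective h))
      exact ((rhomAdj A _).homEquiv X M).symm.injective (by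
        rw [Adjunction.homEquiv_counit, Adjunction.homEquiv_counit]; exact h2)
    · refine ⟨rhomHomEquiv _ _ _ ((associator X K L).inv ≫
        ((rhomAdj A L).homEquiv _ _).symm (((rhomAdj A K).homEquiv _ _).symm φ)), ?_⟩
      show _ ≫ _ = φ
      rw [key, uncurry_curry, Iso.hom_inv_id_assoc, Equiv.apply_symm_apply, Equiv.apply_symm_apply]
  obtain ⟨g, hg⟩ := (bij _).2 (𝟙 _)
  exact ⟨g, (bij _).1 (by simp only [Category.assoc]; rw [show g ≫ curryHom K L M = 𝟙 _ from hg]; simp), hg⟩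

end DTenLib
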