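import Groth.Agent.DTenLib.RhomBC
import Groth.Agent.DTenLib.Eval

/-!
# Base change of RHom out of a perfect complex
-/

set_option autoImplicit false

universe u v

open CategoryTheory CategoryTheory.Limits MonoidalCategory Pretriangulated Opposite
attribute [local instance] HasDerivedCategory.standard

namespace DTenLib

open DTen

section Instances

variable (A : Type u) [CommRing A] [HasLTen A]

omit [HasLTen A] in
theorem hasLTen₃ : HasLTen₃ A := by
  obtain ⟨G, α, hG, -⟩ := exists_derived₃ (A := A)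
  exact (Functor.hasLeftDerivedFunctor_iff (tensor₃ A) (QQQ A) (qis₃ A)).2
    (Functor.HasRightKanExtension.mk G α)

theorem isIso_unitL_app (K : Dual.D A) : IsIso ((unitL A).app K) := by
  obtain ⟨P, -, ⟨e⟩⟩ := exists_kf_rep K
  have : IsIso ((unitL A).app (DerivedCategory.Q.obj P)) := by
    have := isIso_ε (A := A) (𝟙_ (DRing.Cx A)) P (Or.inl kf_unit)
    rw [unitL_app]
    infer_instance
  exact isIso_app_of_iso (unitL A) e

theorem isIso_unitR_app (K : Dual.D A) : IsIso ((unitR A).app K) := by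
  obtain ⟨P, -, ⟨e⟩⟩ := exists_kf_rep K
  have : IsIso ((unitR A).app (DerivedCategory.Q.obj P)) := by
    have := isIso_ε (A := A) P (𝟙_ (DRing.Cx A)) (Or.inr kf_unit)
    rw [unitR_app]
    infer_instance
  exact isIso_app_of_iso (unitR A) e

theorem isSymMonoidal [HasLTen₃ A] : IsSymMonoidal A where
  isIso_symm := by
    have : ∀ X, IsIso ((DTen.symm A).app X) := fun X => isIso_symm_app X.1 X.2
    exact NatIso.isIso_of_isIso_app _
  isIso_unitL := by
    have : ∀ X, IsIso ((unitL A).app X) := isIso_unitL_app A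
    exact NatIso.isIso_of_isIso_app _
  isIso_unitR := by
    have : ∀ X, IsIso ((unitR A).app X) := isIso_unitR_app A
    exact NatIso.isIso_of_isIso_app _
  isIso_assocL := by
    have : ∀ X, IsIso ((assocL A).app X) := fun X => isIso_assocL X.1 X.2.1 X.2.2
    exact NatIso.isIso_of_isIso_app _
  isIso_assocR := by
    have : ∀ X, IsIso ((assocR A).app X) := fun X => isIso_assocR X.1 X.2.1 X.2.2
    exact NatIso.isIso_of_isIso_app _

theorem isEquivalence_RHomR_shiftUnit [HasRHom A] (n : ℤ) :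
    (RHomR A ((unit A)⟦n⟧)).IsEquivalence := by
  haveI := hasLTen₃ A
  haveI := isSymMonoidal A
  haveI := isEquivalence_shiftUnit' (A := A) n
  exact (rhomAdj A ((unit A)⟦n⟧)).isEquivalence_right_of_isEquivalence_left

end Instances

section Hetero

variable {R : Type u} [CommRing R] {D : Type v} [Category.{u + 1} D] [Preadditive D]

/-- A contravariant functor between possibly different categories sends triangles to exact pairs. -/
def HomExactOp' (F : (Dual.D R)ᵒᵖ ⥤ D) : Prop :=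
  ∀ T : Triangle (Dual.D R), T ∈ (distTriang (Dual.D R)) → Ex (F.map T.mor₂.op) (F.map T.mor₁.op)

/-- Perfect induction for contravariant functors to another category. -/
theorem isIso_app_of_isPerfect_op' {F G : (Dual.D R)ᵒᵖ ⥤ D} (hF : HomExactOp' F)
    (hG : HomExactOp' G) (τ : F ⟶ G) (h : ∀ n : ℤ, IsIso (τ.app (op ((unit R)⟦n⟧))))
    {K : Dual.D R} (hK : DRing.IsPerfect R K) : IsIso (τ.app (op K)) := by
  let P : ObjectProperty (Dual.D R) := fun X => ∀ n : ℤ, IsIso (τ.app (op (X⟦n⟧)))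
  haveI : P.IsClosedUnderIsomorphisms := ⟨fun {X Y} e hX n => by
    have := hX n
    exact isIso_app_of_iso τ ((shiftFunctor (Dual.D R) n).mapIso e).op.symm⟩
  have hshift : ∀ (X : Dual.D R) (n : ℤ), P X → P (X⟦n⟧) := fun X n hX m => by
    have := hX (n + m)
    exact isIso_app_of_iso τ ((shiftFunctorAdd (Dual.D R) n m).app X).op.symm
  have hext : ∀ T : Triangle (Dual.D R), T ∈ distTriang (Dual.D R) → P T.obj₁ → P T.obj₃ → P T.obj₂ := by
    intro T hT h₁ h₃ n
    let T' := (Triangle.shiftFunctor (Dual.D R) n).obj T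
    have hT' : T' ∈ distTriang (Dual.D R) := Triangle.shift_distinguished T hT n
    haveI : IsIso (τ.app (op T'.obj₁)) := h₁ n
    haveI : IsIso (τ.app (op T'.obj₃)) := h₃ n
    haveI : IsIso (τ.app (op T'.invRotate.obj₁)) := by
      show IsIso (τ.app (op ((T.obj₃⟦n⟧)⟦(-1 : ℤ)⟧)))
      have := h₃ (n + -1)
      exact isIso_app_of_iso τ ((shiftFunctorAdd (Dual.D R) n (-1)).app T.obj₃).op.symm
    haveI : IsIso (τ.app (op T'.rotate.obj₃)) := by
      show IsIso (τ.app (op ((T.obj₁⟦n⟧)⟦(1 : ℤ)⟧)))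
      have := h₁ (n + 1)
      exact isIso_app_of_iso τ ((shiftFunctorAdd (Dual.D R) n 1).app T.obj₁).op.symm
    exact @isIso_of_five D _ _ _ _ _ _ _ _ _ _ _ _ (F.map T'.rotate.mor₂.op) (F.map T'.mor₂.op)
      (F.map T'.mor₁.op) (F.map T'.invRotate.mor₁.op) (G.map T'.rotate.mor₂.op) (G.map T'.mor₂.op)
      (G.map T'.mor₁.op) (G.map T'.invRotate.mor₁.op)
      (τ.app (op T'.rotate.obj₃)) (τ.app (op T'.obj₃)) (τ.app (op T'.obj₂)) (τ.app (op T'.obj₁))
      (τ.app (op T'.invRotate.obj₁))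
      (hF _ (rot_of_distTriang _ hT')) (hF _ hT') (hF _ (inv_rot_of_distTriang _ hT'))
      (hG _ (rot_of_distTriang _ hT')) (hG _ hT') (hG _ (inv_rot_of_distTriang _ hT'))
      (τ.naturality _) (τ.naturality _) (τ.naturality _) (τ.naturality _) ‹_› ‹_› ‹_› ‹_›
  have hsum : ∀ (X Y : Dual.D R) [HasBinaryBiproduct X Y], P (X ⊞ Y) → P X := fun X Y _ hXY n => by
    have := hXY n
    let i : X⟦n⟧ ⟶ (X ⊞ Y)⟦n⟧ := (biprod.inl : X ⟶ X ⊞ Y)⟦n⟧'
    let r : (X ⊞ Y)⟦n⟧ ⟶ X⟦n⟧ := (biprod.fst : X ⊞ Y ⟶ X)⟦n⟧'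
    have hir : r.op ≫ i.op = 𝟙 _ := by
      rw [← op_comp, ← Functor.map_comp, biprod.inl_fst, CategoryTheory.Functor.map_id, op_id]
    exact isIso_of_retract (F.map r.op) (F.map i.op) (G.map r.op) (G.map i.op)
      (by rw [← F.map_comp, hir, F.map_id]) (by rw [← G.map_comp, hir, G.map_id])
      (τ.naturality r.op) (τ.naturality i.op)
  have hP : P K := Groth.Agent.S7010.result R P h hshift hext hsum K hK
  have := hP 0
  exact isIso_app_of_iso τ ((shiftFunctorZero (Dual.D R) ℤ).app K).op.symm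

end Hetero

variable {R R' : Type u} [CommRing R] [CommRing R'] (φ : R →+* R') [HasLBase φ] [HasLTen R] [HasRHom R]

/-- Derived base change is exact on distinguished triangles. -/
theorem isTri_LBase (T : Triangle (Dual.D R)) (hT : T ∈ distTriang (Dual.D R)) :
    IsTri ((LBase φ).map T.mor₁) ((LBase φ).map T.mor₂) := by
  obtain ⟨S, hS, hf₁, hf₂, hf₃, e₁, e₂, e₃, w₁, w₂⟩ := exists_split_rep_kf T hT
  let S' := S.map (extCx φ)
  have hS' : S'.ShortExact := HomologicalComplex.shortExact_of_degreewise_shortExact _ fun i =>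
    ((hS i).map (ModuleCat.extendScalars.{u, u, u} φ)).shortExact
  have hbase : IsTri (DerivedCategory.Q.map S'.f) (DerivedCategory.Q.map S'.g) :=
    IsTri.of_dist _ (DerivedCategory.triangleOfSES_distinguished hS')
  let i : ∀ {P : DRing.Cx R} {K : Dual.D R}, KF P → (DerivedCategory.Q.obj P ≅ K) →
      (DerivedCategory.Q.obj ((extCx φ).obj P) ≅ (LBase φ).obj K) :=
    fun {P _} hP f => (haveI := isIso_baseCmp φ hP; asIso ((baseCmp φ).app P)).symm ≪≫ (LBase φ).mapIso f
  have key : ∀ {P P' : DRing.Cx R} {K K' : Dual.D R} (hP : KF P) (hP' : KF P')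
      (f : DerivedCategory.Q.obj P ≅ K) (f' : DerivedCategory.Q.obj P' ≅ K') (a : P ⟶ P') (b : K ⟶ K'),
      f.hom ≫ b = DerivedCategory.Q.map a ≫ f'.hom →
      (i hP f).hom ≫ (LBase φ).map b = DerivedCategory.Q.map ((extCx φ).map a) ≫ (i hP' f').hom := by
    intro P P' K K' hP hP' f f' a b hab
    haveI := isIso_baseCmp φ hP
    haveI := isIso_baseCmp φ hP'
    show (inv ((baseCmp φ).app P) ≫ (LBase φ).map f.hom) ≫ (LBase φ).map b =
      _ ≫ inv ((baseCmp φ).app P') ≫ (LBase φ).map f'.hom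
    have h1 : (LBase φ).map (DerivedCategory.Q.map a) ≫ (baseCmp φ).app P' =
        (baseCmp φ).app P ≫ DerivedCategory.Q.map ((extCx φ).map a) := (baseCmp φ).naturality a
    rw [Category.assoc, ← Functor.map_comp, hab, Functor.map_comp, IsIso.inv_comp_eq,
      ← reassoc_of% h1, IsIso.hom_inv_id_assoc]
  exact hbase.of_iso (i hf₁ e₁) (i hf₂ e₂) (i hf₃ e₃) (key hf₁ hf₂ e₁ e₂ S.f _ w₁)
    (key hf₂ hf₃ e₂ e₃ S.g _ w₂)

theorem ex_LBase {a b c : Dual.D R} {f : a ⟶ b} {g : b ⟶ c} (h : IsTri f g) :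
    Ex ((LBase φ).map f) ((LBase φ).map g) := by
  obtain ⟨T, hT, e₁, e₂, e₃, w₁, w₂⟩ := h
  exact (homExact_id.map_isTri (isTri_LBase φ T hT)).of_iso ((LBase φ).mapIso e₁)
    ((LBase φ).mapIso e₂) ((LBase φ).mapIso e₃)
    (by
      rw [Functor.mapIso_hom, Functor.mapIso_hom, ← Functor.map_comp, w₁, Functor.map_comp]
      rfl)
    (by
      rw [Functor.mapIso_hom, Functor.mapIso_hom, ← Functor.map_comp, w₂, Functor.map_comp]
      rfl)

variable [HasLTen R'] [HasResTen φ] [ResLegIso φ] [HasRHom R']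

instance instIsIsoRhomBC (K : Dual.D R) (M : Dual.D R') : IsIso (rhomBC φ K M) := isIso_rhomBC φ K M

theorem rhomBC_natural {K K' : Dual.D R} (a : K' ⟶ K) (M : Dual.D R') :
    (DRing.restrictD φ).map (RHomMap ((LBase φ).map a) M) ≫ rhomBC φ K' M =
      rhomBC φ K M ≫ RHomMap a ((DRing.restrictD φ).obj M) := by
  apply ((rhomAdj R K').homEquiv _ _).symm.injective
  rw [Adjunction.homEquiv_naturality_left_symm, Adjunction.homEquiv_naturality_left_symm]
  have h1 : ((rhomAdj R K').homEquiv _ _).symm (rhomBC φ K' M) = rhomBCCore φ K' M :=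
    Equiv.symm_apply_apply _ _
  have h2 : ((rhomAdj R K).homEquiv _ _).symm (rhomBC φ K M) = rhomBCCore φ K M :=
    Equiv.symm_apply_apply _ _
  rw [Adjunction.homEquiv_counit] at h2
  rw [h1, Adjunction.homEquiv_counit]
  have h3 : (tensorRightD R K').map (RHomMap a ((DRing.restrictD φ).obj M)) ≫
      ev K' ((DRing.restrictD φ).obj M) =
      (LTen₂ R).map (Prod.mkHom (𝟙 _) a) ≫ ev K ((DRing.restrictD φ).obj M) := RHom_map_ev a _
  rw [h3]
  have h4 : (tensorRightD R K').map (rhomBC φ K M) ≫ (LTen₂ R).map (Prod.mkHom (𝟙 _) a) =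
      (LTen₂ R).map (Prod.mkHom (𝟙 _) a) ≫ (tensorRightD R K).map (rhomBC φ K M) := by
    show (LTen₂ R).map _ ≫ _ = _ ≫ (LTen₂ R).map _
    rw [← Functor.map_comp, ← Functor.map_comp]
    exact congrArg _ (Prod.ext ((Category.comp_id _).trans (Category.id_comp _).symm)
      ((Category.id_comp _).trans (Category.comp_id _).symm))
  rw [reassoc_of% h4]
  show _ = (LTen₂ R).map _ ≫ (tensorRightD R K).map (rhomBC φ K M) ≫ (rhomAdj R K).counit.app _
  rw [h2]
  show (LTen₂ R).map (Prod.mkHom ((DRing.restrictD φ).map (RHomMap ((LBase φ).map a) M)) (𝟙 K')) ≫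
    rhomBCCore φ K' M = (LTen₂ R).map (Prod.mkHom (𝟙 _) a) ≫ rhomBCCore φ K M
  have hn : ∀ {E E' : Dual.D R'} {F F' : Dual.D R'} (x : E ⟶ E') (y : F ⟶ F'),
      (LTen₂ R).map (Prod.mkHom ((DRing.restrictD φ).map x) ((DRing.restrictD φ).map y)) ≫
        (resPF φ).app (E', F') =
      (resPF φ).app (E, F) ≫ (DRing.restrictD φ).map ((LTen₂ R').map (Prod.mkHom x y)) :=
    fun x y => (resPF φ).naturality (Prod.mkHom x y)
  have hev : (LTen₂ R').map (Prod.mkHom (RHomMap ((LBase φ).map a) M) (𝟙 ((LBase φ).obj K'))) ≫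
      ev ((LBase φ).obj K') M =
      (LTen₂ R').map (Prod.mkHom (𝟙 _) ((LBase φ).map a)) ≫ ev ((LBase φ).obj K) M := RHom_map_ev _ M
  have hl := hn (RHomMap ((LBase φ).map a) M) (𝟙 ((LBase φ).obj K'))
  have hr := hn (𝟙 ((RHomR R' ((LBase φ).obj K)).obj M)) ((LBase φ).map a)
  rw [CategoryTheory.Functor.map_id] at hl hr
  have eL : Prod.mkHom ((DRing.restrictD φ).map (RHomMap ((LBase φ).map a) M)) (𝟙 K') ≫
      Prod.mkHom (𝟙 _) ((baseAdj φ).unit.app K') =
      Prod.mkHom (𝟙 _) ((baseAdj φ).unit.app K') ≫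
        Prod.mkHom ((DRing.restrictD φ).map (RHomMap ((LBase φ).map a) M))
          (𝟙 ((DRing.restrictD φ).obj ((LBase φ).obj K'))) :=
    Prod.ext ((Category.comp_id _).trans (Category.id_comp _).symm)
      ((Category.id_comp _).trans (Category.comp_id _).symm)
  have eR : Prod.mkHom (𝟙 ((DRing.restrictD φ).obj ((RHomR R' ((LBase φ).obj K)).obj M))) a ≫
      Prod.mkHom (𝟙 _) ((baseAdj φ).unit.app K) =
      Prod.mkHom (𝟙 _) ((baseAdj φ).unit.app K') ≫
        Prod.mkHom (𝟙 _) ((DRing.restrictD φ).map ((LBase φ).map a)) :=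
    Prod.ext rfl ((baseAdj φ).unit.naturality a)
  rw [rhomBCCore, rhomBCCore, ← Functor.map_comp_assoc, ← Functor.map_comp_assoc, eL, eR,
    Functor.map_comp_assoc, Functor.map_comp_assoc, reassoc_of% hl, reassoc_of% hr, ← Functor.map_comp,
    ← Functor.map_comp, hev]

theorem rhomBC_natural_right (K : Dual.D R) {M M' : Dual.D R'} (g : M ⟶ M') :
    (DRing.restrictD φ).map ((RHomR R' ((LBase φ).obj K)).map g) ≫ rhomBC φ K M' =
      rhomBC φ K M ≫ (RHomR R K).map ((DRing.restrictD φ).map g) := by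
  apply ((rhomAdj R K).homEquiv _ _).symm.injective
  rw [Adjunction.homEquiv_naturality_left_symm, Adjunction.homEquiv_naturality_right_symm]
  have h1 : ∀ N, ((rhomAdj R K).homEquiv _ _).symm (rhomBC φ K N) = rhomBCCore φ K N :=
    fun N => Equiv.symm_apply_apply _ _
  rw [h1, h1]
  show (LTen₂ R).map (Prod.mkHom ((DRing.restrictD φ).map ((RHomR R' ((LBase φ).obj K)).map g)) (𝟙 K)) ≫ _ = _
  have hn : (LTen₂ R).map (Prod.mkHom ((DRing.restrictD φ).map ((RHomR R' ((LBase φ).obj K)).map g))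
        ((DRing.restrictD φ).map (𝟙 ((LBase φ).obj K)))) ≫
        (resPF φ).app ((RHomR R' ((LBase φ).obj K)).obj M', (LBase φ).obj K) =
      (resPF φ).app ((RHomR R' ((LBase φ).obj K)).obj M, (LBase φ).obj K) ≫ (DRing.restrictD φ).map
        ((LTen₂ R').map (Prod.mkHom ((RHomR R' ((LBase φ).obj K)).map g) (𝟙 ((LBase φ).obj K)))) :=
    (resPF φ).naturality (Prod.mkHom ((RHomR R' ((LBase φ).obj K)).map g) (𝟙 ((LBase φ).obj K)))
  rw [CategoryTheory.Functor.map_id] at hn
  have hev : (LTen₂ R').map (Prod.mkHom ((RHomR R' ((LBase φ).obj K)).map g) (𝟙 ((LBase φ).obj K))) ≫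
      ev ((LBase φ).obj K) M' = ev ((LBase φ).obj K) M ≫ g :=
    (rhomAdj R' ((LBase φ).obj K)).counit.naturality g
  have eL : Prod.mkHom ((DRing.restrictD φ).map ((RHomR R' ((LBase φ).obj K)).map g)) (𝟙 K) ≫
      Prod.mkHom (𝟙 _) ((baseAdj φ).unit.app K) =
      Prod.mkHom (𝟙 _) ((baseAdj φ).unit.app K) ≫
        Prod.mkHom ((DRing.restrictD φ).map ((RHomR R' ((LBase φ).obj K)).map g))
          (𝟙 ((DRing.restrictD φ).obj ((LBase φ).obj K))) :=
    Prod.ext ((Category.comp_id _).trans (Category.id_comp _).symm)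
      ((Category.id_comp _).trans (Category.comp_id _).symm)
  rw [rhomBCCore, rhomBCCore, ← Functor.map_comp_assoc, eL, Functor.map_comp_assoc, reassoc_of% hn,
    ← Functor.map_comp, hev]
  simp only [Functor.map_comp, Category.assoc]

/-- The base change map of `RHom`, as a natural transformation in the first variable. -/
noncomputable def bcNat (M : Dual.D R) :
    (RHom R).flip.obj M ⋙ LBase φ ⟶ (LBase φ).op ⋙ (RHom R').flip.obj ((LBase φ).obj M) where
  app K := bcRHom φ K.unop M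
  naturality K K' a := by
    show (LBase φ).map (RHomMap a.unop M) ≫ bcRHom φ K'.unop M =
      bcRHom φ K.unop M ≫ RHomMap ((LBase φ).map a.unop) ((LBase φ).obj M)
    apply ((baseAdj φ).homEquiv _ _).injective
    rw [bcRHom, bcRHom, Adjunction.homEquiv_naturality_left, Adjunction.homEquiv_naturality_right,
      Equiv.apply_symm_apply, Equiv.apply_symm_apply,
      ← cancel_mono (rhomBC φ K'.unop ((LBase φ).obj M))]
    simp only [Category.assoc, IsIso.inv_hom_id, Category.comp_id]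
    rw [rhomBC_natural, IsIso.inv_hom_id_assoc]
    exact (((RHom R).map a).naturality ((baseAdj φ).unit.app M)).symm

theorem isIso_bcRHom_of_equivalence (K M : Dual.D R) [(RHomR R K).IsEquivalence]
    [(RHomR R' ((LBase φ).obj K)).IsEquivalence] : IsIso (bcRHom φ K M) := by
  let L := RHomR R' ((LBase φ).obj K)
  have key : ∀ {N : Dual.D R'} (g : (LBase φ).obj M ⟶ N),
      (baseAdj φ).homEquiv _ _ (bcRHom φ K M ≫ L.map g) ≫ rhomBC φ K N =
        (RHomR R K).map ((baseAdj φ).homEquiv _ _ g) := by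
    intro N g
    rw [Adjunction.homEquiv_naturality_right, bcRHom, Equiv.apply_symm_apply, Category.assoc,
      Category.assoc, rhomBC_natural_right, IsIso.inv_hom_id_assoc, ← Functor.map_comp,
      ← Adjunction.homEquiv_unit]
  have bij : ∀ N : Dual.D R', Function.Bijective fun f : L.obj ((LBase φ).obj M) ⟶ L.obj N =>
      bcRHom φ K M ≫ f := by
    intro N
    constructor
    · intro f f' h
      obtain ⟨g, rfl⟩ := L.map_surjective f
      obtain ⟨g', rfl⟩ := L.map_surjective f'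
      have h' := congrArg (fun t => (baseAdj φ).homEquiv _ _ t ≫ rhomBC φ K N) h
      have h2 := (key g).symm.trans (h'.trans (key g'))
      exact congrArg L.map (((baseAdj φ).homEquiv _ _).injective ((RHomR R K).map_injective h2))
    · intro f
      obtain ⟨q, hq⟩ := (RHomR R K).map_surjective ((baseAdj φ).homEquiv _ _ f ≫ rhomBC φ K N)
      refine ⟨L.map (((baseAdj φ).homEquiv _ _).symm q), ((baseAdj φ).homEquiv _ _).injective ?_⟩
      rw [← cancel_mono (rhomBC φ K N), key, Equiv.apply_symm_apply, hq]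
  let Y := L.objPreimage ((LBase φ).obj ((RHomR R K).obj M))
  let e : L.obj Y ≅ (LBase φ).obj ((RHomR R K).obj M) := L.objObjPreimageIso _
  obtain ⟨g, hg⟩ := (bij Y).2 e.inv
  change bcRHom φ K M ≫ g = e.inv at hg
  refine ⟨g ≫ e.hom, by rw [reassoc_of% hg, e.inv_hom_id], (bij ((LBase φ).obj M)).1 ?_⟩
  show bcRHom φ K M ≫ (g ≫ e.hom) ≫ bcRHom φ K M = bcRHom φ K M ≫ 𝟙 _
  rw [Category.assoc, reassoc_of% hg, Category.comp_id, e.inv_hom_id_assoc]

theorem nonempty_LBase_shiftUnit (n : ℤ) :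
    Nonempty ((LBase φ).obj ((unit R)⟦n⟧) ≅ (unit R')⟦n⟧) := by
  let o := 𝟙_ (DRing.Cx R)
  haveI := isIso_baseCmp φ (K := o⟦n⟧) (KFlatLib.isKFlat_shift kf_unit n)
  let e₀ : (extCx φ).obj o ≅ 𝟙_ (DRing.Cx R') :=
    (HomologicalComplex.singleMapHomologicalComplex (ModuleCat.extendScalars.{u, u, u} φ)
        (ComplexShape.up ℤ) 0).app (𝟙_ (ModuleCat.{u} R)) ≪≫
      (HomologicalComplex.single (ModuleCat.{u} R') (ComplexShape.up ℤ) 0).mapIso
        (Functor.Monoidal.εIso (ModuleCat.extendScalars.{u, u, u} φ)).symm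
  exact ⟨(LBase φ).mapIso ((DerivedCategory.Q.commShiftIso n).app o).symm ≪≫
    asIso ((baseCmp φ).app (o⟦n⟧)) ≪≫
      DerivedCategory.Q.mapIso (((extCx φ).commShiftIso n).app o ≪≫ (shiftFunctor _ n).mapIso e₀) ≪≫
        (DerivedCategory.Q.commShiftIso n).app (𝟙_ (DRing.Cx R'))⟩

theorem isIso_bcRHom_of_isPerfect (K M : Dual.D R) (hK : DRing.IsPerfect R K) :
    IsIso (bcRHom φ K M) :=
  isIso_app_of_isPerfect_op' (fun T hT => ex_LBase φ (isTri_RHom M T hT))
    (fun T hT => HomExactOp.map_isTri (F := (RHom R').flip.obj ((LBase φ).obj M))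
      (fun T' hT' => homExact_id.map_isTri (isTri_RHom _ T' hT')) (isTri_LBase φ T hT))
    (bcNat φ M) (fun n => by
      haveI := isEquivalence_RHomR_shiftUnit R n
      haveI : (RHomR R' ((LBase φ).obj ((unit R)⟦n⟧))).IsEquivalence := by
        obtain ⟨e⟩ := nonempty_LBase_shiftUnit φ n
        haveI := isEquivalence_RHomR_shiftUnit R' n
        exact @Functor.isEquivalence_of_iso _ _ _ _ (RHomR R' ((unit R')⟦n⟧)) _ ((RHom R').mapIso e.op) this
      exact isIso_bcRHom_of_equivalence φ _ M) hK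

end DTenLib
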