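import Groth.Agent.DTenLib.ProKoszul
import Mathlib.Algebra.Homology.BifunctorShift

/-!
# Homology of the Koszul systems of powers tensored with a complex
-/

set_option autoImplicit false

universe u

open CategoryTheory CategoryTheory.Limits MonoidalCategory HomologicalComplex
open Opposite (op unop)

namespace DTenLib

namespace ProKoszul

variable {A : Type u} [CommRing A]

/-- Tensoring on the right with a fixed complex. -/
noncomputable abbrev T (K : DRing.Cx A) : DRing.Cx A ⥤ DRing.Cx A :=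
  KFlatLib.bimap₁ (curriedTensor (ModuleCat.{u} A)) K

/-- The homology of `- ⊗ K`. -/
noncomputable abbrev H (K : DRing.Cx A) (i : ℤ) : DRing.Cx A ⥤ ModuleCat.{u} A :=
  T K ⋙ homologyFunctor (ModuleCat.{u} A) (ComplexShape.up ℤ) i

theorem T_map_smul (K : DRing.Cx A) {X Y : DRing.Cx A} (r : A) (φ : X ⟶ Y) :
    (T K).map (r • φ) = r • (T K).map φ := by
  ext n : 1
  refine mapBifunctor.hom_ext fun p q h => ?_
  refine (KFlatLib.ι_bimap₁_map _ K (r • φ) p q n h).trans ?_
  rw [smul_f_apply, smul_f_apply]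
  erw [Linear.comp_smul, KFlatLib.ι_bimap₁_map _ K φ p q n h, ← Linear.smul_comp]
  congr 1
  exact MonoidalLinear.smul_whiskerRight r (φ.f p) (K.X q)

theorem hmap_smul {X Y : DRing.Cx A} (r : A) (φ : X ⟶ Y) (i : ℤ) :
    homologyMap (r • φ) i = r • homologyMap φ i := by
  have : (shortComplexFunctor (ModuleCat.{u} A) (ComplexShape.up ℤ) i).map (r • φ) =
      r • (shortComplexFunctor (ModuleCat.{u} A) (ComplexShape.up ℤ) i).map φ := rfl
  exact (congrArg (ShortComplex.homologyFunctor (ModuleCat.{u} A)).map this).trans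
    ((ShortComplex.homologyFunctor (ModuleCat.{u} A)).map_smul r
      ((shortComplexFunctor (ModuleCat.{u} A) (ComplexShape.up ℤ) i).map φ))

theorem H_map_smul (K : DRing.Cx A) (i : ℤ) {X Y : DRing.Cx A} (r : A) (φ : X ⟶ Y) :
    (H K i).map (r • φ) = r • (H K i).map φ := by
  change homologyMap ((T K).map (r • φ)) i = r • homologyMap ((T K).map φ) i
  rw [T_map_smul, hmap_smul]

/-- Shifting. -/
noncomputable def HShiftIso (K : DRing.Cx A) (i : ℤ) (X : DRing.Cx A) :
    (H K i).obj (X⟦(1 : ℤ)⟧) ≅ (H K (i + 1)).obj X :=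
  (homologyFunctor (ModuleCat.{u} A) (ComplexShape.up ℤ) i).mapIso (((T K).commShiftIso (1 : ℤ)).app X) ≪≫
    ((homologyFunctor (ModuleCat.{u} A) (ComplexShape.up ℤ) 0).shiftIso (1 : ℤ) i (i + 1) (by omega)).app
      ((T K).obj X)

/-- The short exact sequence of one step. -/
noncomputable abbrev step (K : DRing.Cx A) (n : ℕ) (f : A) (fs : List A) : ShortComplex (DRing.Cx A) :=
  (CochainComplex.mappingCone.triangleRotateShortComplex (f ^ (n + 1) • 𝟙 (kObj n fs))).map (T K)

theorem step_shortExact (K : DRing.Cx A) (n : ℕ) (f : A) (fs : List A) : (step K n f fs).ShortExact :=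
  KFlatLib.shortExact_of_degSplit (KFlatLib.degSplitBimap₁ _ K
    (CochainComplex.mappingCone.triangleRotateShortComplexSplitting (f ^ (n + 1) • 𝟙 (kObj n fs))))

/-- The projection of a cone. -/
noncomputable abbrev kproj (n : ℕ) (f : A) (fs : List A) : kObj n (f :: fs) ⟶ (kObj n fs)⟦(1 : ℤ)⟧ :=
  (CochainComplex.mappingCone.triangle (f ^ (n + 1) • 𝟙 (kObj n fs))).mor₃

/-- The inclusion into a cone. -/
noncomputable abbrev kinr (n : ℕ) (f : A) (fs : List A) : kObj n fs ⟶ kObj n (f :: fs) :=
  CochainComplex.mappingCone.inr _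

theorem step_exact (K : DRing.Cx A) (n : ℕ) (f : A) (fs : List A) (i : ℤ) :
    (ShortComplex.mk ((H K i).map (kinr n f fs)) ((H K i).map (kproj n f fs)) (by
      rw [← Functor.map_comp]
      exact (congrArg (fun t => homologyMap t i) (((T K).map_comp _ _).trans (step K n f fs).zero)).trans
        (homologyMap_zero _ _ i))).Exact :=
  (step_shortExact K n f fs).homology_exact₂ i

theorem kproj_natural {n m : ℕ} (h : n ≤ m) (f : A) (fs : List A) :
    kproj m f fs ≫ (f ^ (m - n) • kmap h fs)⟦(1 : ℤ)⟧' = kmap h (f :: fs) ≫ kproj n f fs := by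
  have c : (f ^ (m + 1) • 𝟙 (kObj m fs)) ≫ kmap h fs =
      (f ^ (m - n) • kmap h fs) ≫ (f ^ (n + 1) • 𝟙 (kObj n fs)) := by
    simp only [Linear.smul_comp, Linear.comp_smul, Category.id_comp, Category.comp_id, smul_smul, ← pow_add]
    congr 2
    omega
  exact (CochainComplex.mappingCone.triangleMap _ _ _ _ c).comm₃

theorem kinr_natural {n m : ℕ} (h : n ≤ m) (f : A) (fs : List A) :
    kinr m f fs ≫ kmap h (f :: fs) = kmap h fs ≫ kinr n f fs := by
  change kinr m f fs ≫ CochainComplex.mappingCone.map _ _ _ _ _ = _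
  exact CochainComplex.mappingCone.inr_desc _ _ _ _

theorem smul_H_cone (K : DRing.Cx A) (i : ℤ) (r : A) (X : DRing.Cx A) :
    r • 𝟙 ((H K i).obj (CochainComplex.mappingCone (r • 𝟙 X))) = 0 := by
  have h1 := (mapBifunctorMapHomotopy₁ (coneSmulHomotopy r X) (𝟙 K) (curriedTensor (ModuleCat.{u} A))
    (ComplexShape.up ℤ)).homologyMap_eq i
  rw [← CategoryTheory.Functor.map_id, ← H_map_smul]
  exact h1.trans ((congrArg (fun t => homologyMap t i) ((T K).map_zero _ _)).trans (homologyMap_zero _ _ i))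

theorem smul_shift {X Y : DRing.Cx A} (r : A) (φ : X ⟶ Y) :
    (r • φ)⟦(1 : ℤ)⟧' = r • φ⟦(1 : ℤ)⟧' := rfl

variable [IsNoetherianRing A] (K : DRing.Cx A) (b : ℤ)
  (hK : ∀ i, i ≠ b → IsZero ((H K i).obj (𝟙_ (DRing.Cx A))))
  (hKf : Module.Finite A ((H K b).obj (𝟙_ (DRing.Cx A))))

include hK in
theorem isZero_H (n : ℕ) : ∀ (fs : List A) (i : ℤ), (i < b - fs.length ∨ b < i) →
    IsZero ((H K i).obj (kObj n fs))
  | [], i, hi => hK i (by simp at hi; omega)
  | f :: fs, i, hi => by
    simp only [List.length_cons, Nat.cast_add, Nat.cast_one] at hi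
    exact (step_exact K n f fs i).isZero_X₂ ((isZero_H n fs i (by omega)).eq_of_src _ _)
      (((isZero_H n fs (i + 1) (by omega)).of_iso (HShiftIso K i (kObj n fs))).eq_of_tgt _ _)

include hK hKf in
theorem finite_H (n : ℕ) : ∀ (fs : List A) (i : ℤ), Module.Finite A ((H K i).obj (kObj n fs))
  | [], i => by
    by_cases hi : i = b
    · subst hi; exact hKf
    · haveI : Subsingleton ((H K i).obj (kObj n ([] : List A))) := ModuleCat.subsingleton_of_isZero (hK i hi)
      exact Module.Finite.of_finite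
  | f :: fs, i => by
    have e := step_exact K n f fs i
    rw [ShortComplex.ShortExact.moduleCat_exact_iff_function_exact] at e
    haveI := finite_H n fs i
    haveI := finite_H n fs (i + 1)
    haveI : Module.Finite A ((H K i).obj ((kObj n fs)⟦(1 : ℤ)⟧)) :=
      Module.Finite.equiv (HShiftIso K i (kObj n fs)).toLinearEquiv.symm
    let g := ((H K i).map (kproj n f fs)).hom
    exact Module.Finite.of_exact (g := g.rangeRestrict) (f := ((H K i).map (kinr n f fs)).hom)
      (fun x => by rw [← e x]; simp [g, Subtype.ext_iff]) g.surjective_rangeRestrict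

theorem exists_pow_smul_eq_zero {M : Type u} [AddCommGroup M] [Module A M] [Module.Finite A M] (f : A) :
    ∃ c : ℕ, ∀ (k : ℕ) (x : M), f ^ k • x = 0 → f ^ c • x = 0 := by
  let t : ℕ →o Submodule A M :=
    ⟨fun k => LinearMap.ker (LinearMap.lsmul A M (f ^ k)), fun k l h x hx => by
      simp only [LinearMap.mem_ker, LinearMap.lsmul_apply] at hx ⊢
      rw [← Nat.sub_add_cancel h, pow_add, mul_smul, hx, smul_zero]⟩
  obtain ⟨c, hc⟩ := monotone_stabilizes_iff_noetherian.mpr (inferInstanceAs (IsNoetherian A M)) t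
  refine ⟨c, fun k x hx => ?_⟩
  have : x ∈ t (max c k) := t.monotone (le_max_right c k) (LinearMap.mem_ker.2 hx)
  rw [← hc _ (le_max_left c k)] at this
  exact LinearMap.mem_ker.1 this

theorem smul_apply_eq_zero {M : ModuleCat.{u} A} {r : A} (h : r • 𝟙 M = 0) (x : M) : r • x = 0 :=
  congr($h x)

include hK hKf in
theorem exists_H_map_eq_zero : ∀ (fs : List A) (i : ℤ), i < b →
    ∀ n : ℕ, ∃ (m : ℕ) (h : n ≤ m), (H K i).map (kmap h fs) = 0
  | [], i, hi, n => ⟨n, le_rfl, (hK i hi.ne).eq_of_src _ _⟩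
  | f :: fs, i, hi, n => by
    obtain ⟨p, hp, hz⟩ := exists_H_map_eq_zero fs i hi n
    haveI := finite_H K b hK hKf p fs (i + 1)
    haveI : Module.Finite A ((H K i).obj ((kObj p fs)⟦(1 : ℤ)⟧)) :=
      Module.Finite.equiv (HShiftIso K i (kObj p fs)).toLinearEquiv.symm
    obtain ⟨c, hc⟩ := exists_pow_smul_eq_zero (M := (H K i).obj ((kObj p fs)⟦(1 : ℤ)⟧)) f
    have hpm : p ≤ p + c := Nat.le_add_right p c
    refine ⟨p + c, hp.trans hpm, ?_⟩
    ext x
    rw [kmap_comp hp hpm, Functor.map_comp, ModuleCat.comp_apply]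
    let y := (H K i).map (kproj (p + c) f fs) x
    have hy : f ^ (p + c + 1) • y = 0 := by
      rw [← map_smul]
      exact (congrArg _ (smul_apply_eq_zero (smul_H_cone K i (f ^ (p + c + 1)) (kObj (p + c) fs)) x)).trans
        (map_zero _)
    let w := (H K i).map ((kmap hpm fs)⟦(1 : ℤ)⟧') y
    have hw : f ^ (p + c + 1) • w = 0 := by rw [← map_smul, hy, map_zero]
    have hgx : (H K i).map (kproj p f fs) ((H K i).map (kmap hpm (f :: fs)) x) = 0 := by
      rw [← ModuleCat.comp_apply, ← Functor.map_comp, ← kproj_natural hpm f fs, Functor.map_comp,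
        ModuleCat.comp_apply, smul_shift, H_map_smul, Nat.add_sub_cancel_left]
      exact hc _ w hw
    have e := step_exact K p f fs i
    rw [ShortComplex.ShortExact.moduleCat_exact_iff_function_exact] at e
    obtain ⟨z, hz'⟩ := (e _).1 hgx
    rw [← hz']
    change (H K i).map (kmap hp (f :: fs)) ((H K i).map (kinr p f fs) z) = 0
    rw [← ModuleCat.comp_apply, ← Functor.map_comp, kinr_natural, Functor.map_comp, ModuleCat.comp_apply, hz]
    exact map_zero _

include hK in
theorem epi_kincl (n : ℕ) : ∀ fs : List A, Epi ((H K b).map (kincl n fs))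
  | [] => by
    change Epi ((H K b).map (𝟙 _))
    rw [CategoryTheory.Functor.map_id]
    infer_instance
  | f :: fs => by
    haveI := epi_kincl n fs
    haveI : Epi ((H K b).map (kinr n f fs)) := (step_exact K n f fs b).epi_f
      (((isZero_H K b hK n fs (b + 1) (by omega)).of_iso (HShiftIso K b (kObj n fs))).eq_of_tgt _ _)
    change Epi ((H K b).map (kincl n fs ≫ kinr n f fs))
    rw [Functor.map_comp]
    infer_instance

theorem smul_kincl (n : ℕ) : ∀ (fs : List A), ∀ g ∈ fs, g ^ (n + 1) • (H K b).map (kincl n fs) = 0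
  | [], g, hg => absurd hg List.not_mem_nil
  | f :: fs, g, hg => by
    change g ^ (n + 1) • (H K b).map (kincl n fs ≫ kinr n f fs) = 0
    rw [Functor.map_comp]
    rcases List.mem_cons.1 hg with rfl | hg
    · have h0 := smul_H_cone K b (g ^ (n + 1)) (kObj n fs)
      rw [← Category.comp_id ((H K b).map (kinr n g fs)), ← Linear.comp_smul, ← Linear.comp_smul]
      exact (congrArg (fun t => _ ≫ _ ≫ t) h0).trans ((congrArg _ comp_zero).trans comp_zero)
    · rw [← Linear.smul_comp, smul_kincl n fs g hg, zero_comp]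

end ProKoszul

end DTenLib
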