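import Groth.Agent.DTenLib.HomCx
import Groth.Agent.DRingLib.PCoh
import Mathlib.Algebra.Homology.HomotopyCategory.HomComplexCohomology
import Mathlib.Algebra.Homology.DerivedCategory.KProjective

/-!
# Quasi-isomorphisms between Hom complexes
-/

set_option autoImplicit false

universe u

open CategoryTheory CategoryTheory.Limits HomologicalComplex
open CochainComplex.HomComplex
attribute [local instance] HasDerivedCategory.standard

namespace DTenLib

variable {A : Type u} [CommRing A]

/-- A map of complexes of modules which is bijective on cycles modulo boundaries. -/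
theorem quasiIso_of_cycles {X Y : DRing.Cx A} (f : X ⟶ Y)
    (surj : ∀ (i : ℤ) (y : Y.X i), (Y.d i (i + 1)).hom y = 0 →
      ∃ x : X.X i, (X.d i (i + 1)).hom x = 0 ∧
        ∃ w, (Y.d (i - 1) i).hom w = (f.f i).hom x - y)
    (inj : ∀ (i : ℤ) (x : X.X i), (X.d i (i + 1)).hom x = 0 →
      (∃ w, (Y.d (i - 1) i).hom w = (f.f i).hom x) → ∃ v, (X.d (i - 1) i).hom v = x) :
    QuasiIso f := by
  refine ⟨fun i => ?_⟩
  rw [quasiIsoAt_iff' f (i - 1) i (i + 1) (by simp) (by simp)]
  let g := (HomologicalComplex.shortComplexFunctor' (ModuleCat.{u} A) (ComplexShape.up ℤ) (i - 1) i (i + 1)).map f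
  let S₁ := X.sc' (i - 1) i (i + 1)
  let S₂ := Y.sc' (i - 1) i (i + 1)
  have w : g.τ₂.hom.comp S₁.g.hom.ker.subtype =
      g.τ₂.hom.comp S₁.g.hom.ker.subtype := rfl
  rw [ShortComplex.LeftHomologyMapData.quasiIso_iff
    (φ := g) ({
      φK := ModuleCat.ofHom ((g.τ₂.hom.comp S₁.g.hom.ker.subtype).codRestrict S₂.g.hom.ker
        (fun z => by
          show S₂.g.hom (g.τ₂.hom z.1) = 0
          have h := congr($(g.comm₂₃).hom z.1)
          refine h.trans ?_
          exact (congrArg g.τ₃.hom (LinearMap.mem_ker.1 z.2)).trans (map_zero _)))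
      φH := ModuleCat.ofHom (Submodule.mapQ _ _
        ((g.τ₂.hom.comp S₁.g.hom.ker.subtype).codRestrict S₂.g.hom.ker
          (fun z => by
            show S₂.g.hom (g.τ₂.hom z.1) = 0
            have h := congr($(g.comm₂₃).hom z.1)
            refine h.trans ?_
            exact (congrArg g.τ₃.hom (LinearMap.mem_ker.1 z.2)).trans (map_zero _)))
        (by
          rintro _ ⟨v, rfl⟩
          exact ⟨g.τ₁.hom v, Subtype.ext congr($(g.comm₁₂).hom v)⟩))
      commi := rfl
      commf' := ModuleCat.hom_ext (LinearMap.ext fun v => Subtype.ext congr($(g.comm₁₂).hom v).symm)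
      commπ := rfl } :
      ShortComplex.LeftHomologyMapData g S₁.moduleCatLeftHomologyData S₂.moduleCatLeftHomologyData)]
  refine (ConcreteCategory.isIso_iff_bijective _).2 ⟨?_, ?_⟩
  · intro a b hab
    obtain ⟨a, rfl⟩ := Submodule.Quotient.mk_surjective _ a
    obtain ⟨b, rfl⟩ := Submodule.Quotient.mk_surjective _ b
    refine (Submodule.Quotient.eq _).2 ?_
    obtain ⟨w, hw⟩ := (Submodule.Quotient.eq _).1 hab
    obtain ⟨v, hv⟩ := inj i (a.1 - b.1) (LinearMap.mem_ker.1 (a - b).2) ⟨w, by
      refine (congrArg Subtype.val hw).trans ?_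
      exact (map_sub (f.f i).hom a.1 b.1).symm⟩
    exact ⟨v, Subtype.ext hv⟩
  · intro y
    obtain ⟨y, rfl⟩ := Submodule.Quotient.mk_surjective _ y
    obtain ⟨x, hx, w, hw⟩ := surj i y.1 (LinearMap.mem_ker.1 y.2)
    exact ⟨Submodule.Quotient.mk ⟨x, hx⟩, (Submodule.Quotient.eq _).2 ⟨w, Subtype.ext hw⟩⟩

/-- Cocycles from their value on the Hom complex. -/
def cocycleOf {P I : DRing.Cx A} {n : ℤ} (z : (DRing.homCx P I).X n)
    (hz : ((DRing.homCx P I).d n (n + 1)).hom z = 0) : Cocycle P I n :=
  Cocycle.mk (ap z) (n + 1) rfl hz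

/-- A chain map seen in degree `n` of a Hom complex. -/
theorem d_coe_cocycle {P I : DRing.Cx A} {n : ℤ} (w : Cocycle P I n) :
    ((DRing.homCx P I).d n (n + 1)).hom (w : Cochain P I n) = 0 :=
  Cocycle.δ_eq_zero w (n + 1)

theorem exists_eq_δ_iff {P I : DRing.Cx A} {n : ℤ} (w : Cocycle P I n) :
    (∃ β, ((DRing.homCx P I).d (n - 1) n).hom β = (w : Cochain P I n)) ↔
      CohomologyClass.toHom (CohomologyClass.mk w) = 0 := by
  rw [CohomologyClass.toHom_mk_eq_zero_iff, mem_coboundaries_iff w (n - 1) (by omega)]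
  exact Iff.rfl

section Pre

variable {P P' I : DRing.Cx A}

theorem equivHomShift_symm_pre {n : ℤ} (a : P ⟶ P') (w : Cocycle P' I n) (w' : Cocycle P I n)
    (h : (w' : Cochain P I n) = ((homPre I a).f n).hom (w : Cochain P' I n)) :
    Cocycle.equivHomShift.symm w' = a ≫ Cocycle.equivHomShift.symm w := by
  refine HomologicalComplex.hom_ext _ _ fun p => ?_
  have h' : (w' : Cochain P I n).v p (p + n) rfl = a.f p ≫ (w : Cochain P' I n).v p (p + n) rfl := by
    rw [h]; rfl
  simp [Cocycle.equivHomShift, Cocycle.rightShift, Cochain.rightShift_v _ n 0 (by omega) p p (by omega)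
    (p + n) rfl, h']
  rfl

/-- Precomposition with a quasi-isomorphism, into a K-injective complex. -/
theorem quasiIso_homPre (a : P ⟶ P') [QuasiIso a] [I.IsKInjective] : QuasiIso (homPre I a) := by
  let q := HomotopyCategory.quotient (ModuleCat.{u} A) (ComplexShape.up ℤ)
  have hbij : ∀ n : ℤ, Function.Bijective fun f : q.obj P' ⟶ q.obj (I⟦n⟧) => q.map a ≫ f := by
    intro n
    haveI : IsIso (DerivedCategory.Qh.map (q.map a)) :=
      inferInstanceAs (IsIso (DerivedCategory.Q.map a))
    have hQ := fun X : DRing.Cx A => CochainComplex.IsKInjective.Qh_map_bijective (q.obj X) (I⟦n⟧)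
    constructor
    · intro f f' h
      refine (hQ P').1 ((cancel_epi (DerivedCategory.Qh.map (q.map a))).1 ?_)
      rw [← Functor.map_comp, ← Functor.map_comp]
      exact congrArg _ h
    · intro g
      obtain ⟨f, hf⟩ := (hQ P').2 (inv (DerivedCategory.Qh.map (q.map a)) ≫ DerivedCategory.Qh.map g)
      refine ⟨f, (hQ P).1 ?_⟩
      show DerivedCategory.Qh.map (q.map a ≫ f) = DerivedCategory.Qh.map g
      rw [Functor.map_comp, hf, IsIso.hom_inv_id_assoc]
  refine quasiIso_of_cycles _ (fun n z hz => ?_) fun n x hx ⟨w, hw⟩ => ?_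
  · obtain ⟨f, hf⟩ := (hbij n).2 (q.map (Cocycle.equivHomShift.symm (cocycleOf z hz)))
    obtain ⟨f, rfl⟩ := q.map_surjective f
    let w := Cocycle.equivHomShift f
    refine ⟨(w : Cochain P' I n), d_coe_cocycle w, ?_⟩
    let w' : Cocycle P I n := cocycleOf (((homPre I a).f n).hom (w : Cochain P' I n)) (by
      have h := congr($((homPre I a).comm n (n + 1)).hom (w : Cochain P' I n))
      exact h.trans ((congrArg ((homPre I a).f (n + 1)).hom (d_coe_cocycle w)).trans (map_zero _)))
    refine (exists_eq_δ_iff (w' - cocycleOf z hz)).2 ?_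
    rw [CohomologyClass.mk_sub, map_sub, CohomologyClass.toHom_mk, CohomologyClass.toHom_mk,
      equivHomShift_symm_pre a w w' rfl, AddEquiv.symm_apply_apply, Functor.map_comp, sub_eq_zero]
    exact hf
  · have h1 := (exists_eq_δ_iff (cocycleOf (((homPre I a).f n).hom x) (by
      have h := congr($((homPre I a).comm n (n + 1)).hom x)
      exact h.trans ((congrArg ((homPre I a).f (n + 1)).hom hx).trans (map_zero _))))).1 ⟨w, hw⟩
    refine (exists_eq_δ_iff (cocycleOf x hx)).2 ((hbij n).1 ?_)
    rw [CohomologyClass.toHom_mk, equivHomShift_symm_pre a (cocycleOf x hx) _ rfl, Functor.map_comp] at h1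
    show q.map a ≫ _ = q.map a ≫ 0
    rw [comp_zero, CohomologyClass.toHom_mk]
    exact h1

end Pre

section Post

variable {P I I' : DRing.Cx A}

theorem equivHomShift_symm_post {n : ℤ} (b : I ⟶ I') (w : Cocycle P I n) (w' : Cocycle P I' n)
    (h : (w' : Cochain P I' n) = ((DRing.homCxMap P b).f n).hom (w : Cochain P I n)) :
    Cocycle.equivHomShift.symm w' = Cocycle.equivHomShift.symm w ≫ b⟦n⟧' := by
  refine HomologicalComplex.hom_ext _ _ fun p => ?_
  have h' : (w' : Cochain P I' n).v p (p + n) rfl = (w : Cochain P I n).v p (p + n) rfl ≫ b.f (p + n) := by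
    rw [h]
    exact Cochain.comp_zero_cochain_v _ _ _ _ _
  simp [Cocycle.equivHomShift, Cocycle.rightShift, Cochain.rightShift_v _ n 0 (by omega) p p (by omega)
    (p + n) rfl, h']
  erw [Category.comp_id, Category.comp_id]
  rfl

/-- Postcomposition with a quasi-isomorphism, out of a K-projective complex. -/
theorem quasiIso_homCxMap [P.IsKProjective] (b : I ⟶ I') [QuasiIso b] :
    QuasiIso (DRing.homCxMap P b) := by
  let q := HomotopyCategory.quotient (ModuleCat.{u} A) (ComplexShape.up ℤ)
  have hbij : ∀ n : ℤ, Function.Bijective fun f : q.obj P ⟶ q.obj (I⟦n⟧) => f ≫ q.map (b⟦n⟧') := by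
    intro n
    haveI : QuasiIso (b⟦n⟧') :=
      (CochainComplex.quasiIso_shift_iff b n).2 inferInstance
    haveI : IsIso (DerivedCategory.Qh.map (q.map (b⟦n⟧'))) :=
      inferInstanceAs (IsIso (DerivedCategory.Q.map (b⟦n⟧')))
    have hQ := fun X : DRing.Cx A => CochainComplex.IsKProjective.Qh_map_bijective P (q.obj X)
    constructor
    · intro f f' h
      refine (hQ _).1 ((cancel_mono (DerivedCategory.Qh.map (q.map (b⟦n⟧')))).1 ?_)
      rw [← Functor.map_comp, ← Functor.map_comp]
      exact congrArg _ h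
    · intro g
      obtain ⟨f, hf⟩ := (hQ _).2 (DerivedCategory.Qh.map g ≫ inv (DerivedCategory.Qh.map (q.map (b⟦n⟧'))))
      refine ⟨f, (hQ _).1 ?_⟩
      show DerivedCategory.Qh.map (f ≫ q.map (b⟦n⟧')) = DerivedCategory.Qh.map g
      rw [Functor.map_comp, hf, Category.assoc, IsIso.inv_hom_id, Category.comp_id]
  refine quasiIso_of_cycles _ (fun n z hz => ?_) fun n x hx ⟨w, hw⟩ => ?_
  · obtain ⟨f, hf⟩ := (hbij n).2 (q.map (Cocycle.equivHomShift.symm (cocycleOf z hz)))
    obtain ⟨f, rfl⟩ := q.map_surjective f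
    let w := Cocycle.equivHomShift f
    refine ⟨(w : Cochain P I n), d_coe_cocycle w, ?_⟩
    let w' : Cocycle P I' n := cocycleOf (((DRing.homCxMap P b).f n).hom (w : Cochain P I n)) (by
      have h := congr($((DRing.homCxMap P b).comm n (n + 1)).hom (w : Cochain P I n))
      exact h.trans ((congrArg ((DRing.homCxMap P b).f (n + 1)).hom (d_coe_cocycle w)).trans (map_zero _)))
    refine (exists_eq_δ_iff (w' - cocycleOf z hz)).2 ?_
    rw [CohomologyClass.mk_sub, map_sub, CohomologyClass.toHom_mk, CohomologyClass.toHom_mk,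
      equivHomShift_symm_post b w w' rfl, AddEquiv.symm_apply_apply, Functor.map_comp, sub_eq_zero]
    exact hf
  · have h1 := (exists_eq_δ_iff (cocycleOf (((DRing.homCxMap P b).f n).hom x) (by
      have h := congr($((DRing.homCxMap P b).comm n (n + 1)).hom x)
      exact h.trans ((congrArg ((DRing.homCxMap P b).f (n + 1)).hom hx).trans (map_zero _))))).1 ⟨w, hw⟩
    refine (exists_eq_δ_iff (cocycleOf x hx)).2 ((hbij n).1 ?_)
    rw [CohomologyClass.toHom_mk, equivHomShift_symm_post b (cocycleOf x hx) _ rfl, Functor.map_comp] at h1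
    show _ ≫ q.map (b⟦n⟧') = 0 ≫ q.map (b⟦n⟧')
    rw [zero_comp, CohomologyClass.toHom_mk]
    exact h1

end Post

end DTenLib
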