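import Groth.Agent.DTenLib.CoInd
import Groth.Agent.DRingLib.KFlat
import Groth.Agent.KFlatLib.RingBaseChange
import Groth.Prelude.Def_DTen5
import Mathlib.RingTheory.Finiteness.Projective

/-!
# Tensoring commutes with the Hom complex out of a bounded complex of finite projective modules
-/

set_option autoImplicit false

universe u

open CategoryTheory CategoryTheory.Limits MonoidalCategory HomologicalComplex
open CochainComplex.HomComplex
attribute [local instance] HasDerivedCategory.standard

namespace DTenLib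

open DTen

variable {R : Type u} [CommRing R] {E J P : DRing.Cx R}

/-- `z ⊗ x` as a family of maps `E^p ⟶ (J ⊗ P)^{p+n}`. -/
noncomputable def asV {a : ℤ} (z : Cochain E J a) {q n : ℤ} (h : a + q = n) (x : P.X q)
    (p m : ℤ) (hp : p + n = m) : E.X p ⟶ (J ⊗ P).X m :=
  (p * q).negOnePow • ModuleCat.ofHom
    ((KFlatLib.ιT J P (p + a) q m (by omega)).hom ∘ₗ
      (TensorProduct.mk R (J.X (p + a)) (P.X q)).flip x ∘ₗ (z.v p (p + a) rfl).hom)

theorem asV_apply {a : ℤ} (z : Cochain E J a) {q n : ℤ} (h : a + q = n) (x : P.X q)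
    (p m : ℤ) (hp : p + n = m) (y : E.X p) :
    (asV z h x p m hp).hom y = (p * q).negOnePow •
      (KFlatLib.ιT J P (p + a) q m (by omega)).hom ((z.v p (p + a) rfl).hom y ⊗ₜ x) := rfl

theorem ιT_cast {p p' q m : ℤ} (hpp : p = p') (h : p + q = m) (x : P.X q)
    (v : ∀ r : ℤ, r = p → J.X r) :
    (KFlatLib.ιT J P p q m h).hom (v p rfl ⊗ₜ x) =
      (KFlatLib.ιT J P p' q m (by omega)).hom (v p' hpp.symm ⊗ₜ x) := by
  subst hpp; rfl

/-- `(J' ⊗ P) → Hom(E, J ⊗ P)` for `J' = Hom(E, J)`, in degree `n`. -/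
noncomputable def asF (E J P : DRing.Cx R) (n : ℤ) :
    (DRing.homCx E J ⊗ P).X n ⟶ (DRing.homCx E (J ⊗ P)).X n :=
  mapBifunctorDesc (F := curriedTensor (ModuleCat.{u} R)) (c := ComplexShape.up ℤ)
    fun a q (h : a + q = n) => ModuleCat.MonoidalCategory.tensorLift
      (fun (z : (DRing.homCx E J).X a) (x : P.X q) =>
        (Cochain.mk fun p m hp => asV (ap z) h x p m hp : Cochain E (J ⊗ P) n))
      (fun z z' x => Cochain.ext _ _ fun p m hp => ModuleCat.hom_ext (LinearMap.ext fun y => by
        show (asV (ap z + ap z') h x p m hp).hom y = (asV (ap z) h x p m hp).hom y + (asV (ap z') h x p m hp).hom y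
        rw [asV_apply, asV_apply, asV_apply, Cochain.add_v, ModuleCat.hom_add, LinearMap.add_apply,
          TensorProduct.add_tmul, map_add, smul_add]))
      (fun c z x => Cochain.ext _ _ fun p m hp => ModuleCat.hom_ext (LinearMap.ext fun y => by
        show (asV (c • ap z) h x p m hp).hom y = c • (asV (ap z) h x p m hp).hom y
        rw [asV_apply, asV_apply, Cochain.smul_v, ModuleCat.hom_smul, LinearMap.smul_apply,
          ← TensorProduct.smul_tmul', map_smul, smul_comm]))
      (fun z x x' => Cochain.ext _ _ fun p m hp => ModuleCat.hom_ext (LinearMap.ext fun y => by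
        show (asV (ap z) h (x + x') p m hp).hom y = (asV (ap z) h x p m hp).hom y + (asV (ap z) h x' p m hp).hom y
        rw [asV_apply, asV_apply, asV_apply, TensorProduct.tmul_add, map_add, smul_add]))
      (fun c z x => Cochain.ext _ _ fun p m hp => ModuleCat.hom_ext (LinearMap.ext fun y => by
        show (asV (ap z) h (c • x) p m hp).hom y = c • (asV (ap z) h x p m hp).hom y
        rw [asV_apply, asV_apply, TensorProduct.tmul_smul, map_smul, smul_comm]))

theorem asF_ι (a q n : ℤ) (h : a + q = n) (z : (DRing.homCx E J).X a) (x : P.X q)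
    (p m : ℤ) (hp : p + n = m) :
    (ap ((asF E J P n).hom ((KFlatLib.ιT (DRing.homCx E J) P a q n h).hom (z ⊗ₜ x)))).v p m hp =
      asV (ap z) h x p m hp := by
  have h1 : KFlatLib.ιT (DRing.homCx E J) P a q n h ≫ asF E J P n = _ := ι_mapBifunctorDesc _ a q h
  exact congrArg (fun t : Cochain E (J ⊗ P) n => t.v p m hp) congr($(h1).hom (z ⊗ₜ x))

/-- `Hom(E, J) ⊗ P ⟶ Hom(E, J ⊗ P)`. -/
noncomputable def asCx (E J P : DRing.Cx R) : DRing.homCx E J ⊗ P ⟶ DRing.homCx E (J ⊗ P) where
  f n := asF E J P n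
  comm' := by
    rintro n n' (hn : n + 1 = n')
    refine mapBifunctor.hom_ext fun a q (h : a + q = n) => ModuleCat.MonoidalCategory.tensor_ext fun z x => ?_
    refine Cochain.ext _ _ fun p m hp => ModuleCat.hom_ext (LinearMap.ext fun y => ?_)
    change ((ap (((DRing.homCx E (J ⊗ P)).d n n').hom ((asF E J P n).hom
        ((KFlatLib.ιT (DRing.homCx E J) P a q n h).hom (z ⊗ₜ x))))).v p m hp).hom y =
      ((ap ((asF E J P n').hom (((KFlatLib.tT (DRing.homCx E J) P).d n n').hom
        ((KFlatLib.ιT (DRing.homCx E J) P a q n h).hom (z ⊗ₜ x))))).v p m hp).hom y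
    rw [homCx_d_v hn _ p m hp (m - 1) (p + 1) rfl rfl, tensor_d_apply a q n n' h hn, map_add,
      Units.smul_def a.negOnePow, map_zsmul, asF_ι, asF_ι]
    show _ = ((ap ((asF E J P n').hom _) + a.negOnePow.val • ap ((asF E J P n').hom _)).v p m hp).hom y
    rw [Cochain.add_v, Cochain.smul_v, ModuleCat.hom_add, LinearMap.add_apply, ModuleCat.hom_zsmul,
      LinearMap.smul_apply, asF_ι, asF_ι, asV_apply, asV_apply, asV_apply, asV_apply]
    simp only [Units.smul_def, map_zsmul]
    have hd : ((J ⊗ P).d (m - 1) m).hom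
        ((KFlatLib.ιT J P (p + a) q (m - 1) (by omega)).hom (((ap z).v p (p + a) rfl).hom y ⊗ₜ x)) =
        (KFlatLib.ιT J P (p + a + 1) q m (by omega)).hom
            ((J.d (p + a) (p + a + 1)).hom (((ap z).v p (p + a) rfl).hom y) ⊗ₜ x) +
          (p + a).negOnePow • (KFlatLib.ιT J P (p + a) (q + 1) m (by omega)).hom
            (((ap z).v p (p + a) rfl).hom y ⊗ₜ (P.d q (q + 1)).hom x) :=
      tensor_d_apply (p + a) q (m - 1) m (by omega) (by omega) _ x
    have hz := homCx_d_v (show a + 1 = a + 1 from rfl) z p (p + (a + 1)) rfl (p + a) (p + 1) (by omega) rfl y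
    rw [hz, hd, TensorProduct.add_tmul, map_add, Units.smul_def (a + 1).negOnePow,
      ← TensorProduct.smul_tmul', map_zsmul]
    rw [ιT_cast (show p + a + 1 = p + (a + 1) by omega) (show p + a + 1 + q = m by omega) x
        (fun r hr => (J.d (p + a) r).hom (((ap z).v p (p + a) rfl).hom y)),
      ιT_cast (show p + 1 + a = p + (a + 1) by omega) (show p + 1 + a + q = m by omega) x
        (fun r hr => ((ap z).v (p + 1) r (by omega)).hom ((E.d p (p + 1)).hom y))]
    simp only [Units.smul_def, smul_add, smul_smul]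
    have e1 : ((p * q).negOnePow : ℤ) * ((p + a).negOnePow : ℤ) =
        (a.negOnePow : ℤ) * ((p * (q + 1)).negOnePow : ℤ) := by
      rw [← Units.val_mul, ← Units.val_mul, ← Int.negOnePow_add, ← Int.negOnePow_add,
        show p * q + (p + a) = a + p * (q + 1) by ring]
    have e2 : (n'.negOnePow : ℤ) * (((p + 1) * q).negOnePow : ℤ) =
        ((p * q).negOnePow : ℤ) * ((a + 1).negOnePow : ℤ) := by
      rw [← Units.val_mul, ← Units.val_mul, ← Int.negOnePow_add, ← Int.negOnePow_add,
        show n' + (p + 1) * q = p * q + (a + 1) + (q + q) by rw [← hn, ← h]; ring,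
        Int.negOnePow_add _ (q + q), Int.negOnePow_even _ ⟨q, rfl⟩, mul_one]
    rw [e1, e2]
    abel

theorem sum_signs {M : Type*} [AddCommGroup M] (k : ℤ) (v : M) :
    k.negOnePow • k.negOnePow • v = v := by
  rw [smul_smul, Int.units_mul_self, one_smul]

section Inverse

variable {b₀ b₁ : ℤ} (hE : DRing.VanishesOutside E b₀ b₁)
  (k : ℤ → ℕ) (bs : ∀ p, Fin (k p) → E.X p) (co : ∀ p, Fin (k p) → (E.X p →ₗ[R] R))

/-- The cochain `y ↦ f y • j` concentrated in one degree. -/
noncomputable def oneCochain {p r a : ℤ} (f : E.X p →ₗ[R] R) (j : J.X r) : Cochain E J a :=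
  Cochain.single (ModuleCat.ofHom (f.smulRight j)) a

theorem oneCochain_add {p r a : ℤ} (f : E.X p →ₗ[R] R) (j j' : J.X r) :
    (oneCochain (a := a) f (j + j')) = oneCochain f j + oneCochain f j' := by
  refine Cochain.ext _ _ fun p' r' h => ?_
  by_cases hp : p' = p ∧ r' = r
  · obtain ⟨rfl, rfl⟩ := hp
    rw [Cochain.add_v, oneCochain, oneCochain, oneCochain, Cochain.single_v, Cochain.single_v, Cochain.single_v]
    exact ModuleCat.hom_ext (LinearMap.ext fun y => smul_add _ _ _)
  · rw [Cochain.add_v]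
    rcases not_and_or.1 hp with hp | hp
    · simp [oneCochain, Cochain.single_v_eq_zero _ _ _ _ _ hp]
    · simp [oneCochain, Cochain.single_v_eq_zero' _ _ _ _ _ hp]

theorem oneCochain_smul {p r a : ℤ} (f : E.X p →ₗ[R] R) (c : R) (j : J.X r) :
    (oneCochain (a := a) f (c • j)) = c • oneCochain f j := by
  refine Cochain.ext _ _ fun p' r' h => ?_
  by_cases hp : p' = p ∧ r' = r
  · obtain ⟨rfl, rfl⟩ := hp
    rw [Cochain.smul_v, oneCochain, oneCochain, Cochain.single_v, Cochain.single_v]
    exact ModuleCat.hom_ext (LinearMap.ext fun y => smul_comm _ _ _)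
  · rw [Cochain.smul_v]
    rcases not_and_or.1 hp with hp | hp
    · simp [oneCochain, Cochain.single_v_eq_zero _ _ _ _ _ hp]
    · simp [oneCochain, Cochain.single_v_eq_zero' _ _ _ _ _ hp]

/-- The component of the inverse at the basis element `i` in degree `p`. -/
noncomputable def invPart (n p : ℤ) (f : E.X p →ₗ[R] R) :
    (J ⊗ P).X (p + n) ⟶ (DRing.homCx E J ⊗ P).X n :=
  mapBifunctorDesc (F := curriedTensor (ModuleCat.{u} R)) (c := ComplexShape.up ℤ)
    fun r q (h : r + q = p + n) => ModuleCat.MonoidalCategory.tensorLift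
      (fun (j : J.X r) (x : P.X q) => (p * q).negOnePow •
        (KFlatLib.ιT (DRing.homCx E J) P (r - p) q n (by omega)).hom
          ((oneCochain f j : (DRing.homCx E J).X (r - p)) ⊗ₜ x))
      (fun j j' x => by
        rw [← smul_add, ← map_add, ← TensorProduct.add_tmul, oneCochain_add]
        rfl)
      (fun c j x => by
        refine (congrArg (fun t => (p * q).negOnePow • t)
          ((congrArg (fun t : (DRing.homCx E J).X (r - p) => (KFlatLib.ιT (DRing.homCx E J) P (r - p) q n (by omega)).hom (t ⊗ₜ x))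
            (oneCochain_smul f c j)).trans ?_)).trans (smul_comm _ _ _)
        exact (congrArg _ (TensorProduct.smul_tmul' c _ x).symm).trans (map_smul _ _ _))
      (fun j x x' => by rw [← smul_add, ← map_add, ← TensorProduct.tmul_add])
      (fun c j x => (congrArg (fun t => (p * q).negOnePow • t)
        ((congrArg _ (TensorProduct.tmul_smul c _ x)).trans (map_smul _ _ _))).trans (smul_comm _ _ _))

theorem invPart_ι (n p : ℤ) (f : E.X p →ₗ[R] R) (r q : ℤ) (h : r + q = p + n) (j : J.X r) (x : P.X q) :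
    (invPart n p f).hom ((KFlatLib.ιT J P r q (p + n) h).hom (j ⊗ₜ x)) = (p * q).negOnePow •
      (KFlatLib.ιT (DRing.homCx E J) P (r - p) q n (by omega)).hom
        ((oneCochain f j : (DRing.homCx E J).X (r - p)) ⊗ₜ x) := by
  have h1 : KFlatLib.ιT J P r q (p + n) h ≫ invPart n p f = _ := ι_mapBifunctorDesc _ r q h
  exact congr($(h1).hom (j ⊗ₜ x))

theorem asF_invPart (n p : ℤ) (f : E.X p →ₗ[R] R) (w : (J ⊗ P).X (p + n)) (p' m : ℤ)
    (hp' : p' + n = m) (y : E.X p') :
    ((ap ((asF E J P n).hom ((invPart n p f).hom w))).v p' m hp').hom y =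
      if hpp : p' = p then (J ⊗ P).XIsoOfEq (by omega : p + n = m) |>.hom.hom (f (hpp ▸ y) • w) else 0 := by
  let L : (J ⊗ P).X (p + n) ⟶ (J ⊗ P).X m :=
    if hpp : p' = p then f (hpp ▸ y) • ((J ⊗ P).XIsoOfEq (by omega : p + n = m)).hom else 0
  let W : (J ⊗ P).X (p + n) ⟶ (J ⊗ P).X m := invPart n p f ≫ asF E J P n ≫ ModuleCat.ofHom
    { toFun := fun t => ((ap t).v p' m hp').hom y
      map_add' := fun _ _ => rfl
      map_smul' := fun _ _ => rfl }
  suffices hWL : W = L by
    refine congr($(hWL).hom w).trans ?_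
    show (L).hom w = _
    dsimp only [L]
    split_ifs with hpp
    · rw [ModuleCat.hom_smul, LinearMap.smul_apply, map_smul]
    · rfl
  refine mapBifunctor.hom_ext fun r q h => ModuleCat.MonoidalCategory.tensor_ext fun j x => ?_
  change ((ap ((asF E J P n).hom ((invPart n p f).hom
    ((KFlatLib.ιT J P r q (p + n) h).hom (j ⊗ₜ x))))).v p' m hp').hom y =
    L.hom ((KFlatLib.ιT J P r q (p + n) h).hom (j ⊗ₜ x))
  rw [invPart_ι, Units.smul_def, map_zsmul]
  show (((p * q).negOnePow.val • ap ((asF E J P n).hom _)).v p' m hp').hom y = _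
  rw [Cochain.smul_v, ModuleCat.hom_zsmul, LinearMap.smul_apply, asF_ι, asV_apply]
  dsimp only [L]
  split_ifs with hpp
  · subst hpp
    obtain rfl : p' + n = m := hp'
    rw [← Units.smul_def, sum_signs]
    have e : ((ap (oneCochain f j : (DRing.homCx E J).X (r - p'))).v p' (p' + (r - p')) rfl).hom y =
        (J.XIsoOfEq (by omega : r = p' + (r - p'))).hom.hom (f y • j) := by
      have aux : ∀ (r' : ℤ) (hr : r' = r) (hh : p' + (r - p') = r'),
          ((oneCochain f j : Cochain E J (r - p')).v p' r' hh).hom y =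
            (J.XIsoOfEq hr.symm).hom.hom (f y • j) := by
        rintro r' rfl hh
        simp only [oneCochain, Cochain.single_v]
        simp [HomologicalComplex.XIsoOfEq]
      exact aux _ (by omega) rfl
    rw [e]
    have aux2 : ∀ (r' : ℤ) (hr : r = r') (h' : r' + q = p' + n),
        (KFlatLib.ιT J P r' q (p' + n) h').hom ((J.XIsoOfEq hr).hom.hom (f y • j) ⊗ₜ x) =
          f y • (KFlatLib.ιT J P r q (p' + n) h).hom (j ⊗ₜ x) := by
      intro r' hr h'
      subst hr
      simp [HomologicalComplex.XIsoOfEq, ← TensorProduct.smul_tmul']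
    rw [aux2 (p' + (r - p')) (by omega) (by have h' : r + q = p' + n := h; omega)]
    simp [HomologicalComplex.XIsoOfEq]
  · have e : (ap (oneCochain f j : (DRing.homCx E J).X (r - p))).v p' (p' + (r - p)) rfl = 0 :=
      Cochain.single_v_eq_zero _ _ _ _ _ hpp
    rw [e]
    simp

/-- The inverse of `asF`. -/
noncomputable def asInv (b₀ b₁ n : ℤ) :
    (DRing.homCx E (J ⊗ P)).X n ⟶ (DRing.homCx E J ⊗ P).X n :=
  ModuleCat.ofHom
    { toFun := fun W => ∑ p ∈ Finset.Icc b₀ b₁, ∑ i : Fin (k p),
        (invPart n p (co p i)).hom (((ap W).v p (p + n) rfl).hom (bs p i))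
      map_add' := fun W W' => by
        rw [← Finset.sum_add_distrib]
        refine Finset.sum_congr rfl fun p _ => ?_
        rw [← Finset.sum_add_distrib]
        exact Finset.sum_congr rfl fun i _ => map_add _ _ _
      map_smul' := fun c W => by
        rw [RingHom.id_apply, Finset.smul_sum]
        refine Finset.sum_congr rfl fun p _ => ?_
        rw [Finset.smul_sum]
        exact Finset.sum_congr rfl fun i _ => map_smul _ _ _ }

theorem asInv_apply (n : ℤ) (W : (DRing.homCx E (J ⊗ P)).X n) :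
    (asInv k bs co b₀ b₁ n).hom W = ∑ p ∈ Finset.Icc b₀ b₁, ∑ i : Fin (k p),
      (invPart n p (co p i)).hom (((ap W).v p (p + n) rfl).hom (bs p i)) := by
  rfl

variable (hbasis : ∀ p (y : E.X p), ∑ i, co p i y • bs p i = y)

include hE hbasis in
theorem isIso_asF (n : ℤ) : IsIso (asF E J P n) := by
  have hmem : ∀ p (y : E.X p), y ≠ 0 → p ∈ Finset.Icc b₀ b₁ := by
    intro p y hy
    by_contra hp
    rw [Finset.mem_Icc] at hp
    have := ModuleCat.subsingleton_of_isZero (hE p (by omega))
    exact hy (Subsingleton.elim _ _)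
  refine ⟨asInv k bs co b₀ b₁ n, ?_, ?_⟩
  · refine mapBifunctor.hom_ext fun a q (h : a + q = n) => ModuleCat.MonoidalCategory.tensor_ext fun z x => ?_
    show (asInv k bs co b₀ b₁ n).hom ((asF E J P n).hom
      ((KFlatLib.ιT (DRing.homCx E J) P a q n h).hom (z ⊗ₜ x))) =
        (KFlatLib.ιT (DRing.homCx E J) P a q n h).hom (z ⊗ₜ x)
    rw [asInv_apply]
    have hterm : ∀ p i, (invPart n p (co p i)).hom (((ap ((asF E J P n).hom
        ((KFlatLib.ιT (DRing.homCx E J) P a q n h).hom (z ⊗ₜ x)))).v p (p + n) rfl).hom (bs p i)) =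
        (KFlatLib.ιT (DRing.homCx E J) P a q n h).hom
          ((oneCochain (co p i) (((ap z).v p (p + a) rfl).hom (bs p i)) : (DRing.homCx E J).X a) ⊗ₜ x) := by
      intro p i
      rw [asF_ι, asV_apply, Units.smul_def, map_zsmul, invPart_ι, ← Units.smul_def, sum_signs]
      have aux : ∀ (a' : ℤ) (ha : a = a') (h' : a' + q = n),
          (KFlatLib.ιT (DRing.homCx E J) P a' q n h').hom
            ((oneCochain (co p i) (((ap z).v p (p + a) rfl).hom (bs p i)) : (DRing.homCx E J).X a') ⊗ₜ x) =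
          (KFlatLib.ιT (DRing.homCx E J) P a q n h).hom
            ((oneCochain (co p i) (((ap z).v p (p + a) rfl).hom (bs p i)) : (DRing.homCx E J).X a) ⊗ₜ x) := by
        rintro a' rfl h'; rfl
      exact aux _ (by omega) (by omega)
    simp only [hterm, ← map_sum]
    refine congrArg (KFlatLib.ιT (DRing.homCx E J) P a q n h).hom ?_
    refine (Finset.sum_congr rfl fun p _ => (TensorProduct.sum_tmul _ _ _).symm).trans
      ((TensorProduct.sum_tmul _ _ _).symm.trans ?_)
    refine congrArg (fun t : (DRing.homCx E J).X a => t ⊗ₜ[R] x) ?_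
    refine Cochain.ext _ _ fun p r hr => ModuleCat.hom_ext (LinearMap.ext fun y => ?_)
    obtain rfl : p + a = r := hr
    let g : (DRing.homCx E J).X a →ₗ[R] J.X (p + a) :=
      { toFun := fun t => ((ap t).v p (p + a) rfl).hom y
        map_add' := fun _ _ => rfl
        map_smul' := fun _ _ => rfl }
    show g _ = g z
    refine ((map_sum g _ _).trans (Finset.sum_congr rfl fun p' _ => map_sum g _ _)).trans ?_
    rw [Finset.sum_eq_single p]
    · show ∑ i, ((oneCochain (co p i) _ : Cochain E J a).v p (p + a) rfl).hom y = _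
      simp only [oneCochain, Cochain.single_v]
      show ∑ i, co p i y • ((ap z).v p (p + a) rfl).hom (bs p i) = _
      simp only [← map_smul, ← map_sum, hbasis]
      rfl
    · intro p' _ hp'
      refine Finset.sum_eq_zero fun i _ => ?_
      show ((oneCochain (co p' i) _ : Cochain E J a).v p (p + a) rfl).hom y = 0
      rw [oneCochain, Cochain.single_v_eq_zero _ _ _ _ _ (Ne.symm hp')]
      rfl
    · intro hp
      have hy : y = 0 := by
        by_contra hy
        exact hp (hmem p y hy)
      refine Finset.sum_eq_zero fun i _ => ?_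
      show ((oneCochain (co p i) _ : Cochain E J a).v p (p + a) rfl).hom y = 0
      rw [hy, map_zero]
  · refine ModuleCat.hom_ext (LinearMap.ext fun W => ?_)
    show (asF E J P n).hom ((asInv k bs co b₀ b₁ n).hom W) = W
    refine Cochain.ext _ _ fun p m hp => ModuleCat.hom_ext (LinearMap.ext fun y => ?_)
    let g : (DRing.homCx E (J ⊗ P)).X n →ₗ[R] (J ⊗ P).X m :=
      { toFun := fun t => ((ap t).v p m hp).hom y
        map_add' := fun _ _ => rfl
        map_smul' := fun _ _ => rfl }
    show g ((asF E J P n).hom _) = g W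
    rw [asInv_apply, map_sum, map_sum]
    simp only [map_sum]
    rw [Finset.sum_eq_single p]
    · show ∑ i, ((ap ((asF E J P n).hom ((invPart n p (co p i)).hom _))).v p m hp).hom y = _
      obtain rfl : p + n = m := hp
      simp only [asF_invPart, dif_pos]
      show ∑ i, (𝟙 ((J ⊗ P).X (p + n))).hom (co p i y • ((ap W).v p (p + n) rfl).hom (bs p i)) = _
      simp only [ModuleCat.hom_id, LinearMap.id_apply, ← map_smul, ← map_sum, hbasis]
      rfl
    · intro p' _ hp'
      refine Finset.sum_eq_zero fun i _ => ?_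
      show ((ap ((asF E J P n).hom ((invPart n p' (co p' i)).hom _))).v p m hp).hom y = 0
      rw [asF_invPart, dif_neg (Ne.symm hp')]
    · intro hp'
      have hy : y = 0 := by
        by_contra hy
        exact hp' (hmem p y hy)
      refine Finset.sum_eq_zero fun i _ => ?_
      show ((ap ((asF E J P n).hom ((invPart n p (co p i)).hom _))).v p m hp).hom y = 0
      rw [hy, map_zero]

end Inverse

theorem quasiIso_asCx {b₀ b₁ : ℤ} (hE : DRing.VanishesOutside E b₀ b₁)
    (hP : DRing.TermwiseFiniteProjective E) : QuasiIso (asCx E J P) := by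
  have h : ∀ p, ∃ (k : ℕ) (bs : Fin k → E.X p) (co : Fin k → (E.X p →ₗ[R] R)),
      ∀ y, ∑ i, co i y • bs i = y := by
    intro p
    haveI := (hP p).1
    haveI := (hP p).2
    obtain ⟨k, f, g, -, -, hfg⟩ := Module.Finite.exists_comp_eq_id_of_projective R (E.X p)
    refine ⟨k, fun i => f (Pi.single i 1), fun i => (LinearMap.proj i).comp g, fun y => ?_⟩
    show ∑ i, g y i • f (Pi.single i 1) = y
    simp only [← map_smul, ← map_sum]
    rw [← pi_eq_sum_univ' (g y)]
    exact LinearMap.congr_fun hfg y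
  choose k bs co hb using h
  haveI : ∀ n, IsIso ((asCx E J P).f n) := fun n => isIso_asF hE k bs co hb n
  haveI : IsIso (asCx E J P) := HomologicalComplex.Hom.isIso_of_components _
  infer_instance

section Proj

variable {A : Type u} [CommRing A] (φ : R →+* A)

/-- The projection map `res C ⊗ P ⟶ res (C ⊗ ext P)`. -/
noncomputable def prCx (C : DRing.Cx A) (P : DRing.Cx R) :
    (resCx φ).obj C ⊗ P ⟶ (resCx φ).obj (C ⊗ (extCx φ).obj P) :=
  (𝟙 ((resCx φ).obj C) ⊗ₘ (unitCx φ).app P) ≫ resTenCx φ C ((extCx φ).obj P)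

theorem prCx_naturality (C : DRing.Cx A) {P P' : DRing.Cx R} (f : P ⟶ P') :
    (𝟙 ((resCx φ).obj C) ⊗ₘ f) ≫ prCx φ C P' =
      prCx φ C P ≫ (resCx φ).map (𝟙 C ⊗ₘ (extCx φ).map f) := by
  rw [prCx, prCx, Category.assoc, ← resTenCx_naturality, ← Category.assoc, ← Category.assoc,
    MonoidalCategory.tensorHom_comp_tensorHom, MonoidalCategory.tensorHom_comp_tensorHom,
    CategoryTheory.Functor.map_id]
  refine congrArg (fun t => CategoryStruct.comp t (resTenCx φ C ((extCx φ).obj P'))) ?_
  exact congrArg (fun t => 𝟙 ((resCx φ).obj C) ≫ 𝟙 ((resCx φ).obj C) ⊗ₘ t) ((unitCx φ).naturality f)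

theorem prCx_ι (C : DRing.Cx A) (P : DRing.Cx R) (a q n : ℤ) (h : a + q = n) (c : C.X a) (x : P.X q) :
    ((prCx φ C P).f n).hom ((KFlatLib.ιT ((resCx φ).obj C) P a q n h).hom
      ((show ((resCx φ).obj C).X a from c) ⊗ₜ[R] x)) =
      (ιTensorObj C ((extCx φ).obj P) a q n h).hom
        (c ⊗ₜ[A] (((ModuleCat.extendRestrictScalarsAdj.{u, u, u} φ).unit.app (P.X q)).hom x :
          ((extCx φ).obj P).X q)) := by
  let xr : ((resCx φ).obj ((extCx φ).obj P)).X q := (((unitCx φ).app P).f q).hom x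
  have h1 : ((𝟙 ((resCx φ).obj C) ⊗ₘ (unitCx φ).app P).f n).hom
      ((KFlatLib.ιT ((resCx φ).obj C) P a q n h).hom ((show ((resCx φ).obj C).X a from c) ⊗ₜ[R] x)) =
      (KFlatLib.ιT ((resCx φ).obj C) ((resCx φ).obj ((extCx φ).obj P)) a q n h).hom
        ((show ((resCx φ).obj C).X a from c) ⊗ₜ[R] xr) :=
    congr($(KFlatLib.ιT_tMap (𝟙 ((resCx φ).obj C)) ((unitCx φ).app P) a q n h).hom
      ((show ((resCx φ).obj C).X a from c) ⊗ₜ[R] x))
  refine (congrArg ((resTenCx φ C ((extCx φ).obj P)).f n).hom h1).trans ?_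
  exact congr($(ι_resTenCx φ C ((extCx φ).obj P) a q n h).hom ((show ((resCx φ).obj C).X a from c) ⊗ₜ[R] xr))

theorem isIso_prCx (C : DRing.Cx A) (P : DRing.Cx R) : IsIso (prCx φ C P) := by
  let e₁ := KFlatLib.totalMapIso (KFlatLib.extTensor φ) (curriedTensor (ModuleCat.{u} R))
    (ModuleCat.restrictScalars φ) (𝟭 (ModuleCat.{u} R)) (ModuleCat.restrictScalars φ)
    (fun a b => asIso (KFlatLib.projHom φ a b)) (fun f b => KFlatLib.projHom_natural_left φ f b)
    (fun a {_ _} g => KFlatLib.projHom_natural_right φ a g) C P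
  let e₂ := KFlatLib.totalMapIso (KFlatLib.extTensor φ) (curriedTensor (ModuleCat.{u} A))
    (𝟭 (ModuleCat.{u} A)) (ModuleCat.extendScalars.{u, u, u} φ) (𝟭 (ModuleCat.{u} A))
    (fun _ _ => Iso.refl _) (fun _ _ => (Category.comp_id _).trans (Category.id_comp _).symm)
    (fun _ {_ _} _ => (Category.comp_id _).trans (Category.id_comp _).symm) C P
  let j : C ⊗ (extCx φ).obj P ≅ mapBifunctor C P (KFlatLib.extTensor φ) (ComplexShape.up ℤ) := e₂
  have h : prCx φ C P ≫ (resCx φ).map j.hom = e₁.hom := by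
    refine HomologicalComplex.hom_ext _ _ fun n => mapBifunctor.hom_ext fun a q (h : a + q = n) =>
      ModuleCat.MonoidalCategory.tensor_ext fun c x => ?_
    show (j.hom.f n).hom (((prCx φ C P).f n).hom ((KFlatLib.ιT ((resCx φ).obj C) P a q n h).hom
      (c ⊗ₜ[R] x))) = (e₁.hom.f n).hom ((KFlatLib.ιT ((resCx φ).obj C) P a q n h).hom (c ⊗ₜ[R] x))
    refine (congrArg (j.hom.f n).hom (prCx_ι φ C P a q n h c x)).trans ?_
    refine (congr($(KFlatLib.ι_totalMapHom (KFlatLib.extTensor φ) (curriedTensor (ModuleCat.{u} A))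
      (𝟭 (ModuleCat.{u} A)) (ModuleCat.extendScalars.{u, u, u} φ) (𝟭 (ModuleCat.{u} A))
      (fun _ _ => Iso.refl _) C P a q n h).hom _)).trans ?_
    refine Eq.trans ?_ (congr($(KFlatLib.ι_totalMapHom (KFlatLib.extTensor φ) (curriedTensor (ModuleCat.{u} R))
      (ModuleCat.restrictScalars φ) (𝟭 (ModuleCat.{u} R)) (ModuleCat.restrictScalars φ)
      (fun a b => asIso (KFlatLib.projHom φ a b)) C P a q n h).hom (c ⊗ₜ[R] x))).symm
    refine congrArg ((ιMapBifunctor C P (KFlatLib.extTensor φ) (ComplexShape.up ℤ) a q n h)).hom ?_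
    exact (ModuleCat.restrictScalars_μ_tmul φ (C.X a) ((ModuleCat.extendScalars.{u, u, u} φ).obj (P.X q))
      c _).symm
  have : IsIso (prCx φ C P ≫ (resCx φ).map j.hom) := by rw [h]; infer_instance
  exact IsIso.of_isIso_comp_right _ ((resCx φ).map j.hom)

end Proj

end DTenLib
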