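import Groth.Agent.DTenLib.BCPerfect
import Groth.Agent.DTenLib.Bounds
import Groth.Agent.DRingLib.TorBalance

/-!
# Base change of RHom out of a pseudo-coherent object along a map of finite tor dimension
-/

set_option autoImplicit false

universe u

open CategoryTheory CategoryTheory.Limits MonoidalCategory HomologicalComplex Pretriangulated Opposite
attribute [local instance] HasDerivedCategory.standard

namespace DTenLib

open DTen
open Groth.Agent (DRingLib.Hn)

theorem isLE_shiftUnit (A : Type u) [CommRing A] (j : ℤ) :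
    DerivedCategory.IsLE ((unit A)⟦j⟧) (-j) := by
  haveI : CochainComplex.IsStrictlyLE (𝟙_ (DRing.Cx A)) 0 :=
    inferInstanceAs (CochainComplex.IsStrictlyLE
      ((CochainComplex.singleFunctor (ModuleCat.{u} A) 0).obj (𝟙_ (ModuleCat.{u} A))) 0)
  have h : DerivedCategory.IsLE (unit A) 0 := inferInstance
  exact DerivedCategory.TStructure.t.isLE_shift (unit A) 0 j (-j) (by omega)

theorem hom_shift_unit_eq_zero_of_isGE {A : Type u} [CommRing A] {Z : Dual.D A} {g j : ℤ}
    (hZ : DerivedCategory.IsGE Z g) (hj : -j < g) (f : (unit A)⟦j⟧ ⟶ Z) : f = 0 :=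
  DerivedCategory.TStructure.t.zero_of_isLE_of_isGE f (-j) g hj (isLE_shiftUnit A j) hZ

variable {R R' : Type u} [CommRing R] [CommRing R']

theorem isLE_LBase (φ : R →+* R') [HasLBase φ] {X : Dual.D R} {p : ℤ}
    (hX : DerivedCategory.IsLE X p) : DerivedCategory.IsLE ((LBase φ).obj X) p := by
  obtain ⟨P, hPb, hPf, ⟨e⟩⟩ :=
    Groth.Agent.DRingLib.exists_free_rep X p ((DerivedCategory.isLE_iff X p).1 hX)
  haveI := isIso_baseCmp φ (Groth.Agent.DRingLib.isKFlat_of_free P p hPb hPf)
  haveI : ((extCx φ).obj P).IsStrictlyLE p := (CochainComplex.isStrictlyLE_iff _ p).2 fun i hi =>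
    (ModuleCat.extendScalars.{u, u, u} φ).map_isZero (hPb i hi)
  have h : DerivedCategory.IsLE (DRing.toD ((extCx φ).obj P)) p := inferInstance
  haveI : DerivedCategory.TStructure.t.IsLE ((extCx φ ⋙ DerivedCategory.Q).obj P) p := h
  exact DerivedCategory.TStructure.t.isLE_of_iso
    ((asIso ((baseCmp φ).app P)).symm ≪≫ (LBase φ).mapIso e) p

variable [Algebra R R'] [HasLTen R]

theorem isGE_LBase [HasLBase (algebraMap R R')] {d : ℕ} (hd : DRing.HasTorDimLE R d R')
    {X : Dual.D R} {g : ℤ} (hX : DerivedCategory.IsGE X g) :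
    DerivedCategory.IsGE ((LBase (algebraMap R R')).obj X) (g - d) := by
  let φ := algebraMap R R'
  obtain ⟨P, hP, ⟨eP⟩⟩ := exists_kf_rep X
  obtain ⟨X', hX', ⟨eX'⟩⟩ := DerivedCategory.exists_iso_Q_obj_of_isGE X g
  obtain ⟨E, hE, hEf, ⟨eE⟩⟩ :=
    (Groth.Agent.DRingLib.hasTorDimLE_iff_amplitude R' d).1 hd
  have hEk : KF E := Groth.Agent.DRingLib.isKFlat_of_flatAmplitude hE hEf
  let N := (ModuleCat.restrictScalars φ).obj (𝟙_ (ModuleCat.{u} R'))
  let l : R' ≃ₗ[R] N :=
    { toFun := fun x => (x : R')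
      invFun := fun x => (x : R')
      map_add' := fun _ _ => rfl
      map_smul' := fun r x => Algebra.smul_def r x
      left_inv := fun _ => rfl
      right_inv := fun _ => rfl }
  let eN : ModuleCat.of R R' ≅ N := l.toModuleIso
  let S := (HomologicalComplex.single (ModuleCat.{u} R) (ComplexShape.up ℤ) 0).obj N
  let eS : DRing.toD E ≅ DRing.toD S :=
    eE ≪≫ (DerivedCategory.singleFunctor (ModuleCat.{u} R) 0).mapIso eN ≪≫
      (DerivedCategory.singleFunctorIsoCompQ (ModuleCat.{u} R) 0).app N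
  haveI := isIso_ε (A := R) S P (Or.inr hP)
  haveI := isIso_ε (A := R) E X' (Or.inl hEk)
  obtain ⟨e₁⟩ := Groth.Agent.DRingLib.nonempty_singleTensorIso N P
  let e₂ : ((tensorLeft N).mapHomologicalComplex (ComplexShape.up ℤ)).obj P ≅
      (resCx φ).obj ((extCx φ).obj P) :=
    Hom.isoOfComponents (fun n => (KFlatLib.tensorLeftExtIso φ).app (P.X n))
      (fun i j _ => ((KFlatLib.tensorLeftExtIso φ).hom.naturality (P.d i j)).symm)
  let e : DRing.toD ((resCx φ).obj ((extCx φ).obj P)) ≅ DRing.toD (E ⊗ X') :=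
    DerivedCategory.Q.mapIso (e₁ ≪≫ e₂).symm ≪≫ (asIso ((ε R).app (S, P))).symm ≪≫
      (LTen₂ R).mapIso (Iso.prod eS.symm (eP ≪≫ eX')) ≪≫ asIso ((ε R).app (E, X'))
  have hz : ∀ i, i < g - d → IsZero (((extCx φ).obj P).homology i) := by
    intro i hi
    have h1 : IsZero ((E ⊗ X').homology i) := by
      refine (exactAt_iff_isZero_homology _ i).1 (ShortComplex.exact_of_isZero_X₂ _ ?_)
      refine (IsZero.iff_id_eq_zero _).2 (mapBifunctor.hom_ext fun a b (h : a + b = i) =>
        ModuleCat.MonoidalCategory.tensor_ext fun x y => ?_)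
      rcases lt_or_ge a (-(d : ℤ)) with ha | ha
      · have := ModuleCat.subsingleton_of_isZero (hE a (Or.inl ha))
        rw [Subsingleton.elim x 0, TensorProduct.zero_tmul, map_zero, map_zero]
      · have := ModuleCat.subsingleton_of_isZero (X'.isZero_of_isStrictlyGE g b (by omega))
        rw [Subsingleton.elim y 0, TensorProduct.tmul_zero, map_zero, map_zero]
    have h2 : IsZero (((resCx φ).obj ((extCx φ).obj P)).homology i) :=
      h1.of_iso (((DerivedCategory.homologyFunctorFactors (ModuleCat.{u} R) i).app _).symm ≪≫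
        (DerivedCategory.homologyFunctor (ModuleCat.{u} R) i).mapIso e ≪≫
          (DerivedCategory.homologyFunctorFactors (ModuleCat.{u} R) i).app (E ⊗ X'))
    have h3 := h2.of_iso ((((extCx φ).obj P).sc i).mapHomologyIso (ModuleCat.restrictScalars φ)).symm
    rw [IsZero.iff_id_eq_zero] at h3 ⊢
    exact (ModuleCat.restrictScalars φ).map_injective
      (((ModuleCat.restrictScalars φ).map_id _).trans (h3.trans (Functor.map_zero _ _ _).symm))
  haveI := isIso_baseCmp φ hP
  refine (DerivedCategory.isGE_iff _ _).2 fun i hi => (hz i hi).of_iso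
    ((DerivedCategory.homologyFunctor (ModuleCat.{u} R') i).mapIso
      ((LBase φ).mapIso eP.symm ≪≫ asIso ((baseCmp φ).app P)) ≪≫
      (DerivedCategory.homologyFunctorFactors (ModuleCat.{u} R') i).app _)

variable [HasLTen R'] [HasRHom R] [HasRHom R'] [HasLBase (algebraMap R R')]
  [HasResTen (algebraMap R R')] [ResLegIso (algebraMap R R')]

theorem isIso_bcRHom_of_hasFiniteTorDim (K M : Dual.D R) (hR' : DRing.HasFiniteTorDim R R')
    (hK : DRing.IsPseudoCoherent' R K) (n : ℤ) (hM : DerivedCategory.IsGE M n) :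
    IsIso (bcRHom (algebraMap R R') K M) := by
  obtain ⟨d, hd⟩ := hR'
  let φ := algebraMap R R'
  let F := (RHom R).flip.obj M ⋙ LBase φ
  let G := (LBase φ).op ⋙ (RHom R').flip.obj ((LBase φ).obj M)
  have hF : HomExactOp' F := fun T hT => ex_LBase φ (isTri_RHom M T hT)
  have hG : HomExactOp' G := fun T hT =>
    HomExactOp.map_isTri (F := (RHom R').flip.obj ((LBase φ).obj M))
      (fun T' hT' => homExact_id.map_isTri (isTri_RHom _ T' hT')) (isTri_LBase φ T hT)
  let τ : F ⟶ G := bcNat φ M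
  refine isIso_of_bijective_unit _ fun j => ?_
  show Function.Bijective fun g : (unit R')⟦j⟧ ⟶ F.obj (op K) => g ≫ τ.app (op K)
  let m : ℤ := n - d + j - 1
  obtain ⟨E, c, e, α, hE, hfree, hiso, hepi⟩ :=
    Groth.Agent.DRingLib.isPseudoCoherent'_iff_forall.1 hK m
  obtain ⟨C, g, h, hT⟩ := Pretriangulated.distinguished_cocone_triangle α
  let T := Triangle.mk α g h
  have hC : DerivedCategory.IsLE C (m - 1) := (DerivedCategory.isLE_iff C (m - 1)).2 fun i hi =>
    (Groth.Agent.DRingLib.Approx.iff_cone m T hT).1 ⟨hiso, hepi⟩ i (by omega)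
  have hC' : DerivedCategory.IsLE (C⟦(-1 : ℤ)⟧) m :=
    DerivedCategory.TStructure.t.isLE_shift C (m - 1) (-1) m (by omega)
  have hFle : ∀ (X : Dual.D R) (p : ℤ), DerivedCategory.IsLE X p → p ≤ m →
      ∀ x : (unit R')⟦j⟧ ⟶ F.obj (op X), x = 0 := fun X p hX hp =>
    hom_shift_unit_eq_zero_of_isGE (g := n - p - d) (isGE_LBase hd (isGE_RHom hX hM)) (by omega)
  have hGC : ∀ x : (unit R')⟦j⟧ ⟶ G.obj (op C), x = 0 :=
    hom_shift_unit_eq_zero_of_isGE (g := n - d - (m - 1))
      (isGE_RHom (isLE_LBase φ hC) (isGE_LBase hd hM)) (by omega)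
  haveI hτE : IsIso (τ.app (op (DRing.toD E))) :=
    isIso_bcRHom_of_isPerfect φ _ M ⟨E, c, e, hE, fun i =>
      haveI := (hfree i).2
      ⟨(hfree i).1, inferInstance⟩, ⟨Iso.refl _⟩⟩
  constructor
  · intro z z' hzz
    rw [← sub_eq_zero]
    have hz : (z - z') ≫ τ.app (op K) = 0 := by
      rw [Preadditive.sub_comp, sub_eq_zero]
      exact hzz
    have h1 : ((z - z') ≫ F.map α.op) ≫ τ.app (op (DRing.toD E)) = 0 := by
      rw [Category.assoc, τ.naturality, ← Category.assoc, hz, zero_comp]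
    have h2 : (z - z') ≫ F.map α.op = 0 :=
      (cancel_mono (τ.app (op (DRing.toD E)))).1 (h1.trans zero_comp.symm)
    obtain ⟨x, hx⟩ := (hF T hT).2 _ (z - z') h2
    rw [← hx, hFle C (m - 1) hC (by omega) x]
    exact zero_comp
  · intro y
    obtain ⟨i, -, hi⟩ := hτE.out
    obtain ⟨z, hz⟩ : ∃ z : (unit R')⟦j⟧ ⟶ F.obj (op K), z ≫ F.map α.op = (y ≫ G.map α.op) ≫ i :=
      (hF _ (inv_rot_of_distTriang _ hT)).2 _ ((y ≫ G.map α.op) ≫ i) (hFle _ m hC' le_rfl _)
    have h1 : (y - z ≫ τ.app (op K)) ≫ G.map α.op = 0 := by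
      rw [Preadditive.sub_comp, Category.assoc, ← τ.naturality, ← Category.assoc z, hz,
        Category.assoc, hi, Category.comp_id, sub_self]
    obtain ⟨x, hx⟩ := (hG T hT).2 _ (y - z ≫ τ.app (op K)) h1
    refine ⟨z, (sub_eq_zero.1 ?_).symm⟩
    rw [← hx, hGC x]
    exact zero_comp

end DTenLib
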