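import Groth.Agent.DTenLib.HomQis
import Groth.Agent.DerLib.KInjUse
import Groth.Prelude.Def_DTen4
import Mathlib.Algebra.Homology.HomotopyCategory.HomComplexSingle
import Mathlib.Algebra.Category.ModuleCat.AB

/-!
# Coinduction of complexes computes the right adjoint of restriction
-/

set_option autoImplicit false

universe u

open CategoryTheory CategoryTheory.Limits MonoidalCategory HomologicalComplex
open CochainComplex.HomComplex
attribute [local instance] HasDerivedCategory.standard

namespace DTenLib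

open DTen
open Groth.Agent.DerLib

variable {R A : Type u} [CommRing R] [CommRing A] (φ : R →+* A)

instance : (ModuleCat.coextendScalars.{u, u, u} φ).Additive :=
  (ModuleCat.restrictCoextendScalarsAdj.{u, u, u} φ).right_adjoint_additive

/-- Termwise coinduction. -/
noncomputable abbrev coiCx : DRing.Cx R ⥤ DRing.Cx A :=
  (ModuleCat.coextendScalars.{u, u, u} φ).mapHomologicalComplex (ComplexShape.up ℤ)

/-- Evaluation at `1`. -/
noncomputable def ev₁ (I : DRing.Cx R) : (resCx φ).obj ((coiCx φ).obj I) ⟶ I where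
  f i := (ModuleCat.restrictCoextendScalarsAdj.{u, u, u} φ).counit.app (I.X i)
  comm' i j _ := ((ModuleCat.restrictCoextendScalarsAdj.{u, u, u} φ).counit.naturality (I.d i j)).symm

/-- The unit, termwise. -/
noncomputable def coUnit (Y : DRing.Cx A) : Y ⟶ (coiCx φ).obj ((resCx φ).obj Y) where
  f i := (ModuleCat.restrictCoextendScalarsAdj.{u, u, u} φ).unit.app (Y.X i)
  comm' i j _ := ((ModuleCat.restrictCoextendScalarsAdj.{u, u, u} φ).unit.naturality (Y.d i j)).symm

/-- Transposition on complexes. -/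
noncomputable def adjCoi {Y : DRing.Cx A} {I : DRing.Cx R} (g : (resCx φ).obj Y ⟶ I) :
    Y ⟶ (coiCx φ).obj I :=
  coUnit φ Y ≫ (coiCx φ).map g

theorem adjCoi_ev₁ {Y : DRing.Cx A} {I : DRing.Cx R} (g : (resCx φ).obj Y ⟶ I) :
    (resCx φ).map (adjCoi φ g) ≫ ev₁ φ I = g :=
  HomologicalComplex.hom_ext _ _ fun i =>
    ((ModuleCat.restrictCoextendScalarsAdj.{u, u, u} φ).homEquiv_counit _ _ _).symm.trans
      ((Equiv.symm_apply_eq _).2
        ((ModuleCat.restrictCoextendScalarsAdj.{u, u, u} φ).homEquiv_unit (Y.X i) (I.X i) (g.f i)).symm)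

theorem ev₁_adjCoi {Y : DRing.Cx A} {I : DRing.Cx R} (h : Y ⟶ (coiCx φ).obj I) :
    adjCoi φ ((resCx φ).map h ≫ ev₁ φ I) = h :=
  HomologicalComplex.hom_ext _ _ fun i =>
    ((ModuleCat.restrictCoextendScalarsAdj.{u, u, u} φ).homEquiv_unit _ _ _).symm.trans
      (((ModuleCat.restrictCoextendScalarsAdj.{u, u, u} φ).homEquiv (Y.X i) (I.X i)).eq_symm_apply.1
        ((ModuleCat.restrictCoextendScalarsAdj.{u, u, u} φ).homEquiv_counit _ _ _).symm)

/-- Transposition preserves null homotopies. -/
theorem quotient_adjCoi_eq_zero {Y : DRing.Cx A} {I : DRing.Cx R} {g : (resCx φ).obj Y ⟶ I}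
    (h : (HomotopyCategory.quotient _ (ComplexShape.up ℤ)).map g = 0) :
    (HomotopyCategory.quotient _ (ComplexShape.up ℤ)).map (adjCoi φ g) = 0 := by
  have H : Homotopy g 0 := HomotopyCategory.homotopyOfEq _ _ (h.trans (Functor.map_zero _ _ _).symm)
  rw [adjCoi, Functor.map_comp,
    HomotopyCategory.eq_of_homotopy _ _ ((ModuleCat.coextendScalars.{u, u, u} φ).mapHomotopy H)]
  simp

/-- Coinduction of a K-injective complex is K-injective. -/
theorem isKInjective_coiCx (I : DRing.Cx R) [I.IsKInjective] : ((coiCx φ).obj I).IsKInjective := by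
  refine ⟨fun {Y} g hY => ?_⟩
  have hY' : ((resCx φ).obj Y).Acyclic := fun i =>
    (exactAt_iff_isZero_homology _ i).2
      (((ModuleCat.restrictScalars.{u} φ).map_isZero ((exactAt_iff_isZero_homology _ i).1 (hY i))).of_iso
        ((Y.sc i).mapHomologyIso (ModuleCat.restrictScalars φ)))
  have h0 : (HomotopyCategory.quotient _ (ComplexShape.up ℤ)).map ((resCx φ).map g ≫ ev₁ φ I) = 0 :=
    (HomotopyCategory.eq_of_homotopy _ _
      (CochainComplex.IsKInjective.homotopyZero ((resCx φ).map g ≫ ev₁ φ I) hY')).trans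
      (Functor.map_zero _ _ _)
  have h1 := quotient_adjCoi_eq_zero φ h0
  rw [ev₁_adjCoi] at h1
  exact ⟨HomotopyCategory.homotopyOfEq _ _ (h1.trans (Functor.map_zero _ _ _).symm)⟩

theorem resFactors_naturality {Y Y' : DRing.Cx A} (g : Y ⟶ Y') :
    (DRing.restrictD φ).map (DerivedCategory.Q.map g) ≫ (resFactors φ).hom.app Y' =
      (resFactors φ).hom.app Y ≫ DerivedCategory.Q.map ((resCx φ).map g) :=
  (resFactors φ).hom.naturality g

/-- Coinduction of a K-injective complex has the universal property of the right adjoint. -/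
theorem bijective_ev₁ (I : DRing.Cx R) [I.IsKInjective] (X : Dual.D A) :
    Function.Bijective fun f : X ⟶ DRing.toD ((coiCx φ).obj I) =>
      (DRing.restrictD φ).map f ≫ (resFactors φ).hom.app ((coiCx φ).obj I) ≫
        DerivedCategory.Q.map (ev₁ φ I) := by
  let Y := DerivedCategory.Q.objPreimage X
  let e : DerivedCategory.Q.obj Y ≅ X := DerivedCategory.Q.objObjPreimageIso X
  haveI := isKInjective_coiCx φ I
  suffices h : Function.Bijective fun f : DerivedCategory.Q.obj Y ⟶ DRing.toD ((coiCx φ).obj I) =>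
      (DRing.restrictD φ).map f ≫ (resFactors φ).hom.app ((coiCx φ).obj I) ≫
        DerivedCategory.Q.map (ev₁ φ I) by
    refine ⟨fun f f' hf => (cancel_epi e.hom).1 (h.1 ?_), fun ψ => ?_⟩
    · simp only [Functor.map_comp, Category.assoc]
      exact congrArg _ hf
    · obtain ⟨f, hf⟩ := h.2 ((DRing.restrictD φ).map e.hom ≫ ψ)
      refine ⟨e.inv ≫ f, ?_⟩
      show _ ≫ _ = ψ
      rw [← cancel_epi ((DRing.restrictD φ).map e.hom), ← hf, ← Functor.map_comp_assoc,
        e.hom_inv_id_assoc]
  have key : ∀ g : Y ⟶ (coiCx φ).obj I, (DRing.restrictD φ).map (DerivedCategory.Q.map g) ≫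
      (resFactors φ).hom.app ((coiCx φ).obj I) ≫ DerivedCategory.Q.map (ev₁ φ I) =
      (resFactors φ).hom.app Y ≫ DerivedCategory.Q.map ((resCx φ).map g ≫ ev₁ φ I) := fun g => by
    rw [← Category.assoc, resFactors_naturality, Category.assoc, Functor.map_comp]
  constructor
  · intro f f' hf
    rw [← sub_eq_zero]
    obtain ⟨g, hg⟩ := KInjUse.Q_map_surjective Y ((coiCx φ).obj I) (f - f')
    rw [← hg]
    have h0 : DerivedCategory.Q.map ((resCx φ).map g ≫ ev₁ φ I) = 0 := by
      rw [← cancel_epi ((resFactors φ).hom.app Y), comp_zero, ← key, hg, Functor.map_sub,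
        Preadditive.sub_comp]
      exact sub_eq_zero.2 hf
    have h1 := KInjUse.Q_map_zero_of_quotient
      (quotient_adjCoi_eq_zero φ (KInjUse.quotient_eq_zero_of_Q h0))
    rwa [ev₁_adjCoi] at h1
  · intro ψ
    obtain ⟨g, hg⟩ := KInjUse.Q_map_surjective ((resCx φ).obj Y) I ((resFactors φ).inv.app Y ≫ ψ)
    refine ⟨DerivedCategory.Q.map (adjCoi φ g), ?_⟩
    show _ ≫ _ = ψ
    rw [key, adjCoi_ev₁, hg, Iso.hom_inv_id_app_assoc]

variable [HasRHomRel φ]

/-- The comparison map from coinduction. -/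
noncomputable def θCoi (I : DRing.Cx R) :
    DRing.toD ((coiCx φ).obj I) ⟶ (RHomRel φ).obj (DRing.toD I) :=
  (relAdj φ).homEquiv _ _ ((resFactors φ).hom.app ((coiCx φ).obj I) ≫ DerivedCategory.Q.map (ev₁ φ I))

theorem isIso_θCoi (I : DRing.Cx R) [I.IsKInjective] : IsIso (θCoi φ I) := by
  have key : ∀ (X : Dual.D A) (f : X ⟶ DRing.toD ((coiCx φ).obj I)),
      ((relAdj φ).homEquiv X (DRing.toD I)).symm (f ≫ θCoi φ I) =
        (DRing.restrictD φ).map f ≫ (resFactors φ).hom.app ((coiCx φ).obj I) ≫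
          DerivedCategory.Q.map (ev₁ φ I) := fun X f => by
    rw [Adjunction.homEquiv_naturality_left_symm]
    exact congrArg _ (Equiv.symm_apply_apply _ _)
  obtain ⟨g, hg⟩ := (bijective_ev₁ φ I ((RHomRel φ).obj (DRing.toD I))).2
    (((relAdj φ).homEquiv _ _).symm (𝟙 _))
  have h1 : g ≫ θCoi φ I = 𝟙 _ := ((relAdj φ).homEquiv _ _).symm.injective ((key _ g).trans hg)
  refine ⟨g, (bijective_ev₁ φ I _).1 ?_, h1⟩
  show (DRing.restrictD φ).map (θCoi φ I ≫ g) ≫ _ = (DRing.restrictD φ).map (𝟙 _) ≫ _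
  rw [← key, ← key, Category.assoc, h1, Category.comp_id, Category.id_comp]

omit [HasRHomRel φ]

section Single

/-- The ring `A` as a complex of `R`-modules in degree `0`. -/
noncomputable abbrev ringCx : DRing.Cx R :=
  (CochainComplex.singleFunctor (ModuleCat.{u} R) 0).obj
    ((ModuleCat.restrictScalars φ).obj (ModuleCat.of A A))

/-- An element of coinduction as a map of modules. -/
noncomputable def coApp {M : ModuleCat.{u} R}
    (g : (ModuleCat.restrictScalars φ).obj ((ModuleCat.coextendScalars.{u, u, u} φ).obj M)) :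
    (ModuleCat.restrictScalars φ).obj (ModuleCat.of A A) ⟶ M :=
  ModuleCat.ofHom (X := (ModuleCat.restrictScalars φ).obj (ModuleCat.of A A)) (Y := M)
    (ModuleCat.CoextendScalars.equiv φ M g)

theorem coApp_add {M : ModuleCat.{u} R}
    (g g' : (ModuleCat.restrictScalars φ).obj ((ModuleCat.coextendScalars.{u, u, u} φ).obj M)) :
    coApp φ (g + g') = coApp φ g + coApp φ g' := rfl

theorem coApp_smul {M : ModuleCat.{u} R} (r : R)
    (g : (ModuleCat.restrictScalars φ).obj ((ModuleCat.coextendScalars.{u, u, u} φ).obj M)) :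
    coApp φ (r • g) = r • coApp φ g := by
  refine ModuleCat.hom_ext (LinearMap.ext fun s => ?_)
  show (coApp φ g).hom ((show A from s) * φ r : A) = r • (coApp φ g).hom s
  rw [← map_smul]
  exact congrArg _ (mul_comm _ _)

/-- Coinduction, restricted, maps to the Hom complex out of the ring. -/
noncomputable def κ₀ (I : DRing.Cx R) :
    (resCx φ).obj ((coiCx φ).obj I) ⟶ DRing.homCx (ringCx φ) I where
  f n := ModuleCat.ofHom (X := ((resCx φ).obj ((coiCx φ).obj I)).X n)
    { toFun := fun g => Cochain.fromSingleMk (coApp φ g) (zero_add n)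
      map_add' := fun g g' =>
        (congrArg (fun t => Cochain.fromSingleMk t (zero_add n)) (coApp_add φ g g')).trans
          (Cochain.fromSingleMk_add _ _ _)
      map_smul' := fun r g => by
        refine (congrArg (fun t => Cochain.fromSingleMk t (zero_add n)) (coApp_smul φ r g)).trans ?_
        refine ((Cochain.fromSingleEquiv (zero_add n)).symm_apply_eq).2 ?_
        show _ = (HomologicalComplex.singleObjXSelf (ComplexShape.up ℤ) 0 _).inv ≫
          (r • Cochain.fromSingleMk (coApp φ g) (zero_add n)).v 0 n (zero_add n)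
        have aux : ∀ {M : ModuleCat.{u} R} (t : (ModuleCat.restrictScalars φ).obj (ModuleCat.of A A) ⟶ M)
            (e : (ringCx φ).X 0 ≅ (ModuleCat.restrictScalars φ).obj (ModuleCat.of A A)),
            r • t = e.inv ≫ (r • (e.hom ≫ t)) := fun t e => by
          rw [Linear.comp_smul, e.inv_hom_id_assoc]
        rw [Cochain.smul_v, Cochain.fromSingleMk_v]
        exact aux _ _ }
  comm' n n' _ := ModuleCat.hom_ext (LinearMap.ext fun g => by
    show δ n n' (Cochain.fromSingleMk (coApp φ g) (zero_add n)) =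
      Cochain.fromSingleMk _ (zero_add n')
    rw [Cochain.δ_fromSingleMk (coApp φ g) (zero_add n) n' n' (zero_add n')]
    rfl)

theorem quasiIso_κ₀ (I : DRing.Cx R) : QuasiIso (κ₀ φ I) := by
  haveI : ∀ n, IsIso ((κ₀ φ I).f n) := fun n =>
    (ConcreteCategory.isIso_iff_bijective _).2
      ((Cochain.fromSingleEquiv (zero_add n)).symm.bijective.comp
        (show Function.Bijective (coApp φ (M := I.X n)) from
          ⟨fun g g' h => (ModuleCat.CoextendScalars.equiv φ (I.X n)).injective (congrArg ModuleCat.Hom.hom h),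
            fun f => ⟨(ModuleCat.CoextendScalars.equiv φ (I.X n)).symm f.hom, rfl⟩⟩))
  haveI : IsIso (κ₀ φ I) := HomologicalComplex.Hom.isIso_of_components _
  infer_instance

theorem quasiIso_κ {E I : DRing.Cx R} [I.IsKInjective] (π : E ⟶ ringCx φ) [QuasiIso π] :
    QuasiIso (κ₀ φ I ≫ homPre I π) := by
  have := quasiIso_κ₀ φ I
  have := quasiIso_homPre (I := I) π
  infer_instance

theorem exists_perfect_rep (hA : DRing.IsPerfect R ((DRing.restrictD φ).obj (DTen.unit A))) :
    ∃ (E : DRing.Cx R) (a b : ℤ) (π : E ⟶ ringCx φ), DRing.VanishesOutside E a b ∧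
      DRing.TermwiseFiniteProjective E ∧ E.IsKProjective ∧ QuasiIso π := by
  obtain ⟨E, a, b, hE, hP, ⟨e⟩⟩ := hA
  haveI : ∀ i, Projective (E.X i) := fun i => by
    haveI := (hP i).2
    exact (IsProjective.iff_projective (R := R) (P := E.X i)).mp inferInstance
  haveI : E.IsStrictlyLE b := (CochainComplex.isStrictlyLE_iff E b).2 fun i hi => hE i (Or.inr hi)
  have hproj : E.IsKProjective := CochainComplex.isKProjective_of_projective E b
  let e' : (resCx φ).obj (𝟙_ (DRing.Cx A)) ≅ ringCx φ :=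
    (HomologicalComplex.singleMapHomologicalComplex (ModuleCat.restrictScalars φ)
      (ComplexShape.up ℤ) 0).app (𝟙_ (ModuleCat.{u} A))
  let f : DRing.toD E ≅ DRing.toD (ringCx φ) :=
    e ≪≫ (resFactors φ).app (𝟙_ (DRing.Cx A)) ≪≫ DerivedCategory.Q.mapIso e'
  obtain ⟨π, hπ⟩ := Groth.Agent.DRingLib.Q_map_surjective E (ringCx φ) f.hom
  refine ⟨E, a, b, π, hE, hP, hproj, (DerivedCategory.isIso_Q_map_iff_quasiIso (φ := π)).mp ?_⟩
  rw [hπ]
  infer_instance

end Single

end DTenLib
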