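import Groth.Agent.DTenLib.Val
import Groth.Agent.DerLib.KInjUse
import Groth.Agent.KFlatLib.RingBaseChange
import Groth.Prelude.Def_DTen4
import Mathlib.Algebra.Category.ModuleCat.AB

/-!
# Derived base change is computed termwise on K-flat complexes; the mixed derived tensor product
-/

set_option autoImplicit false

universe u

open CategoryTheory CategoryTheory.Limits MonoidalCategory HomologicalComplex
attribute [local instance] HasDerivedCategory.standard

namespace DTenLib

open DTen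
open Groth.Agent.DerLib
open Groth.Agent.DRingLib (resP resψ quasiIso_resψ good_resP)

variable {R A : Type u} [CommRing R] [CommRing A] (φ : R →+* A)

/-- The termwise counit of `extCx ⊣ resCx`. -/
noncomputable def counitCx (N : DRing.Cx A) : (extCx φ).obj ((resCx φ).obj N) ⟶ N where
  f i := (ModuleCat.extendRestrictScalarsAdj.{u, u, u} φ).counit.app (N.X i)
  comm' i j _ := ((ModuleCat.extendRestrictScalarsAdj.{u, u, u} φ).counit.naturality (N.d i j)).symm

/-- Transposition on complexes. -/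
noncomputable def adjCx {K : DRing.Cx R} {N : DRing.Cx A} (g : K ⟶ (resCx φ).obj N) :
    (extCx φ).obj K ⟶ N :=
  (extCx φ).map g ≫ counitCx φ N

theorem unit_adjCx {K : DRing.Cx R} {N : DRing.Cx A} (g : K ⟶ (resCx φ).obj N) :
    (unitCx φ).app K ≫ (resCx φ).map (adjCx φ g) = g :=
  HomologicalComplex.hom_ext _ _ fun i =>
    ((ModuleCat.extendRestrictScalarsAdj.{u, u, u} φ).homEquiv_unit _ _ _).symm.trans
      (((ModuleCat.extendRestrictScalarsAdj.{u, u, u} φ).homEquiv (K.X i) (N.X i)).eq_symm_apply.1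
        ((ModuleCat.extendRestrictScalarsAdj.{u, u, u} φ).homEquiv_counit _ _ _).symm)

theorem adjCx_unit {K : DRing.Cx R} {N : DRing.Cx A} (g : (extCx φ).obj K ⟶ N) :
    adjCx φ ((unitCx φ).app K ≫ (resCx φ).map g) = g :=
  HomologicalComplex.hom_ext _ _ fun i =>
    ((ModuleCat.extendRestrictScalarsAdj.{u, u, u} φ).homEquiv_counit _ _ _).symm.trans
      ((Equiv.symm_apply_eq _).2
        ((ModuleCat.extendRestrictScalarsAdj.{u, u, u} φ).homEquiv_unit (K.X i) (N.X i) (g.f i)).symm)

/-- Transposition preserves null homotopies. -/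
theorem quotient_adjCx_eq_zero {K : DRing.Cx R} {N : DRing.Cx A} {g : K ⟶ (resCx φ).obj N}
    (h : (HomotopyCategory.quotient _ (ComplexShape.up ℤ)).map g = 0) :
    (HomotopyCategory.quotient _ (ComplexShape.up ℤ)).map (adjCx φ g) = 0 := by
  have H : Homotopy g 0 := HomotopyCategory.homotopyOfEq _ _ (h.trans (Functor.map_zero _ _ _).symm)
  rw [adjCx, Functor.map_comp,
    HomotopyCategory.eq_of_homotopy _ _ ((ModuleCat.extendScalars.{u, u, u} φ).mapHomotopy H)]
  simp

theorem quasiIso_of_isIso_Q {K L : DRing.Cx R} (f : K ⟶ L) (h : IsIso (DerivedCategory.Q.map f)) :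
    QuasiIso f :=
  (DerivedCategory.isIso_Q_map_iff_quasiIso _ f).1 h

theorem exists_kf_fraction {K : DRing.Cx R} {Y : DRing.Cx R}
    (ψ : DerivedCategory.Q.obj K ⟶ DerivedCategory.Q.obj Y) :
    ∃ (K' : DRing.Cx R) (_ : KF K') (s : K' ⟶ K) (_ : QuasiIso s) (g : K' ⟶ Y),
      DerivedCategory.Q.map s ≫ ψ = DerivedCategory.Q.map g := by
  obtain ⟨X', s, hs, g, rfl⟩ := DerivedCategory.right_fac ψ
  have := quasiIso_of_isIso_Q s hs
  have := quasiIso_resψ X'
  refine ⟨(resP R).obj X', kf_resP X', (resψ R).app X' ≫ s, inferInstance, (resψ R).app X' ≫ g, ?_⟩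
  rw [Functor.map_comp, Functor.map_comp, Category.assoc, IsIso.hom_inv_id_assoc]

theorem exists_kf_null {K Y : DRing.Cx R} {h : K ⟶ Y} (hh : DerivedCategory.Q.map h = 0) :
    ∃ (K' : DRing.Cx R) (_ : KF K') (s : K' ⟶ K) (_ : QuasiIso s),
      (HomotopyCategory.quotient _ (ComplexShape.up ℤ)).map (s ≫ h) = 0 := by
  let q := HomotopyCategory.quotient (ModuleCat.{u} R) (ComplexShape.up ℤ)
  have h1 : DerivedCategory.Qh.map (q.map h) = DerivedCategory.Qh.map 0 := by
    rw [Functor.map_zero]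
    exact hh
  obtain ⟨X', s, hs, hs'⟩ :=
    (MorphismProperty.map_eq_iff_precomp DerivedCategory.Qh
      (HomotopyCategory.quasiIso (ModuleCat.{u} R) (ComplexShape.up ℤ)) (q.map h) 0).1 h1
  obtain ⟨X', rfl⟩ := HomotopyCategory.quotient_obj_surjective X'
  obtain ⟨s, rfl⟩ := q.map_surjective s
  have : QuasiIso s := (HomologicalComplex.mem_quasiIso_iff _).1
    ((HomotopyCategory.quotient_map_mem_quasiIso_iff s).1 hs)
  have := quasiIso_resψ X'
  refine ⟨(resP R).obj X', kf_resP X', (resψ R).app X' ≫ s, inferInstance, ?_⟩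
  rw [comp_zero] at hs'
  rw [Category.assoc, Functor.map_comp, Functor.map_comp _ s h]
  exact (congrArg (q.map ((resψ R).app X') ≫ ·) hs').trans comp_zero

theorem isIso_Q_extCx_map {K L : DRing.Cx R} (hK : KF K) (hL : KF L) (s : K ⟶ L) [QuasiIso s] :
    IsIso (DerivedCategory.Q.map ((extCx φ).map s)) :=
  have := KFlatLib.quasiIso_extend φ hK hL s
  inferInstance

variable [HasLBase φ]

theorem baseγ_naturality {K K' : DRing.Cx R} (s : K' ⟶ K) :
    DerivedCategory.Q.map s ≫ (baseγ φ).app K =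
      (baseγ φ).app K' ≫ (DRing.restrictD φ).map (DerivedCategory.Q.map ((extCx φ).map s)) :=
  (baseγ φ).naturality s

theorem baseγ_comp {K : DRing.Cx R} {N : DRing.Cx A} (g : (extCx φ).obj K ⟶ N) :
    (baseγ φ).app K ≫ (DRing.restrictD φ).map (DerivedCategory.Q.map g) =
      DerivedCategory.Q.map ((unitCx φ).app K ≫ (resCx φ).map g) ≫ (resFactors φ).inv.app N := by
  show (DerivedCategory.Q.map _ ≫ _) ≫ _ = _
  rw [Functor.map_comp, Category.assoc, Category.assoc]
  exact congrArg _ ((resFactors φ).inv.naturality g).symm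

/-- The universal property of the termwise base change of a K-flat complex. -/
theorem bijective_baseγ {K : DRing.Cx R} (hK : KF K) (Y : Dual.D A) :
    Function.Bijective fun f : DerivedCategory.Q.obj ((extCx φ).obj K) ⟶ Y =>
      (baseγ φ).app K ≫ (DRing.restrictD φ).map f := by
  obtain ⟨N, hN, ⟨e⟩⟩ := KInjUse.exists_iso_Q_kInjective Y
  suffices h : Function.Bijective fun f : DerivedCategory.Q.obj ((extCx φ).obj K) ⟶ DerivedCategory.Q.obj N =>
      (baseγ φ).app K ≫ (DRing.restrictD φ).map f by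
    refine ⟨fun f f' hf => (cancel_mono e.hom).1 (h.1 ?_), fun ψ => ?_⟩
    · have h' := congrArg (· ≫ (DRing.restrictD φ).map e.hom) hf
      simpa only [Category.assoc, ← Functor.map_comp] using h'
    · obtain ⟨f, hf⟩ := h.2 (ψ ≫ (DRing.restrictD φ).map e.hom)
      refine ⟨f ≫ e.inv, ?_⟩
      simp only [Functor.map_comp] at hf ⊢
      rw [reassoc_of% hf, ← Functor.map_comp, e.hom_inv_id, CategoryTheory.Functor.map_id,
        Category.comp_id]
  constructor
  · intro f f' hf
    rw [← sub_eq_zero]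
    obtain ⟨g, hg⟩ := KInjUse.Q_map_surjective ((extCx φ).obj K) N (f - f')
    rw [← hg]
    have h0 : DerivedCategory.Q.map ((unitCx φ).app K ≫ (resCx φ).map g) = 0 := by
      rw [← cancel_mono ((resFactors φ).inv.app N), zero_comp, ← baseγ_comp, hg, Functor.map_sub,
        Preadditive.comp_sub]
      exact sub_eq_zero.2 hf
    obtain ⟨K', hK', s, hs, hnull⟩ := exists_kf_null h0
    have e1 : adjCx φ (s ≫ (unitCx φ).app K ≫ (resCx φ).map g) = (extCx φ).map s ≫ g := by
      rw [adjCx, Functor.map_comp, Category.assoc]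
      exact congrArg _ (adjCx_unit φ g)
    have h2 := KInjUse.Q_map_zero_of_quotient (quotient_adjCx_eq_zero φ hnull)
    rw [e1, Functor.map_comp] at h2
    have := isIso_Q_extCx_map φ hK' hK s
    rwa [← cancel_epi (DerivedCategory.Q.map ((extCx φ).map s)), comp_zero]
  · intro ψ
    obtain ⟨K', hK', s, hs, g, hsg⟩ := exists_kf_fraction (ψ ≫ (resFactors φ).hom.app N)
    have := isIso_Q_extCx_map φ hK' hK s
    refine ⟨inv (DerivedCategory.Q.map ((extCx φ).map s)) ≫ DerivedCategory.Q.map (adjCx φ g), ?_⟩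
    show _ ≫ _ = ψ
    rw [← cancel_epi (DerivedCategory.Q.map s), ← Category.assoc, baseγ_naturality, Category.assoc,
      ← Functor.map_comp, IsIso.hom_inv_id_assoc, baseγ_comp, unit_adjCx, ← hsg, Category.assoc,
      Category.assoc, Iso.hom_inv_id_app]
    exact congrArg _ (Category.comp_id ψ)

/-- Derived base change is computed by K-flat complexes. -/
theorem isIso_baseCmp {K : DRing.Cx R} (hK : KF K) : IsIso ((baseCmp φ).app K) := by
  have key : ∀ (Y : Dual.D A) (f : DerivedCategory.Q.obj ((extCx φ).obj K) ⟶ Y),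
      (baseAdj φ).homEquiv _ _ ((baseCmp φ).app K ≫ f) = (baseγ φ).app K ≫ (DRing.restrictD φ).map f := by
    intro Y f
    erw [Adjunction.homEquiv_unit, Functor.map_comp]
    exact (Category.assoc _ _ _).symm.trans (congrArg (· ≫ _) (baseCmp_fac φ K))
  obtain ⟨g, hg⟩ := (bijective_baseγ φ hK _).2 ((baseAdj φ).unit.app (DerivedCategory.Q.obj K))
  have h1 : (baseCmp φ).app K ≫ g = 𝟙 _ := by
    refine ((baseAdj φ).homEquiv _ _).injective ((key _ g).trans (hg.trans ?_))
    exact ((baseAdj φ).homEquiv_id _).symm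
  refine ⟨g, h1, (bijective_baseγ φ hK _).1 ?_⟩
  show _ ≫ _ = _ ≫ _
  rw [← key, ← key]
  exact congrArg _ ((Category.assoc _ _ _).symm.trans ((congrArg (· ≫ (baseCmp φ).app K) h1).trans
    ((Category.id_comp _).trans (Category.comp_id _).symm)))

omit [HasLBase φ]

section Mix

/-- Functorial K-flat replacement of a mixed pair. -/
noncomputable abbrev resMix (R A : Type u) [CommRing R] [CommRing A] :
    DRing.Cx R × DRing.Cx A ⥤ DRing.Cx R × DRing.Cx A :=
  (resP R).prod (resP A)

noncomputable def resψMix (R A : Type u) [CommRing R] [CommRing A] : resMix R A ⟶ 𝟭 _ where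
  app X := ((resψ R).app X.1, (resψ A).app X.2)
  naturality X Y f := Prod.ext ((resψ R).naturality f.1) ((resψ A).naturality f.2)

theorem isIso_mix₂_map {X Y : DRing.Cx R × DRing.Cx A} (f : X ⟶ Y) (h1 : QuasiIso f.1)
    (h2 : QuasiIso f.2) (hX₁ : KF X.1) (hY₁ : KF Y.1) (hX₂ : KF X.2) : IsIso ((mix₂ φ).map f) := by
  have := KFlatLib.quasiIso_extend φ hX₁ hY₁ f.1
  exact isIso_tensor₂_map (X := ((extCx φ).obj X.1, X.2)) (Y := ((extCx φ).obj Y.1, Y.2))
    (Prod.mkHom ((extCx φ).map f.1) f.2) this h2 (Or.inl ⟨hX₂, KFlatLib.isKFlat_extend φ hY₁⟩)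

theorem inverted_resMix : (qisMix R A).IsInvertedBy (resMix R A ⋙ mix₂ φ) := fun X Y f hf =>
  isIso_mix₂_map φ ((resMix R A).map f) (quasiIso_res_map f.1 hf.1) (quasiIso_res_map f.2 hf.2)
    (kf_resP _) (kf_resP _) (kf_resP _)

theorem exists_derivedMix : ∃ (G : Dual.D R × Dual.D A ⥤ Dual.D A) (α : QMix R A ⋙ G ⟶ mix₂ φ),
    G.IsRightKanExtension α ∧ ∀ K N, KF K → IsIso (α.app (K, N)) := by
  have := KFlatLib.isRightKanExtension_derivedOfRes (QMix R A) (qisMix R A) (mix₂ φ) (resMix R A)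
    (resψMix R A) (fun X => ⟨qis_resψ X.1, qis_resψ X.2⟩)
    (fun X => isIso_mix₂_map φ _ (quasiIso_resψ _) (quasiIso_resψ _) (kf_resP _) (kf_resP _) (kf_resP _))
    (inverted_resMix φ)
  refine ⟨_, KFlatLib.derivedOfResα (QMix R A) (qisMix R A) (mix₂ φ) (resMix R A) (resψMix R A)
    (inverted_resMix φ), this, fun K N hK => ?_⟩
  rw [KFlatLib.derivedOfResα_app]
  have := isIso_mix₂_map φ ((resψMix R A).app (K, N)) (quasiIso_resψ _) (quasiIso_resψ _)
    (kf_resP _) hK (kf_resP _)
  exact @IsIso.comp_isIso _ _ _ _ _ _ _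
    (inferInstanceAs (IsIso ((Localization.fac _ (inverted_resMix φ) (QMix R A)).app (K, N)).hom)) this

/-- The counit of the mixed derived tensor product is invertible when the first complex is K-flat. -/
theorem isIso_εMix [HasLTenMix φ] (K : DRing.Cx R) (N : DRing.Cx A) (hK : KF K) :
    IsIso ((εMix φ).app (K, N)) := by
  obtain ⟨G, α, hG, hiso⟩ := exists_derivedMix φ
  have := hiso K N hK
  have h' : (LTenMix φ).IsRightKanExtension (εMix φ) :=
    Functor.IsLeftDerivedFunctor.isRightKanExtension _ _ (qisMix R A)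
  exact KFlatLib.isIso_app_of_isRightKanExtension _ G _ α _

theorem isIso_split [HasLTen A] [HasLBase φ] [HasLTenMix φ] (E : Dual.D R) (N : Dual.D A) :
    IsIso ((DTen.split φ).app (E, N)) := by
  obtain ⟨P, hP, ⟨e₁⟩⟩ := exists_kf_rep E
  obtain ⟨M, -, ⟨e₂⟩⟩ := exists_kf_rep N
  have := isIso_εMix φ P M hP
  have h : IsIso ((splitβ φ).app (P, M)) := by
    have := isIso_baseCmp φ hP
    have := isIso_ε (A := A) ((extCx φ).obj P) M (Or.inl (KFlatLib.isKFlat_extend φ hP))
    have : IsIso (Prod.mkHom ((baseCmp φ).app P) (𝟙 (DerivedCategory.Q.obj M))) :=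
      (isIso_prod_iff _ _).2 ⟨inferInstance, inferInstance⟩
    show IsIso ((LTen₂ A).map _ ≫ (ε A).app ((extCx φ).obj P, M))
    infer_instance
  rw [← split_fac] at h
  have : IsIso ((DTen.split φ).app ((QMix R A).obj (P, M))) :=
    IsIso.of_isIso_comp_right _ ((εMix φ).app (P, M))
  exact isIso_app_of_iso (DTen.split φ) (X := (QMix R A).obj (P, M)) (Iso.prod e₁ e₂)

end Mix

end DTenLib
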