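import Groth.Agent.DTenLib.CoIndTensor
import Groth.Agent.DTenLib.BaseChange

/-!
# The right adjoint of restriction along a perfect ring map is a tensor product
-/

set_option autoImplicit false

universe u

open CategoryTheory CategoryTheory.Limits MonoidalCategory HomologicalComplex
open CochainComplex.HomComplex
attribute [local instance] HasDerivedCategory.standard

namespace DTenLib

open DTen
open Groth.Agent.DerLib
open Groth.Agent.DRingLib (resP resψ quasiIso_resψ)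

variable {R A : Type u} [CommRing R] [CommRing A] (φ : R →+* A)

theorem isIso_prCx' (C : DRing.Cx A) (P : DRing.Cx R) : IsIso (prCx φ C P) := isIso_prCx φ C P

/-- `res (coi J ⊗ ext P) ⟶ J ⊗ P`: evaluation at `1`. -/
noncomputable def wCx (J P : DRing.Cx R) :
    (resCx φ).obj ((coiCx φ).obj J ⊗ (extCx φ).obj P) ⟶ J ⊗ P :=
  haveI := isIso_prCx φ ((coiCx φ).obj J) P
  inv (prCx φ ((coiCx φ).obj J) P) ≫ (ev₁ φ J ⊗ₘ 𝟙 P)

theorem prCx_wCx (J P : DRing.Cx R) :
    prCx φ ((coiCx φ).obj J) P ≫ wCx φ J P = (ev₁ φ J ⊗ₘ 𝟙 P) := by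
  haveI := isIso_prCx φ ((coiCx φ).obj J) P
  rw [wCx, IsIso.hom_inv_id_assoc]

theorem wCx_naturality (J : DRing.Cx R) {P P' : DRing.Cx R} (f : P ⟶ P') :
    (resCx φ).map (𝟙 ((coiCx φ).obj J) ⊗ₘ (extCx φ).map f) ≫ wCx φ J P' = wCx φ J P ≫ (𝟙 J ⊗ₘ f) := by
  haveI := isIso_prCx φ ((coiCx φ).obj J) P
  rw [← cancel_epi (prCx φ ((coiCx φ).obj J) P), ← Category.assoc, ← prCx_naturality, Category.assoc,
    prCx_wCx, ← Category.assoc (prCx φ _ _), prCx_wCx, MonoidalCategory.tensorHom_comp_tensorHom,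
    MonoidalCategory.tensorHom_comp_tensorHom, Category.id_comp, Category.comp_id, Category.id_comp,
    Category.comp_id]

/-- On a representative the comparison is the tensor-Hom interchange. -/
theorem prCx_adjCoi_κ {E J P I : DRing.Cx R} (π : E ⟶ ringCx φ) (s : J ⊗ P ⟶ I) :
    prCx φ ((coiCx φ).obj J) P ≫ (resCx φ).map (adjCoi φ (wCx φ J P ≫ s)) ≫ κ₀ φ I ≫ homPre I π =
      ((κ₀ φ J ≫ homPre J π) ⊗ₘ 𝟙 P) ≫ asCx E J P ≫ DRing.homCxMap E s := by
  refine HomologicalComplex.hom_ext _ _ fun n => mapBifunctor.hom_ext fun a q (h : a + q = n) =>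
    ModuleCat.MonoidalCategory.tensor_ext fun c x => ?_
  refine Cochain.ext _ _ fun p m hp => ModuleCat.hom_ext (LinearMap.ext fun e => ?_)
  let C := (coiCx φ).obj J
  let ex : ((extCx φ).obj P).X q :=
    ((ModuleCat.extendRestrictScalarsAdj.{u, u, u} φ).unit.app (P.X q)).hom x
  let Z : (C ⊗ (extCx φ).obj P).X n :=
    (ιTensorObj C ((extCx φ).obj P) a q n h).hom ((show C.X a from c) ⊗ₜ[A] ex)
  let G : ((resCx φ).obj ((coiCx φ).obj I)).X n := ((adjCoi φ (wCx φ J P ≫ s)).f n).hom Z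
  let z : (DRing.homCx E J).X a := ((κ₀ φ J ≫ homPre J π).f a).hom c
  have hL : ((prCx φ C P ≫ (resCx φ).map (adjCoi φ (wCx φ J P ≫ s)) ≫ κ₀ φ I ≫ homPre I π).f n).hom
      ((KFlatLib.ιT ((resCx φ).obj C) P a q n h).hom (c ⊗ₜ[R] x)) =
      ((κ₀ φ I ≫ homPre I π).f n).hom G := by
    show ((κ₀ φ I ≫ homPre I π).f n).hom (((adjCoi φ (wCx φ J P ≫ s)).f n).hom
      (((prCx φ C P).f n).hom ((KFlatLib.ιT ((resCx φ).obj C) P a q n h).hom (c ⊗ₜ[R] x)))) = _
    exact congrArg (fun t : (C ⊗ (extCx φ).obj P).X n =>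
      ((κ₀ φ I ≫ homPre I π).f n).hom (((adjCoi φ (wCx φ J P ≫ s)).f n).hom t)) (prCx_ι φ C P a q n h c x)
  have hR : ((((κ₀ φ J ≫ homPre J π) ⊗ₘ 𝟙 P) ≫ asCx E J P ≫ DRing.homCxMap E s).f n).hom
      ((KFlatLib.ιT ((resCx φ).obj C) P a q n h).hom (c ⊗ₜ[R] x)) =
      ((DRing.homCxMap E s).f n).hom ((asF E J P n).hom
        ((KFlatLib.ιT (DRing.homCx E J) P a q n h).hom (z ⊗ₜ[R] x))) := by
    have h1 : (((κ₀ φ J ≫ homPre J π) ⊗ₘ 𝟙 P).f n).hom
        ((KFlatLib.ιT ((resCx φ).obj C) P a q n h).hom (c ⊗ₜ[R] x)) =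
        (KFlatLib.ιT (DRing.homCx E J) P a q n h).hom (z ⊗ₜ[R] x) :=
      congr($(KFlatLib.ιT_tMap (κ₀ φ J ≫ homPre J π) (𝟙 P) a q n h).hom (c ⊗ₜ[R] x))
    exact congrArg (fun t => ((DRing.homCxMap E s).f n).hom ((asF E J P n).hom t)) h1
  show ((ap (((prCx φ C P ≫ (resCx φ).map (adjCoi φ (wCx φ J P ≫ s)) ≫ κ₀ φ I ≫ homPre I π).f n).hom
      ((KFlatLib.ιT ((resCx φ).obj C) P a q n h).hom (c ⊗ₜ[R] x)))).v p m hp).hom e =
    ((ap (((((κ₀ φ J ≫ homPre J π) ⊗ₘ 𝟙 P) ≫ asCx E J P ≫ DRing.homCxMap E s).f n).hom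
      ((KFlatLib.ιT ((resCx φ).obj C) P a q n h).hom (c ⊗ₜ[R] x)))).v p m hp).hom e
  rw [hL, hR]
  show ((Cochain.fromSingleMk (coApp φ G) (zero_add n)).v p m hp).hom ((π.f p).hom e) =
    (((ap ((asF E J P n).hom ((KFlatLib.ιT (DRing.homCx E J) P a q n h).hom (z ⊗ₜ[R] x)))).comp
      (Cochain.ofHom s) (add_zero n)).v p m hp).hom e
  rw [Cochain.comp_zero_cochain_v, Cochain.ofHom_v, asF_ι]
  by_cases hp0 : p = 0
  · subst hp0
    obtain rfl : n = m := by omega
    let y : A := (HomologicalComplex.singleObjXSelf (ComplexShape.up ℤ) 0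
      ((ModuleCat.restrictScalars φ).obj (ModuleCat.of A A))).hom.hom ((π.f 0).hom e)
    let cy : C.X a := y • (show C.X a from c)
    have hz : ((ap z).v 0 a (zero_add a)).hom e =
        (ModuleCat.CoextendScalars.equiv φ (J.X a) c) y := by
      show ((Cochain.fromSingleMk (coApp φ c) (zero_add a)).v 0 a (zero_add a)).hom ((π.f 0).hom e) = _
      rw [Cochain.fromSingleMk_v]
      rfl
    have hG : ((Cochain.fromSingleMk (coApp φ G) (zero_add n)).v 0 n hp).hom ((π.f 0).hom e) =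
        ((wCx φ J P ≫ s).f n).hom (y • Z) := by
      rw [Cochain.fromSingleMk_v]
      rfl
    have hyZ : y • Z = ((prCx φ C P).f n).hom
        ((KFlatLib.ιT ((resCx φ).obj C) P a q n h).hom ((show ((resCx φ).obj C).X a from cy) ⊗ₜ[R] x)) := by
      refine Eq.trans ?_ (prCx_ι φ C P a q n h cy x).symm
      show y • (ιTensorObj C ((extCx φ).obj P) a q n h).hom _ = _
      rw [← map_smul, TensorProduct.smul_tmul']
    have hw : ((wCx φ J P).f n).hom (y • Z) =
        (KFlatLib.ιT J P a q n h).hom ((ModuleCat.CoextendScalars.equiv φ (J.X a) c) y ⊗ₜ[R] x) := by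
      refine (congrArg ((wCx φ J P).f n).hom hyZ).trans ?_
      refine (congr($(congrArg (fun t : (resCx φ).obj C ⊗ P ⟶ J ⊗ P => t.f n) (prCx_wCx φ J P)).hom
        ((KFlatLib.ιT ((resCx φ).obj C) P a q n h).hom ((show ((resCx φ).obj C).X a from cy) ⊗ₜ[R] x)))).trans ?_
      refine (congr($(KFlatLib.ιT_tMap (ev₁ φ J) (𝟙 P) a q n h).hom
        ((show ((resCx φ).obj C).X a from cy) ⊗ₜ[R] x))).trans ?_
      refine congrArg (fun t => (KFlatLib.ιT J P a q n h).hom (t ⊗ₜ[R] x)) ?_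
      exact congrArg (ModuleCat.CoextendScalars.equiv φ (J.X a) c) (one_mul y)
    rw [hG]
    show (s.f n).hom (((wCx φ J P).f n).hom (y • Z)) = (s.f n).hom ((asV (ap z) h x 0 n hp).hom e)
    rw [hw, asV_apply, zero_mul, Int.negOnePow_zero, one_smul,
      ιT_cast (show (0 : ℤ) + a = a from zero_add a) (show 0 + a + q = n by omega) x
        (fun r hr => ((ap z).v 0 r (by omega)).hom e), hz]
  · rw [Cochain.fromSingleMk_v_eq_zero _ _ _ _ _ hp0]
    have hz : (ap z).v p (p + a) rfl = 0 := by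
      show π.f p ≫ (Cochain.fromSingleMk (coApp φ c) (zero_add a)).v p (p + a) rfl = 0
      rw [Cochain.fromSingleMk_v_eq_zero _ _ _ _ _ hp0, comp_zero]
    show (0 : _) = (s.f m).hom ((asV (ap z) h x p m hp).hom e)
    rw [asV_apply, hz]
    simp

theorem quasiIso_resCx_reflect {Y Y' : DRing.Cx A} (f : Y ⟶ Y') [QuasiIso ((resCx φ).map f)] :
    QuasiIso f :=
  (quasiIso_map_iff_of_preservesHomology f (ModuleCat.restrictScalars.{u} φ)).1 inferInstance

variable [HasRHomRel φ] [HasLTenMix φ]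

/-- The functor `K ↦ K ⊗^L_R RHom(A, R)`. -/
noncomputable abbrev relTen : Dual.D R ⥤ Dual.D A :=
  (Functor.curry.obj (DTen.LTenMix φ)).flip.obj ((DTen.RHomRel φ).obj (DTen.unit R))

variable (J : DRing.Cx R) (ι₀ : 𝟙_ (DRing.Cx R) ⟶ J) [QuasiIso ι₀] [J.IsKInjective]

/-- `Q (coi J) ≅ RHom(A, R)`. -/
noncomputable def coiUnitIso :
    DRing.toD ((coiCx φ).obj J) ≅ (RHomRel φ).obj (DTen.unit R) :=
  (haveI := isIso_θCoi φ J; asIso (θCoi φ J)) ≪≫
    (RHomRel φ).mapIso (asIso (DerivedCategory.Q.map ι₀)).symm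

/-- The tensor product on complexes. -/
noncomputable def jFun : DerivedCategory.Q ⋙ relTen φ ⟶
    extCx φ ⋙ tensorLeft ((coiCx φ).obj J) ⋙ DerivedCategory.Q where
  app P := (LTenMix φ).map (Prod.mkHom (𝟙 (DRing.toD P)) (coiUnitIso φ J ι₀).inv) ≫
    (εMix φ).app (P, (coiCx φ).obj J) ≫
      DerivedCategory.Q.map (braidCx ((extCx φ).obj P) ((coiCx φ).obj J)).hom
  naturality P P' f := by
    let C := (coiCx φ).obj J
    show (LTenMix φ).map (Prod.mkHom (DerivedCategory.Q.map f) (𝟙 _)) ≫ _ =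
      _ ≫ DerivedCategory.Q.map (C ◁ (extCx φ).map f)
    rw [← MonoidalCategory.id_tensorHom]
    have h1 : (LTenMix φ).map (Prod.mkHom (DerivedCategory.Q.map f) (𝟙 (DRing.toD C))) ≫
        (εMix φ).app (P', C) =
        (εMix φ).app (P, C) ≫ DerivedCategory.Q.map ((extCx φ).map f ⊗ₘ 𝟙 C) := by
      have := (εMix φ).naturality (Prod.mkHom f (𝟙 C))
      rw [MonoidalCategory.tensorHom_def]
      refine Eq.trans ?_ this
      show _ = (LTenMix φ).map (Prod.mkHom (DerivedCategory.Q.map f) (DerivedCategory.Q.map (𝟙 C))) ≫ _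
      rw [CategoryTheory.Functor.map_id]
    rw [← Functor.map_comp_assoc]
    rw [show Prod.mkHom (DerivedCategory.Q.map f) (𝟙 ((RHomRel φ).obj (DTen.unit R))) ≫
        Prod.mkHom (𝟙 (DRing.toD P')) (coiUnitIso φ J ι₀).inv =
      Prod.mkHom (𝟙 (DRing.toD P)) (coiUnitIso φ J ι₀).inv ≫
        Prod.mkHom (DerivedCategory.Q.map f) (𝟙 (DRing.toD C)) from
      Prod.ext ((Category.comp_id _).trans (Category.id_comp _).symm)
        ((Category.id_comp _).trans (Category.comp_id _).symm)]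
    rw [Functor.map_comp_assoc, reassoc_of% h1, Category.assoc, Category.assoc, ← Functor.map_comp,
      ← Functor.map_comp, braidCx_naturality]
    rfl

theorem isIso_jFun_app (P : DRing.Cx R) (hP : KF P) : IsIso ((jFun φ J ι₀).app P) := by
  haveI := isIso_εMix φ P ((coiCx φ).obj J) hP
  haveI : IsIso (Prod.mkHom (𝟙 (DRing.toD P)) (coiUnitIso φ J ι₀).inv) :=
    (isIso_prod_iff _ _).2 ⟨inferInstance, inferInstance⟩
  show IsIso ((LTenMix φ).map (Prod.mkHom (𝟙 (DRing.toD P)) (coiUnitIso φ J ι₀).inv) ≫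
    (εMix φ).app (P, (coiCx φ).obj J) ≫
      DerivedCategory.Q.map (braidCx ((extCx φ).obj P) ((coiCx φ).obj J)).hom)
  infer_instance

/-- Restricted, the tensor product evaluates to `J ⊗ P`. -/
noncomputable def a₀ : DerivedCategory.Q ⋙ relTen φ ⋙ DRing.restrictD φ ⟶
    tensorLeft J ⋙ DerivedCategory.Q where
  app P := (DRing.restrictD φ).map ((jFun φ J ι₀).app P) ≫
    (resFactors φ).hom.app ((coiCx φ).obj J ⊗ (extCx φ).obj P) ≫ DerivedCategory.Q.map (wCx φ J P)
  naturality P P' f := by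
    show (DRing.restrictD φ).map ((relTen φ).map (DerivedCategory.Q.map f)) ≫ _ =
      _ ≫ DerivedCategory.Q.map (J ◁ f)
    have h1 : (relTen φ).map (DerivedCategory.Q.map f) ≫ (jFun φ J ι₀).app P' =
        (jFun φ J ι₀).app P ≫ DerivedCategory.Q.map ((coiCx φ).obj J ◁ (extCx φ).map f) :=
      (jFun φ J ι₀).naturality f
    rw [← Functor.map_comp_assoc, h1, Functor.map_comp, Category.assoc, Category.assoc, Category.assoc,
      reassoc_of% (resFactors_naturality φ ((coiCx φ).obj J ◁ (extCx φ).map f)), ← Functor.map_comp,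
      ← Functor.map_comp, ← MonoidalCategory.id_tensorHom, wCx_naturality, MonoidalCategory.id_tensorHom]

/-- `P ⟶ J ⊗ P`. -/
noncomputable def ρJ : 𝟭 (DRing.Cx R) ⟶ tensorLeft J where
  app P := (λ_ P).inv ≫ ι₀ ▷ P
  naturality P P' f := by
    show f ≫ (λ_ P').inv ≫ ι₀ ▷ P' = ((λ_ P).inv ≫ ι₀ ▷ P) ≫ J ◁ f
    rw [leftUnitor_inv_naturality_assoc, whisker_exchange, Category.assoc]

omit [J.IsKInjective] in
theorem quasiIso_ρJ (P : DRing.Cx R) (hP : KF P) : QuasiIso ((ρJ J ι₀).app P) := by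
  haveI : QuasiIso (ι₀ ▷ P) := by
    rw [← MonoidalCategory.tensorHom_id]
    exact KFlatLib.quasiIso_tMap_right hP ι₀
  show QuasiIso ((λ_ P).inv ≫ ι₀ ▷ P)
  infer_instance

/-- `res (K ⊗^L M) ⟶ K` on complexes. -/
noncomputable def ω₀ : DerivedCategory.Q ⋙ relTen φ ⋙ DRing.restrictD φ ⟶ DerivedCategory.Q where
  app K :=
    haveI := isIso_Q_map ((resψ R).app K) (quasiIso_resψ K)
    haveI := isIso_Q_map ((ρJ J ι₀).app ((resP R).obj K)) (quasiIso_ρJ J ι₀ _ (kf_resP K))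
    (DRing.restrictD φ).map ((relTen φ).map (inv (DerivedCategory.Q.map ((resψ R).app K)))) ≫
      (a₀ φ J ι₀).app ((resP R).obj K) ≫
        inv (DerivedCategory.Q.map ((ρJ J ι₀).app ((resP R).obj K))) ≫
          DerivedCategory.Q.map ((resψ R).app K)
  naturality K K' f := by
    haveI := isIso_Q_map ((resψ R).app K) (quasiIso_resψ K)
    haveI := isIso_Q_map ((resψ R).app K') (quasiIso_resψ K')
    haveI := isIso_Q_map ((ρJ J ι₀).app ((resP R).obj K)) (quasiIso_ρJ J ι₀ _ (kf_resP K))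
    haveI := isIso_Q_map ((ρJ J ι₀).app ((resP R).obj K')) (quasiIso_ρJ J ι₀ _ (kf_resP K'))
    let g := (resP R).map f
    have hψ : g ≫ (resψ R).app K' = (resψ R).app K ≫ f := (resψ R).naturality f
    have h1 : (DRing.restrictD φ).map ((relTen φ).map (DerivedCategory.Q.map f)) ≫
        (DRing.restrictD φ).map ((relTen φ).map (inv (DerivedCategory.Q.map ((resψ R).app K')))) =
        (DRing.restrictD φ).map ((relTen φ).map (inv (DerivedCategory.Q.map ((resψ R).app K)))) ≫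
          (DRing.restrictD φ).map ((relTen φ).map (DerivedCategory.Q.map g)) := by
      rw [← Functor.map_comp, ← Functor.map_comp, ← Functor.map_comp, ← Functor.map_comp]
      refine congrArg _ (congrArg _ ?_)
      rw [IsIso.eq_inv_comp, ← Category.assoc, IsIso.comp_inv_eq, ← Functor.map_comp, ← Functor.map_comp, hψ]
    have h2 : (DRing.restrictD φ).map ((relTen φ).map (DerivedCategory.Q.map g)) ≫
        (a₀ φ J ι₀).app ((resP R).obj K') =
        (a₀ φ J ι₀).app ((resP R).obj K) ≫ DerivedCategory.Q.map (J ◁ g) := (a₀ φ J ι₀).naturality g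
    have h3 : DerivedCategory.Q.map (J ◁ g) ≫
        inv (DerivedCategory.Q.map ((ρJ J ι₀).app ((resP R).obj K'))) ≫
          DerivedCategory.Q.map ((resψ R).app K') =
        inv (DerivedCategory.Q.map ((ρJ J ι₀).app ((resP R).obj K))) ≫
          DerivedCategory.Q.map ((resψ R).app K) ≫ DerivedCategory.Q.map f := by
      rw [IsIso.eq_inv_comp, ← Category.assoc, ← Functor.map_comp]
      have : (ρJ J ι₀).app ((resP R).obj K) ≫ J ◁ g = g ≫ (ρJ J ι₀).app ((resP R).obj K') :=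
        ((ρJ J ι₀).naturality g).symm
      rw [this, Functor.map_comp, Category.assoc, IsIso.hom_inv_id_assoc, ← Functor.map_comp,
        ← Functor.map_comp, hψ]
    simp only [Functor.comp_map, Category.assoc]
    rw [reassoc_of% h1, reassoc_of% h2, h3]

/-- `res (K ⊗^L M) ⟶ K`. -/
noncomputable def ωNat : relTen φ ⋙ DRing.restrictD φ ⟶ 𝟭 (Dual.D R) :=
  Localization.liftNatTrans DerivedCategory.Q (qis R) (DerivedCategory.Q ⋙ relTen φ ⋙ DRing.restrictD φ)
    DerivedCategory.Q (relTen φ ⋙ DRing.restrictD φ) (𝟭 _) (ω₀ φ J ι₀)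

theorem ωNat_app (K : DRing.Cx R) : (ωNat φ J ι₀).app (DRing.toD K) = (ω₀ φ J ι₀).app K := by
  dsimp [ωNat]
  rw [Localization.liftNatTrans_app]
  dsimp [Localization.Lifting.iso]
  erw [Category.id_comp, Category.comp_id]

/-- The comparison. -/
noncomputable def ηRel : relTen φ ⟶ RHomRel φ where
  app X := (relAdj φ).homEquiv _ _ ((ωNat φ J ι₀).app X)
  naturality X Y f := by
    rw [← Adjunction.homEquiv_naturality_left, ← Adjunction.homEquiv_naturality_right]
    exact congrArg _ ((ωNat φ J ι₀).naturality f)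

theorem isIso_ηRel_app {E : DRing.Cx R} {b₀ b₁ : ℤ} (π : E ⟶ ringCx φ) [QuasiIso π]
    [E.IsKProjective] (hE : DRing.VanishesOutside E b₀ b₁) (hEp : DRing.TermwiseFiniteProjective E)
    (X : Dual.D R) : IsIso ((ηRel φ J ι₀).app X) := by
  let K := DerivedCategory.Q.objPreimage X
  suffices h : IsIso ((ηRel φ J ι₀).app (DRing.toD K)) from
    isIso_app_of_iso (ηRel φ J ι₀) (DerivedCategory.Q.objObjPreimageIso X)
  let P := (resP R).obj K
  have hP : KF P := kf_resP K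
  obtain ⟨I, s, hI, hs, -⟩ := KInjRes.exists_resolution (J ⊗ P)
  haveI : QuasiIso s := (HomologicalComplex.mem_quasiIso_iff _).1 hs.2
  haveI hψ := isIso_Q_map ((resψ R).app K) (quasiIso_resψ K)
  haveI := quasiIso_ρJ J ι₀ P hP
  haveI hρ := isIso_Q_map ((ρJ J ι₀).app P) inferInstance
  haveI := isIso_θCoi φ I
  haveI := isIso_jFun_app φ J ι₀ P hP
  let Φ := adjCoi φ (wCx φ J P ≫ s)
  haveI : QuasiIso ((resCx φ).map Φ) := by
    haveI := isIso_prCx φ ((coiCx φ).obj J) P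
    haveI := quasiIso_κ φ (I := I) π
    haveI := quasiIso_κ φ (I := J) π
    haveI := quasiIso_asCx (J := J) (P := P) hE hEp
    haveI := quasiIso_homCxMap (P := E) s
    haveI : QuasiIso ((κ₀ φ J ≫ homPre J π) ⊗ₘ 𝟙 P) :=
      KFlatLib.quasiIso_tMap_right hP (κ₀ φ J ≫ homPre J π)
    haveI : QuasiIso (prCx φ ((coiCx φ).obj J) P ≫ (resCx φ).map Φ ≫ κ₀ φ I ≫ homPre I π) := by
      rw [prCx_adjCoi_κ]
      infer_instance
    haveI : QuasiIso ((resCx φ).map Φ ≫ κ₀ φ I ≫ homPre I π) :=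
      quasiIso_of_comp_left (prCx φ ((coiCx φ).obj J) P) _
    exact quasiIso_of_comp_right _ (κ₀ φ I ≫ homPre I π)
  haveI := quasiIso_resCx_reflect φ Φ
  let f : DRing.toD K ⟶ DRing.toD I :=
    inv (DerivedCategory.Q.map ((resψ R).app K)) ≫
      DerivedCategory.Q.map ((ρJ J ι₀).app P ≫ s)
  haveI : IsIso (DerivedCategory.Q.map ((ρJ J ι₀).app P ≫ s)) := isIso_Q_map _ inferInstance
  haveI : IsIso f := inferInstance
  let j := (relTen φ).map (inv (DerivedCategory.Q.map ((resψ R).app K))) ≫ (jFun φ J ι₀).app P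
  haveI : IsIso j := inferInstance
  have key : (ηRel φ J ι₀).app (DRing.toD K) ≫ (RHomRel φ).map f =
      j ≫ DerivedCategory.Q.map Φ ≫ θCoi φ I := by
    show (relAdj φ).homEquiv _ _ _ ≫ _ = _
    rw [← Adjunction.homEquiv_naturality_right, θCoi, ← Adjunction.homEquiv_naturality_left,
      ← Adjunction.homEquiv_naturality_left]
    refine congrArg _ ?_
    rw [ωNat_app]
    show ((DRing.restrictD φ).map ((relTen φ).map (inv (DerivedCategory.Q.map ((resψ R).app K)))) ≫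
      ((DRing.restrictD φ).map ((jFun φ J ι₀).app P) ≫
        (resFactors φ).hom.app ((coiCx φ).obj J ⊗ (extCx φ).obj P) ≫ DerivedCategory.Q.map (wCx φ J P)) ≫
        inv (DerivedCategory.Q.map ((ρJ J ι₀).app P)) ≫ DerivedCategory.Q.map ((resψ R).app K)) ≫
      inv (DerivedCategory.Q.map ((resψ R).app K)) ≫ DerivedCategory.Q.map ((ρJ J ι₀).app P ≫ s) = _
    simp only [Category.assoc, IsIso.hom_inv_id_assoc, Functor.map_comp, IsIso.inv_hom_id_assoc]
    simp only [j, Functor.map_comp, Category.assoc]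
    refine congrArg _ (congrArg _ ?_)
    rw [reassoc_of% (resFactors_naturality φ Φ), ← Functor.map_comp, ← Functor.map_comp,
      adjCoi_ev₁, Functor.map_comp]
  haveI : IsIso ((ηRel φ J ι₀).app (DRing.toD K) ≫ (RHomRel φ).map f) := by
    rw [key]
    infer_instance
  exact IsIso.of_isIso_comp_right _ ((RHomRel φ).map f)

omit J ι₀

theorem nonempty_RHomRel_iso (hA : DRing.IsPerfect R ((DRing.restrictD φ).obj (DTen.unit A))) :
    Nonempty (RHomRel φ ≅ relTen φ) := by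
  obtain ⟨E, a, b, π, hE, hEp, hEk, hπ⟩ := exists_perfect_rep φ hA
  obtain ⟨J, ι₀, hJ, hι, -⟩ := KInjRes.exists_resolution (𝟙_ (DRing.Cx R))
  haveI : QuasiIso ι₀ := (HomologicalComplex.mem_quasiIso_iff _).1 hι.2
  haveI : ∀ X, IsIso ((ηRel φ J ι₀).app X) := isIso_ηRel_app φ J ι₀ π hE hEp
  haveI := NatIso.isIso_of_isIso_app (ηRel φ J ι₀)
  exact ⟨(asIso (ηRel φ J ι₀)).symm⟩

end DTenLib
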