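import Groth.Agent.DTenLib.BCPerfect
import Groth.Agent.DTenLib.CoIndTensor
import Groth.Agent.DerLib.ExactHomology

/-!
# Base change of RHom along a ring map with perfect target
-/

set_option autoImplicit false

universe u

open CategoryTheory CategoryTheory.Limits MonoidalCategory HomologicalComplex
attribute [local instance] HasDerivedCategory.standard

namespace DTenLib

open DTen

section Assoc

variable {A : Type u} [CommRing A] [HasLTen A] [HasLTen₃ A] [IsSymMonoidal A]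

/-- The associator through the counits. -/
theorem associator_ε (p q r : DRing.Cx A) :
    (DTen.associator (DRing.toD p) (DRing.toD q) (DRing.toD r)).hom ≫
        (LTen₂ A).map (Prod.mkHom (𝟙 (DRing.toD p)) ((ε A).app (q, r))) ≫ (ε A).app (p, q ⊗ r) =
      (LTen₂ A).map (Prod.mkHom ((ε A).app (p, q)) (𝟙 (DRing.toD r))) ≫ (ε A).app (p ⊗ q, r) ≫
        DerivedCategory.Q.map (α_ p q r).hom := by
  have h1 := associator_hom_assocR (DRing.toD p) (DRing.toD q) (DRing.toD r)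
  have hR : (assocR A).app ((QQQ A).obj (p, (q, r))) ≫ (ε₃ A).app (p, (q, r)) =
      (LTen₂ A).map (Prod.mkHom (𝟙 (DRing.toD p)) ((ε A).app (q, r))) ≫ (ε A).app (p, q ⊗ r) :=
    assocR_fac A (p, (q, r))
  have hL : (assocL A).app ((QQQ A).obj (p, (q, r))) ≫ (ε₃ A).app (p, (q, r)) =
      (LTen₂ A).map (Prod.mkHom ((ε A).app (p, q)) (𝟙 (DRing.toD r))) ≫ (ε A).app (p ⊗ q, r) ≫
        DerivedCategory.Q.map (α_ p q r).hom :=
    assocL_fac A (p, (q, r))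
  rw [← hR, ← hL, ← Category.assoc]
  exact congrArg (fun t => CategoryStruct.comp t ((ε₃ A).app (p, (q, r)))) h1

/-- The counit is natural. -/
theorem ε_natural {p p' q q' : DRing.Cx A} (f : p ⟶ p') (g : q ⟶ q') :
    tm (DerivedCategory.Q.map f) (DerivedCategory.Q.map g) ≫ (ε A).app (p', q') =
      (ε A).app (p, q) ≫ DerivedCategory.Q.map (f ⊗ₘ g) := by
  rw [MonoidalCategory.tensorHom_def]
  exact (ε A).naturality (Prod.mkHom f g)

/-- The unitor and the associator. -/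
theorem unitL_associator (b c : Dual.D A) :
    tm ((unitL A).app b) (𝟙 c) =
      (DTen.associator (unit A) b c).hom ≫ (unitL A).app ((LTen₂ A).obj (b, c)) := by
  obtain ⟨q, hq, ⟨eb⟩⟩ := exists_kf_rep b
  obtain ⟨r, hr, ⟨ec⟩⟩ := exists_kf_rep c
  suffices h : tm ((unitL A).app (DRing.toD q)) (𝟙 (DRing.toD r)) =
      (DTen.associator (unit A) (DRing.toD q) (DRing.toD r)).hom ≫
        (unitL A).app ((LTen₂ A).obj (DRing.toD q, DRing.toD r)) by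
    haveI : IsIso (tm (tm (𝟙 (unit A)) eb.hom) ec.hom) := by
      haveI : IsIso (tm (𝟙 (unit A)) eb.hom) := by
        haveI : IsIso (Prod.mkHom (𝟙 (unit A)) eb.hom) := (isIso_prod_iff _ _).2 ⟨inferInstance, inferInstance⟩
        infer_instance
      haveI : IsIso (Prod.mkHom (tm (𝟙 (unit A)) eb.hom) ec.hom) :=
        (isIso_prod_iff _ _).2 ⟨inferInstance, inferInstance⟩
      infer_instance
    have n1 : tm (𝟙 (unit A)) eb.hom ≫ (unitL A).app b = (unitL A).app (DRing.toD q) ≫ eb.hom :=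
      (unitL A).naturality eb.hom
    have n2 : tm (𝟙 (unit A)) (tm eb.hom ec.hom) ≫ (unitL A).app ((LTen₂ A).obj (b, c)) =
        (unitL A).app ((LTen₂ A).obj (DRing.toD q, DRing.toD r)) ≫ tm eb.hom ec.hom :=
      (unitL A).naturality (tm eb.hom ec.hom)
    rw [← cancel_epi (tm (tm (𝟙 (unit A)) eb.hom) ec.hom), tm_comp, ← Category.assoc,
      associator_natural, Category.assoc, n2, n1, Category.comp_id, ← reassoc_of% h, tm_comp,
      Category.id_comp]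
  haveI := isIso_ε (A := A) q r (Or.inl hq)
  have n3 : tm (𝟙 (unit A)) ((ε A).app (q, r)) ≫ (unitL A).app (DRing.toD (q ⊗ r)) =
      (unitL A).app ((LTen₂ A).obj (DRing.toD q, DRing.toD r)) ≫ (ε A).app (q, r) :=
    (unitL A).naturality ((ε A).app (q, r))
  rw [← cancel_mono ((ε A).app (q, r)), Category.assoc, ← n3,
    show (unitL A).app (DRing.toD q) = (ε A).app (𝟙_ (DRing.Cx A), q) ≫ DerivedCategory.Q.map (λ_ q).hom
      from unitL_app A q,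
    show (unitL A).app (DRing.toD (q ⊗ r)) =
      (ε A).app (𝟙_ (DRing.Cx A), q ⊗ r) ≫ DerivedCategory.Q.map (λ_ (q ⊗ r)).hom from unitL_app A (q ⊗ r),
    ← Category.comp_id (𝟙 (DRing.toD r)), ← tm_comp, Category.assoc,
    ← CategoryTheory.Functor.map_id DerivedCategory.Q r, ε_natural]
  have h2 := associator_ε (𝟙_ (DRing.Cx A)) q r
  rw [reassoc_of% h2, ← Functor.map_comp, CategoryTheory.Functor.map_id]
  refine congrArg _ (congrArg _ (congrArg _ ?_))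
  rw [MonoidalCategory.tensorHom_id]
  exact (MonoidalCategory.leftUnitor_tensor_hom q r).symm ▸ (by simp)

end Assoc

variable {R R' : Type u} [CommRing R] [CommRing R'] (φ : R →+* R')

/-- `resTenCx` is compatible with the associators. -/
theorem resTenCx_assoc (Y₁ Y₂ Y₃ : DRing.Cx R') :
    (resTenCx φ Y₁ Y₂ ⊗ₘ 𝟙 ((resCx φ).obj Y₃)) ≫ resTenCx φ (Y₁ ⊗ Y₂) Y₃ ≫
        (resCx φ).map (α_ Y₁ Y₂ Y₃).hom =
      (α_ ((resCx φ).obj Y₁) ((resCx φ).obj Y₂) ((resCx φ).obj Y₃)).hom ≫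
        (𝟙 ((resCx φ).obj Y₁) ⊗ₘ resTenCx φ Y₂ Y₃) ≫ resTenCx φ Y₁ (Y₂ ⊗ Y₃) := by
  let S₁ := (resCx φ).obj Y₁
  let S₂ := (resCx φ).obj Y₂
  let S₃ := (resCx φ).obj Y₃
  refine HomologicalComplex.hom_ext _ _ fun n => mapBifunctor.hom_ext fun m c (hmc : m + c = n) =>
    ModuleCat.MonoidalCategory.tensor_ext fun u z => ?_
  let L := KFlatLib.ιT (S₁ ⊗ S₂) S₃ m c n hmc
  let F := ((resTenCx φ Y₁ Y₂ ⊗ₘ 𝟙 S₃) ≫ resTenCx φ (Y₁ ⊗ Y₂) Y₃ ≫ (resCx φ).map (α_ Y₁ Y₂ Y₃).hom).f n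
  let G := ((α_ S₁ S₂ S₃).hom ≫ (𝟙 S₁ ⊗ₘ resTenCx φ Y₂ Y₃) ≫ resTenCx φ Y₁ (Y₂ ⊗ Y₃)).f n
  let Z : (S₁ ⊗ S₂).X m ⟶ ((resCx φ).obj (Y₁ ⊗ Y₂ ⊗ Y₃)).X n :=
    ModuleCat.ofHom (Y := ((resCx φ).obj (Y₁ ⊗ Y₂ ⊗ Y₃)).X n)
    ((F.hom.comp L.hom).comp ((TensorProduct.mk R ((S₁ ⊗ S₂).X m) (S₃.X c)).flip z))
  let Z' : (S₁ ⊗ S₂).X m ⟶ ((resCx φ).obj (Y₁ ⊗ Y₂ ⊗ Y₃)).X n :=
    ModuleCat.ofHom (Y := ((resCx φ).obj (Y₁ ⊗ Y₂ ⊗ Y₃)).X n)
    ((G.hom.comp L.hom).comp ((TensorProduct.mk R ((S₁ ⊗ S₂).X m) (S₃.X c)).flip z))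
  show Z.hom u = Z'.hom u
  suffices hZ : Z = Z' by rw [hZ]
  refine mapBifunctor.hom_ext fun a b (hab : a + b = m) => ModuleCat.MonoidalCategory.tensor_ext fun x y => ?_
  show F.hom (L.hom ((KFlatLib.ιT S₁ S₂ a b m hab).hom (x ⊗ₜ y) ⊗ₜ z)) =
    G.hom (L.hom ((KFlatLib.ιT S₁ S₂ a b m hab).hom (x ⊗ₜ y) ⊗ₜ z))
  let x' : Y₁.X a := x
  let y' : Y₂.X b := y
  let z' : Y₃.X c := z
  let w12 : (Y₁ ⊗ Y₂).X m := (ιTensorObj Y₁ Y₂ a b m hab).hom (x' ⊗ₜ[R'] y')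
  let w23 : (Y₂ ⊗ Y₃).X (b + c) := (ιTensorObj Y₂ Y₃ b c (b + c) rfl).hom (y' ⊗ₜ[R'] z')
  have hassoc : ∀ {B : Type u} [CommRing B] (T₁ T₂ T₃ : DRing.Cx B) (x : T₁.X a) (y : T₂.X b) (z : T₃.X c),
      ((α_ T₁ T₂ T₃).hom.f n).hom ((ιTensorObj (T₁ ⊗ T₂) T₃ m c n hmc).hom
        ((ιTensorObj T₁ T₂ a b m hab).hom (x ⊗ₜ y) ⊗ₜ z)) =
      (ιTensorObj T₁ (T₂ ⊗ T₃) a (b + c) n (by omega)).hom
        (x ⊗ₜ (ιTensorObj T₂ T₃ b c (b + c) rfl).hom (y ⊗ₜ z)) := by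
    intro B _ T₁ T₂ T₃ x y z
    subst hab
    exact congr($(HomologicalComplex.ι_mapBifunctorAssociatorX_hom (curriedAssociatorNatIso (ModuleCat.{u} B))
      T₁ T₂ T₃ (ComplexShape.up ℤ) (ComplexShape.up ℤ) (ComplexShape.up ℤ) a b c n hmc).hom ((x ⊗ₜ y) ⊗ₜ z))
  have hres : ∀ (T T' : DRing.Cx R') (p q k : ℤ) (h : p + q = k) (s : T.X p) (t : T'.X q),
      ((resTenCx φ T T').f k).hom ((KFlatLib.ιT ((resCx φ).obj T) ((resCx φ).obj T') p q k h).hom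
        ((show ((resCx φ).obj T).X p from s) ⊗ₜ[R] (show ((resCx φ).obj T').X q from t))) =
      (ιTensorObj T T' p q k h).hom (s ⊗ₜ[R'] t) := fun T T' p q k h s t =>
    congr($(ι_resTenCx φ T T' p q k h).hom
      ((show ((resCx φ).obj T).X p from s) ⊗ₜ[R] (show ((resCx φ).obj T').X q from t)))
  have hL1 : ((resTenCx φ Y₁ Y₂ ⊗ₘ 𝟙 S₃).f n).hom
      (L.hom ((KFlatLib.ιT S₁ S₂ a b m hab).hom (x ⊗ₜ y) ⊗ₜ z)) =
      (KFlatLib.ιT ((resCx φ).obj (Y₁ ⊗ Y₂)) S₃ m c n hmc).hom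
        ((show ((resCx φ).obj (Y₁ ⊗ Y₂)).X m from w12) ⊗ₜ[R] z) :=
    (congr($(KFlatLib.ιT_tMap (resTenCx φ Y₁ Y₂) (𝟙 S₃) m c n hmc).hom
      ((KFlatLib.ιT S₁ S₂ a b m hab).hom (x ⊗ₜ y) ⊗ₜ z))).trans
      (congrArg (fun t : ((resCx φ).obj (Y₁ ⊗ Y₂)).X m =>
        (KFlatLib.ιT ((resCx φ).obj (Y₁ ⊗ Y₂)) S₃ m c n hmc).hom (t ⊗ₜ[R] z)) (hres Y₁ Y₂ a b m hab x' y'))
  have hL2 : F.hom (L.hom ((KFlatLib.ιT S₁ S₂ a b m hab).hom (x ⊗ₜ y) ⊗ₜ z)) =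
      ((α_ Y₁ Y₂ Y₃).hom.f n).hom ((ιTensorObj (Y₁ ⊗ Y₂) Y₃ m c n hmc).hom (w12 ⊗ₜ[R'] z')) := by
    show (((resCx φ).map (α_ Y₁ Y₂ Y₃).hom).f n).hom (((resTenCx φ (Y₁ ⊗ Y₂) Y₃).f n).hom
      (((resTenCx φ Y₁ Y₂ ⊗ₘ 𝟙 S₃).f n).hom _)) = _
    rw [hL1]
    exact congrArg (fun t : (Y₁ ⊗ Y₂ ⊗ Y₃).X n => t) (congrArg ((α_ Y₁ Y₂ Y₃).hom.f n).hom
      (hres (Y₁ ⊗ Y₂) Y₃ m c n hmc w12 z'))
  have hG1 : ((α_ S₁ S₂ S₃).hom.f n).hom (L.hom ((KFlatLib.ιT S₁ S₂ a b m hab).hom (x ⊗ₜ y) ⊗ₜ z)) =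
      (KFlatLib.ιT S₁ (S₂ ⊗ S₃) a (b + c) n (by omega)).hom
        (x ⊗ₜ (KFlatLib.ιT S₂ S₃ b c (b + c) rfl).hom (y ⊗ₜ z)) := hassoc S₁ S₂ S₃ x y z
  have hG2 : ((𝟙 S₁ ⊗ₘ resTenCx φ Y₂ Y₃).f n).hom ((KFlatLib.ιT S₁ (S₂ ⊗ S₃) a (b + c) n (by omega)).hom
      (x ⊗ₜ (KFlatLib.ιT S₂ S₃ b c (b + c) rfl).hom (y ⊗ₜ z))) =
      (KFlatLib.ιT S₁ ((resCx φ).obj (Y₂ ⊗ Y₃)) a (b + c) n (by omega)).hom
        (x ⊗ₜ[R] (show ((resCx φ).obj (Y₂ ⊗ Y₃)).X (b + c) from w23)) :=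
    (congr($(KFlatLib.ιT_tMap (𝟙 S₁) (resTenCx φ Y₂ Y₃) a (b + c) n (by omega)).hom
      (x ⊗ₜ (KFlatLib.ιT S₂ S₃ b c (b + c) rfl).hom (y ⊗ₜ z)))).trans
      (congrArg (fun t : ((resCx φ).obj (Y₂ ⊗ Y₃)).X (b + c) =>
        (KFlatLib.ιT S₁ ((resCx φ).obj (Y₂ ⊗ Y₃)) a (b + c) n (by omega)).hom (x ⊗ₜ[R] t))
        (hres Y₂ Y₃ b c (b + c) rfl y' z'))
  rw [hL2]
  show _ = ((resTenCx φ Y₁ (Y₂ ⊗ Y₃)).f n).hom (((𝟙 S₁ ⊗ₘ resTenCx φ Y₂ Y₃).f n).hom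
    (((α_ S₁ S₂ S₃).hom.f n).hom _))
  rw [hG1, hG2]
  exact (hassoc Y₁ Y₂ Y₃ x' y' z').trans (hres Y₁ (Y₂ ⊗ Y₃) a (b + c) n (by omega) x' w23).symm

variable [HasLTen R] [HasLTen R'] [HasResTen φ] [ResLegIso φ]

theorem resPF_natural {a a' b b' : Dual.D R'} (f : a ⟶ a') (g : b ⟶ b') :
    tm ((DRing.restrictD φ).map f) ((DRing.restrictD φ).map g) ≫ (resPF φ).app (a', b') =
      (resPF φ).app (a, b) ≫ (DRing.restrictD φ).map (tm f g) :=
  (resPF φ).naturality (Prod.mkHom f g)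

theorem resPF_ε (Y Y' : DRing.Cx R') :
    (resPF φ).app (DRing.toD Y, DRing.toD Y') ≫ (DRing.restrictD φ).map ((ε R').app (Y, Y')) ≫
        (resFactors φ).hom.app (Y ⊗ Y') =
      tm ((resFactors φ).hom.app Y) ((resFactors φ).hom.app Y') ≫
        (ε R).app ((resCx φ).obj Y, (resCx φ).obj Y') ≫ DerivedCategory.Q.map (resTenCx φ Y Y') :=
  resPF_fac φ (Y, Y')

variable [HasLTen₃ R] [HasLTen₃ R'] [IsSymMonoidal R] [IsSymMonoidal R']

theorem resPF_assoc_aux {Y₁ Y₂ Y₃ : DRing.Cx R'} (h₁ : KF Y₁) (h₂ : KF Y₂) :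
    tm ((resPF φ).app (DRing.toD Y₁, DRing.toD Y₂)) (𝟙 ((DRing.restrictD φ).obj (DRing.toD Y₃))) ≫
        (resPF φ).app ((LTen₂ R').obj (DRing.toD Y₁, DRing.toD Y₂), DRing.toD Y₃) ≫
          (DRing.restrictD φ).map (DTen.associator (DRing.toD Y₁) (DRing.toD Y₂) (DRing.toD Y₃)).hom =
      (DTen.associator _ _ _).hom ≫ tm (𝟙 ((DRing.restrictD φ).obj (DRing.toD Y₁)))
          ((resPF φ).app (DRing.toD Y₂, DRing.toD Y₃)) ≫
        (resPF φ).app (DRing.toD Y₁, (LTen₂ R').obj (DRing.toD Y₂, DRing.toD Y₃)) := by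
  haveI := isIso_ε (A := R') Y₂ Y₃ (Or.inl h₂)
  haveI := isIso_ε (A := R') Y₁ (Y₂ ⊗ Y₃) (Or.inl h₁)
  haveI : IsIso (tm (𝟙 (DRing.toD Y₁)) ((ε R').app (Y₂, Y₃))) := by
    haveI : IsIso (Prod.mkHom (𝟙 (DRing.toD Y₁)) ((ε R').app (Y₂, Y₃))) :=
      (isIso_prod_iff _ _).2 ⟨inferInstance, inferInstance⟩
    infer_instance
  let r := fun Y : DRing.Cx R' => (resFactors φ).hom.app Y
  rw [← cancel_mono ((DRing.restrictD φ).map (tm (𝟙 (DRing.toD Y₁)) ((ε R').app (Y₂, Y₃)) ≫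
      (ε R').app (Y₁, Y₂ ⊗ Y₃)) ≫ (resFactors φ).hom.app (Y₁ ⊗ (Y₂ ⊗ Y₃)))]
  simp only [Category.assoc]
  rw [← Functor.map_comp_assoc, associator_ε, Functor.map_comp_assoc, Functor.map_comp_assoc]
  erw [← reassoc_of% (resPF_natural φ ((ε R').app (Y₁, Y₂)) (𝟙 (DRing.toD Y₃)))]
  have e1 : (DRing.restrictD φ).map (DerivedCategory.Q.map (α_ Y₁ Y₂ Y₃).hom) ≫ r (Y₁ ⊗ (Y₂ ⊗ Y₃)) =
      r ((Y₁ ⊗ Y₂) ⊗ Y₃) ≫ DerivedCategory.Q.map ((resCx φ).map (α_ Y₁ Y₂ Y₃).hom) :=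
    (resFactors φ).hom.naturality (α_ Y₁ Y₂ Y₃).hom
  rw [show (DRing.restrictD φ).map (DerivedCategory.Q.map (α_ Y₁ Y₂ Y₃).hom) ≫
    (resFactors φ).hom.app (Y₁ ⊗ (Y₂ ⊗ Y₃)) = _ from e1]
  erw [reassoc_of% (resPF_ε φ (Y₁ ⊗ Y₂) Y₃)]
  rw [Functor.map_comp_assoc]
  erw [← reassoc_of% (resPF_natural φ (𝟙 (DRing.toD Y₁)) ((ε R').app (Y₂, Y₃))), resPF_ε φ Y₁ (Y₂ ⊗ Y₃)]
  simp only [CategoryTheory.Functor.map_id]
  rw [← Category.assoc (tm _ _) (tm _ _), tm_comp, ← Category.assoc (tm _ _) (tm _ _), tm_comp,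
    ← Category.assoc (tm _ _) (tm _ _), tm_comp, ← Category.assoc (tm _ _) (tm _ _), tm_comp]
  simp only [Category.assoc, Category.id_comp, Category.comp_id]
  rw [resPF_ε φ Y₁ Y₂, resPF_ε φ Y₂ Y₃]
  let S := fun Y : DRing.Cx R' => (resCx φ).obj Y
  have k1 : ∀ {a b : Dual.D R} (f : a ⟶ DRing.toD (S Y₁ ⊗ S Y₂)) (g : b ⟶ DRing.toD (S Y₃)),
      tm (f ≫ DerivedCategory.Q.map (resTenCx φ Y₁ Y₂)) g ≫
        (ε R).app (S (Y₁ ⊗ Y₂), S Y₃) ≫ DerivedCategory.Q.map (resTenCx φ (Y₁ ⊗ Y₂) Y₃) ≫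
          DerivedCategory.Q.map ((resCx φ).map (α_ Y₁ Y₂ Y₃).hom) =
      tm f g ≫ (ε R).app (S Y₁ ⊗ S Y₂, S Y₃) ≫ DerivedCategory.Q.map
        ((resTenCx φ Y₁ Y₂ ⊗ₘ 𝟙 (S Y₃)) ≫ resTenCx φ (Y₁ ⊗ Y₂) Y₃ ≫ (resCx φ).map (α_ Y₁ Y₂ Y₃).hom) := by
    intro a b f g
    have := ε_natural (p := S Y₁ ⊗ S Y₂) (q := S Y₃) (p' := S (Y₁ ⊗ Y₂)) (resTenCx φ Y₁ Y₂) (𝟙 (S Y₃))
    rw [CategoryTheory.Functor.map_id] at this
    rw [Functor.map_comp, Functor.map_comp, ← reassoc_of% this, ← Category.assoc (tm f g), tm_comp,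
      Category.comp_id]
  have k2 : ∀ {a b : Dual.D R} (f : a ⟶ DRing.toD (S Y₁)) (g : b ⟶ DRing.toD (S Y₂ ⊗ S Y₃)),
      tm f (g ≫ DerivedCategory.Q.map (resTenCx φ Y₂ Y₃)) ≫
        (ε R).app (S Y₁, S (Y₂ ⊗ Y₃)) ≫ DerivedCategory.Q.map (resTenCx φ Y₁ (Y₂ ⊗ Y₃)) =
      tm f g ≫ (ε R).app (S Y₁, S Y₂ ⊗ S Y₃) ≫ DerivedCategory.Q.map
        ((𝟙 (S Y₁) ⊗ₘ resTenCx φ Y₂ Y₃) ≫ resTenCx φ Y₁ (Y₂ ⊗ Y₃)) := by
    intro a b f g
    have := ε_natural (p := S Y₁) (q := S Y₂ ⊗ S Y₃) (q' := S (Y₂ ⊗ Y₃)) (𝟙 (S Y₁)) (resTenCx φ Y₂ Y₃)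
    rw [CategoryTheory.Functor.map_id] at this
    rw [Functor.map_comp, ← reassoc_of% this, ← Category.assoc (tm f g), tm_comp, Category.comp_id]
  refine ((congrArg (fun t => tm t (r Y₃) ≫ (ε R).app (S (Y₁ ⊗ Y₂), S Y₃) ≫
      DerivedCategory.Q.map (resTenCx φ (Y₁ ⊗ Y₂) Y₃) ≫ DerivedCategory.Q.map ((resCx φ).map (α_ Y₁ Y₂ Y₃).hom))
    (Category.assoc _ _ _).symm).trans (k1 (tm (r Y₁) (r Y₂) ≫ (ε R).app (S Y₁, S Y₂)) (r Y₃))).trans ?_
  refine Eq.trans ?_ (congrArg ((DTen.associator _ _ _).hom ≫ ·)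
    ((congrArg (fun t => tm (r Y₁) t ≫ (ε R).app (S Y₁, S (Y₂ ⊗ Y₃)) ≫
      DerivedCategory.Q.map (resTenCx φ Y₁ (Y₂ ⊗ Y₃))) (Category.assoc _ _ _).symm).trans
      (k2 (r Y₁) (tm (r Y₂) (r Y₃) ≫ (ε R).app (S Y₂, S Y₃)))).symm)
  rw [resTenCx_assoc, Functor.map_comp]
  have h0 := associator_ε (S Y₁) (S Y₂) (S Y₃)
  have split1 : tm (tm (r Y₁) (r Y₂) ≫ (ε R).app (S Y₁, S Y₂)) (r Y₃) =
      tm (tm (r Y₁) (r Y₂)) (r Y₃) ≫ tm ((ε R).app (S Y₁, S Y₂)) (𝟙 _) := by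
    rw [tm_comp, Category.comp_id]
  have split2 : tm (r Y₁) (tm (r Y₂) (r Y₃) ≫ (ε R).app (S Y₂, S Y₃)) =
      tm (r Y₁) (tm (r Y₂) (r Y₃)) ≫ tm (𝟙 _) ((ε R).app (S Y₂, S Y₃)) := by
    rw [tm_comp, Category.comp_id]
  rw [split1, split2, Category.assoc, Category.assoc]
  erw [← reassoc_of% h0]
  rw [← Category.assoc (tm (tm (r Y₁) (r Y₂)) (r Y₃))]
  erw [associator_natural]
  rw [Category.assoc]
  rfl

theorem resPF_assoc (a b c : Dual.D R') :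
    tm ((resPF φ).app (a, b)) (𝟙 ((DRing.restrictD φ).obj c)) ≫
        (resPF φ).app ((LTen₂ R').obj (a, b), c) ≫ (DRing.restrictD φ).map (DTen.associator a b c).hom =
      (DTen.associator _ _ _).hom ≫ tm (𝟙 ((DRing.restrictD φ).obj a)) ((resPF φ).app (b, c)) ≫
        (resPF φ).app (a, (LTen₂ R').obj (b, c)) := by
  obtain ⟨Y₁, h₁, ⟨e₁⟩⟩ := exists_kf_rep a
  obtain ⟨Y₂, h₂, ⟨e₂⟩⟩ := exists_kf_rep b
  obtain ⟨Y₃, -, ⟨e₃⟩⟩ := exists_kf_rep c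
  let G := DRing.restrictD φ
  haveI : IsIso (tm (tm (G.map e₁.hom) (G.map e₂.hom)) (G.map e₃.hom)) := by
    haveI : IsIso (tm (G.map e₁.hom) (G.map e₂.hom)) := by
      haveI : IsIso (Prod.mkHom (G.map e₁.hom) (G.map e₂.hom)) :=
        (isIso_prod_iff _ _).2 ⟨inferInstance, inferInstance⟩
      infer_instance
    haveI : IsIso (Prod.mkHom (tm (G.map e₁.hom) (G.map e₂.hom)) (G.map e₃.hom)) :=
      (isIso_prod_iff _ _).2 ⟨inferInstance, inferInstance⟩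
    infer_instance
  rw [← cancel_epi (tm (tm (G.map e₁.hom) (G.map e₂.hom)) (G.map e₃.hom))]
  have n1 := resPF_natural φ e₁.hom e₂.hom
  have n2 := resPF_natural φ (tm e₁.hom e₂.hom) e₃.hom
  have n3 := resPF_natural φ e₂.hom e₃.hom
  have n4 := resPF_natural φ e₁.hom (tm e₂.hom e₃.hom)
  have h0 := resPF_assoc_aux φ (Y₃ := Y₃) h₁ h₂
  calc tm (tm (G.map e₁.hom) (G.map e₂.hom)) (G.map e₃.hom) ≫
        tm ((resPF φ).app (a, b)) (𝟙 (G.obj c)) ≫ (resPF φ).app ((LTen₂ R').obj (a, b), c) ≫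
          G.map (DTen.associator a b c).hom
      = (tm ((resPF φ).app (DRing.toD Y₁, DRing.toD Y₂)) (𝟙 _) ≫
          tm (G.map (tm e₁.hom e₂.hom)) (G.map e₃.hom)) ≫
          (resPF φ).app ((LTen₂ R').obj (a, b), c) ≫ G.map (DTen.associator a b c).hom := by
        rw [← Category.assoc, tm_comp, tm_comp, n1, Category.comp_id, Category.id_comp]
    _ = (tm ((resPF φ).app (DRing.toD Y₁, DRing.toD Y₂)) (𝟙 _) ≫
          (resPF φ).app ((LTen₂ R').obj (DRing.toD Y₁, DRing.toD Y₂), DRing.toD Y₃) ≫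
          G.map (DTen.associator (DRing.toD Y₁) (DRing.toD Y₂) (DRing.toD Y₃)).hom) ≫
            G.map (tm e₁.hom (tm e₂.hom e₃.hom)) := by
        simp only [Category.assoc]
        rw [reassoc_of% n2, ← Functor.map_comp, ← Functor.map_comp, associator_natural]
    _ = _ := by
        rw [h0]
        simp only [Category.assoc]
        rw [← n4, ← Category.assoc (tm _ _) (tm _ _), tm_comp, Category.id_comp, ← n3,
          ← Category.assoc (tm (tm _ _) _), associator_natural, Category.assoc,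
          ← Category.assoc (tm _ (tm _ _)) (tm _ _), tm_comp, Category.comp_id]

variable [HasLBase φ]

/-- The projection isomorphism `res A ⊗ X ⟶ res (LBase X)`. -/
noncomputable def ρ (X : Dual.D R) :
    (LTen₂ R).obj ((DRing.restrictD φ).obj (unit R'), X) ⟶ (DRing.restrictD φ).obj ((LBase φ).obj X) :=
  tm (𝟙 _) ((baseAdj φ).unit.app X) ≫ (resPF φ).app (unit R', (LBase φ).obj X) ≫
    (DRing.restrictD φ).map ((unitL R').app ((LBase φ).obj X))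

theorem ρ_naturality {X X' : Dual.D R} (f : X ⟶ X') :
    tm (𝟙 _) f ≫ ρ φ X' = ρ φ X ≫ (DRing.restrictD φ).map ((LBase φ).map f) := by
  have n1 : f ≫ (baseAdj φ).unit.app X' =
      (baseAdj φ).unit.app X ≫ (DRing.restrictD φ).map ((LBase φ).map f) :=
    (baseAdj φ).unit.naturality f
  have n2 := resPF_natural φ (𝟙 (unit R')) ((LBase φ).map f)
  rw [CategoryTheory.Functor.map_id] at n2
  have n3 : tm (𝟙 (unit R')) ((LBase φ).map f) ≫ (unitL R').app ((LBase φ).obj X') =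
      (unitL R').app ((LBase φ).obj X) ≫ (LBase φ).map f := (unitL R').naturality ((LBase φ).map f)
  rw [ρ, ρ, ← Category.assoc, tm_comp, n1, ← tm_comp, Category.assoc, reassoc_of% n2,
    ← Functor.map_comp, n3]
  simp only [Functor.map_comp, Category.assoc]

theorem isIso_ρ (X : Dual.D R) : IsIso (ρ φ X) := by
  obtain ⟨P, hP, ⟨e⟩⟩ := exists_kf_rep X
  suffices h : IsIso (ρ φ (DRing.toD P)) by
    haveI : IsIso (tm (𝟙 ((DRing.restrictD φ).obj (unit R'))) e.hom) := by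
      haveI : IsIso (Prod.mkHom (𝟙 ((DRing.restrictD φ).obj (unit R'))) e.hom) :=
        (isIso_prod_iff _ _).2 ⟨inferInstance, inferInstance⟩
      infer_instance
    haveI : IsIso (tm (𝟙 _) e.hom ≫ ρ φ X) := by
      rw [ρ_naturality]
      infer_instance
    exact IsIso.of_isIso_comp_left (tm (𝟙 _) e.hom) (ρ φ X)
  let o := 𝟙_ (DRing.Cx R')
  let G := DRing.restrictD φ
  haveI := isIso_baseCmp φ hP
  haveI := isIso_prCx φ o P
  haveI := isIso_ε (A := R) ((resCx φ).obj o) P (Or.inr hP)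
  have n2 := resPF_natural φ (𝟙 (unit R')) ((baseCmp φ).app P)
  rw [CategoryTheory.Functor.map_id] at n2
  have n3 : tm (𝟙 (unit R')) ((baseCmp φ).app P) ≫ (unitL R').app (DRing.toD ((extCx φ).obj P)) =
      (unitL R').app ((LBase φ).obj (DRing.toD P)) ≫ (baseCmp φ).app P :=
    (unitL R').naturality ((baseCmp φ).app P)
  have hγ : (baseAdj φ).unit.app (DRing.toD P) ≫ G.map ((baseCmp φ).app P) ≫
      (resFactors φ).hom.app ((extCx φ).obj P) = DerivedCategory.Q.map ((unitCx φ).app P) := by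
    rw [← Category.assoc]
    refine (congrArg (· ≫ _) (baseCmp_fac φ P)).trans ?_
    show (DerivedCategory.Q.map _ ≫ _) ≫ _ = _
    rw [Category.assoc]
    exact (congrArg _ ((resFactors φ).inv_hom_id_app _)).trans (Category.comp_id _)
  have key : ρ φ (DRing.toD P) ≫ G.map ((baseCmp φ).app P) ≫ (resFactors φ).hom.app ((extCx φ).obj P) =
      tm ((resFactors φ).hom.app o) (𝟙 (DRing.toD P)) ≫ (ε R).app ((resCx φ).obj o, P) ≫
        DerivedCategory.Q.map (prCx φ o P) ≫ DerivedCategory.Q.map ((resCx φ).map (λ_ ((extCx φ).obj P)).hom) := by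
    rw [ρ, Category.assoc, Category.assoc, ← Functor.map_comp_assoc, ← n3, Functor.map_comp_assoc,
      ← reassoc_of% n2, show (unitL R').app (DRing.toD ((extCx φ).obj P)) =
        (ε R').app (o, (extCx φ).obj P) ≫ DerivedCategory.Q.map (λ_ ((extCx φ).obj P)).hom from unitL_app R' _,
      Functor.map_comp_assoc, resFactors_naturality]
    erw [reassoc_of% (resPF_ε φ o ((extCx φ).obj P))]
    rw [
      ← Category.assoc (tm _ _) (tm _ _), tm_comp, ← Category.assoc (tm _ _) (tm _ _), tm_comp,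
      Category.id_comp, Category.id_comp, Category.assoc, hγ]
    have h3 := ε_natural (𝟙 ((resCx φ).obj o)) ((unitCx φ).app P)
    rw [prCx, Functor.map_comp, Category.assoc, ← reassoc_of% h3, CategoryTheory.Functor.map_id,
      ← Category.assoc (tm _ _) (tm _ _), tm_comp]
    erw [Category.comp_id, Category.id_comp]
  haveI : IsIso (tm ((resFactors φ).hom.app o) (𝟙 (DRing.toD P))) := by
    haveI : IsIso (Prod.mkHom ((resFactors φ).hom.app o) (𝟙 (DRing.toD P))) :=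
      (isIso_prod_iff _ _).2 ⟨inferInstance, inferInstance⟩
    infer_instance
  haveI : IsIso (ρ φ (DRing.toD P) ≫ G.map ((baseCmp φ).app P) ≫
      (resFactors φ).hom.app ((extCx φ).obj P)) := by
    rw [key]
    infer_instance
  exact IsIso.of_isIso_comp_right _ (G.map ((baseCmp φ).app P) ≫ (resFactors φ).hom.app ((extCx φ).obj P))

theorem ρ_assoc (H K : Dual.D R) (t : (LBase φ).obj ((LTen₂ R).obj (H, K)) ⟶
      (LTen₂ R').obj ((LBase φ).obj H, (LBase φ).obj K))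
    (ht : (baseAdj φ).unit.app _ ≫ (DRing.restrictD φ).map t = ν φ H K) :
    tm (ρ φ H) ((baseAdj φ).unit.app K) ≫ (resPF φ).app ((LBase φ).obj H, (LBase φ).obj K) =
      (DTen.associator _ H K).hom ≫ ρ φ ((LTen₂ R).obj (H, K)) ≫ (DRing.restrictD φ).map t := by
  let G := DRing.restrictD φ
  let u := unit R'
  let LH := (LBase φ).obj H
  let LK := (LBase φ).obj K
  have n2 := resPF_natural φ (𝟙 u) t
  rw [CategoryTheory.Functor.map_id] at n2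
  have n3 : tm (𝟙 u) t ≫ (unitL R').app ((LTen₂ R').obj (LH, LK)) =
      (unitL R').app ((LBase φ).obj ((LTen₂ R).obj (H, K))) ≫ t := (unitL R').naturality t
  have n4 := resPF_natural φ ((unitL R').app LH) (𝟙 LK)
  rw [CategoryTheory.Functor.map_id] at n4
  have hl : tm (ρ φ H) ((baseAdj φ).unit.app K) ≫ (resPF φ).app (LH, LK) =
      tm (tm (𝟙 (G.obj u)) ((baseAdj φ).unit.app H)) ((baseAdj φ).unit.app K) ≫
        tm ((resPF φ).app (u, LH)) (𝟙 (G.obj LK)) ≫ (resPF φ).app ((LTen₂ R').obj (u, LH), LK) ≫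
          G.map (tm ((unitL R').app LH) (𝟙 LK)) := by
    erw [← n4]
    rw [← Category.assoc (tm _ _) (tm _ _), tm_comp, ← Category.assoc (tm _ _) (tm _ _), tm_comp]
    simp only [ρ, Category.assoc, Category.comp_id]
    erw [Category.comp_id]
    rfl
  rw [hl, unitL_associator, Functor.map_comp, reassoc_of% (resPF_assoc φ u LH LK),
    ← Category.assoc (tm (tm _ _) _)]
  erw [associator_natural]
  rw [Category.assoc, ← Category.assoc (tm _ _) (tm _ _), tm_comp, Category.comp_id]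
  refine congrArg _ ?_
  rw [ρ]
  simp only [Category.assoc]
  rw [← Functor.map_comp, ← n3, Functor.map_comp, ← reassoc_of% n2, ← Category.assoc (tm _ _) (tm _ _),
    tm_comp, ht, Category.comp_id]
  rfl

variable [HasRHom R] [HasRHom R']

theorem res_bcRHom_eq (K M : Dual.D R) :
    ρ φ ((RHomR R K).obj M) ≫ (DRing.restrictD φ).map (bcRHom φ K M) ≫ rhomBC φ K ((LBase φ).obj M) =
      evalTen ((DRing.restrictD φ).obj (unit R')) M K ≫ (RHomR R K).map (ρ φ M) := by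
  let G := DRing.restrictD φ
  let H := (RHomR R K).obj M
  let M' := (LBase φ).obj M
  rw [evalTen, curry_map, ← Category.assoc, rhomBC, uncurry_comp]
  refine congrArg _ ?_
  obtain ⟨t, ht⟩ : ∃ t, (baseAdj φ).unit.app ((LTen₂ R).obj (H, K)) ≫ G.map t = ν φ H K :=
    ⟨((baseAdj φ).homEquiv _ _).symm (ν φ H K), by
      exact (Adjunction.homEquiv_unit (baseAdj φ) _ _ _).symm.trans (Equiv.apply_symm_apply _ _)⟩
  have hmain : t ≫ tm (bcRHom φ K M) (𝟙 ((LBase φ).obj K)) ≫ ev ((LBase φ).obj K) M' =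
      (LBase φ).map (ev K M) := by
    apply ((baseAdj φ).homEquiv _ _).injective
    rw [Adjunction.homEquiv_unit, Adjunction.homEquiv_unit, Functor.map_comp, ← Category.assoc, ht]
    refine Eq.trans (core_comp φ (bcRHom φ K M)).symm ?_
    have h1 : (baseAdj φ).homEquiv _ _ (bcRHom φ K M) ≫ rhomBC φ K M' =
        (RHomR R K).map ((baseAdj φ).unit.app M) := by
      rw [bcRHom, Equiv.apply_symm_apply, Category.assoc, IsIso.inv_hom_id, Category.comp_id]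
    have h1' : rhomHomEquiv _ K (G.obj M') (tm ((baseAdj φ).homEquiv _ _ (bcRHom φ K M)) (𝟙 K) ≫
        rhomBCCore φ K M') = (RHomR R K).map ((baseAdj φ).unit.app M) :=
      (uncurry_comp _ _).symm.trans h1
    have h2 := congrArg (fun g => tm g (𝟙 K) ≫ ev K (G.obj M')) h1'
    refine ((uncurry_curry _).symm.trans h2).trans ?_
    refine ((rhomAdj R K).counit.naturality ((baseAdj φ).unit.app M)).trans ?_
    exact (baseAdj φ).unit.naturality (ev K M)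
  have hn := resPF_natural φ (bcRHom φ K M) (𝟙 ((LBase φ).obj K))
  rw [CategoryTheory.Functor.map_id] at hn
  show tm (ρ φ H ≫ G.map (bcRHom φ K M)) (𝟙 K) ≫ rhomBCCore φ K M' =
    ((DTen.associator _ _ _).hom ≫ tm (𝟙 _) (ev K M)) ≫ ρ φ M
  rw [rhomBCCore, ← Category.assoc (tm _ _) ((LTen₂ R).map _)]
  rw [show tm (ρ φ H ≫ G.map (bcRHom φ K M)) (𝟙 K) ≫
      (LTen₂ R).map (Prod.mkHom (𝟙 (G.obj ((RHomR R' ((LBase φ).obj K)).obj M'))) ((baseAdj φ).unit.app K)) =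
      tm (ρ φ H) ((baseAdj φ).unit.app K) ≫ tm (G.map (bcRHom φ K M)) (𝟙 (G.obj ((LBase φ).obj K))) from by
    erw [tm_comp, tm_comp, Category.comp_id, Category.comp_id, Category.id_comp]]
  rw [Category.assoc, reassoc_of% hn, reassoc_of% (ρ_assoc φ H K t ht), ← Functor.map_comp,
    ← Functor.map_comp, hmain, Category.assoc, ρ_naturality]

omit [HasLTen₃ R] [HasLTen₃ R'] [IsSymMonoidal R] [IsSymMonoidal R']

theorem isIso_bcRHom_of_isPerfect_res (K M : Dual.D R)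
    (hR' : DRing.IsPerfect R ((DRing.restrictD φ).obj (unit R'))) : IsIso (bcRHom φ K M) := by
  haveI := hasLTen₃ R
  haveI := hasLTen₃ R'
  haveI := isSymMonoidal R
  haveI := isSymMonoidal R'
  haveI := isIso_ρ φ ((RHomR R K).obj M)
  haveI := isIso_ρ φ M
  haveI := isIso_evalTen_left ((DRing.restrictD φ).obj (unit R')) M K hR'
  haveI : IsIso (ρ φ ((RHomR R K).obj M) ≫ (DRing.restrictD φ).map (bcRHom φ K M) ≫
      rhomBC φ K ((LBase φ).obj M)) := by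
    rw [res_bcRHom_eq]
    infer_instance
  haveI : IsIso ((DRing.restrictD φ).map (bcRHom φ K M) ≫ rhomBC φ K ((LBase φ).obj M)) :=
    IsIso.of_isIso_comp_left (ρ φ ((RHomR R K).obj M)) _
  haveI : IsIso ((DRing.restrictD φ).map (bcRHom φ K M)) :=
    IsIso.of_isIso_comp_right _ (rhomBC φ K ((LBase φ).obj M))
  refine (DerivedCategory.isIso_iff (C := ModuleCat.{u} R') _).2 fun n => ?_
  have h : IsIso ((ModuleCat.restrictScalars φ).map
      ((DerivedCategory.homologyFunctor (ModuleCat.{u} R') n).map (bcRHom φ K M))) := by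
    exact (NatIso.isIso_map_iff (Groth.Agent.DerLib.ExactHomology.homologyIso
      (ModuleCat.restrictScalars.{u} φ) n) (bcRHom φ K M)).1
      (inferInstanceAs (IsIso ((DerivedCategory.homologyFunctor (ModuleCat.{u} R) n).map
        ((DRing.restrictD φ).map (bcRHom φ K M)))))
  exact isIso_of_reflects_iso _ (ModuleCat.restrictScalars.{u} φ)

end DTenLib
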