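import Groth.Agent.DTenLib.Val
import Groth.Agent.DerLib.KInjUse
import Groth.Prelude.Def_DRing4
import Mathlib.Algebra.Category.ModuleCat.AB

/-!
# The adjunction between tensor product and Hom complexes
-/

set_option autoImplicit false

universe u

open CategoryTheory CategoryTheory.Limits MonoidalCategory HomologicalComplex
open CochainComplex.HomComplex

namespace DTenLib

variable {A : Type u} [CommRing A] {E P I : DRing.Cx A}

/-- A cochain as an element of the Hom complex. -/
def ap {p : ℤ} (z : (DRing.homCx P I).X p) : Cochain P I p := z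

/-- A map into a term of the Hom complex from a family of bilinear maps. -/
noncomputable def curryC (E P I : DRing.Cx A) {p j : ℤ}
    (φ : ∀ q q', q + j = q' → (E.X p ⊗ P.X q ⟶ I.X q')) :
    E.X p ⟶ (DRing.homCx P I).X j :=
  ModuleCat.ofHom
    { toFun := fun e => Cochain.mk fun q q' h => ModuleCat.ofHom
        ((φ q q' h).hom ∘ₗ TensorProduct.mk A (E.X p) (P.X q) e)
      map_add' := fun e e' => by
        refine Cochain.ext _ _ fun q q' h => ModuleCat.hom_ext (LinearMap.ext fun x => ?_)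
        show (φ q q' h).hom ((e + e') ⊗ₜ x) = (φ q q' h).hom (e ⊗ₜ x) + (φ q q' h).hom (e' ⊗ₜ x)
        rw [TensorProduct.add_tmul, map_add]
      map_smul' := fun c e => by
        refine Cochain.ext _ _ fun q q' h => ModuleCat.hom_ext (LinearMap.ext fun x => ?_)
        show (φ q q' h).hom ((c • e) ⊗ₜ x) = c • (φ q q' h).hom (e ⊗ₜ x)
        rw [← TensorProduct.smul_tmul', map_smul] }

theorem ap_curryC {p j : ℤ} (φ : ∀ q q', q + j = q' → (E.X p ⊗ P.X q ⟶ I.X q')) (e : E.X p)
    (q q' : ℤ) (h : q + j = q') (x : P.X q) :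
    ((ap ((curryC E P I φ).hom e)).v q q' h).hom x = (φ q q' h).hom (e ⊗ₜ x) := rfl

theorem homCx_d_v {i j : ℤ} (hij : i + 1 = j) (z : (DRing.homCx P I).X i) (q q' : ℤ)
    (h : q + j = q') (q₁ q₂ : ℤ) (h₁ : q₁ = q' - 1) (h₂ : q + 1 = q₂) (x : P.X q) :
    ((ap (((DRing.homCx P I).d i j).hom z)).v q q' h).hom x =
      (I.d q₁ q').hom (((ap z).v q q₁ (by omega)).hom x) +
        j.negOnePow • (((ap z).v q₂ q' (by omega)).hom ((P.d q q₂).hom x)) := by
  show ((δ i j (ap z)).v q q' h).hom x = _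
  rw [δ_v i j hij (ap z) q q' h q₁ q₂ h₁ h₂]
  rfl

theorem tensor_d_apply {L K : DRing.Cx A} (p q n n' : ℤ) (h : p + q = n) (hn : n + 1 = n')
    (e : L.X p) (x : K.X q) :
    ((KFlatLib.tT L K).d n n').hom ((KFlatLib.ιT L K p q n h).hom (e ⊗ₜ x)) =
      (KFlatLib.ιT L K (p + 1) q n' (by omega)).hom ((L.d p (p + 1)).hom e ⊗ₜ x) +
        p.negOnePow • (KFlatLib.ιT L K p (q + 1) n' (by omega)).hom (e ⊗ₜ (K.d q (q + 1)).hom x) := by
  have := congr($(KFlatLib.ιT_d L K p q n n' h hn).hom (e ⊗ₜ x))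
  simp [Units.smul_def] at this
  refine this.trans ?_
  rw [Units.smul_def]

/-- Currying of chain maps. -/
noncomputable def toHom (f : E ⊗ P ⟶ I) : E ⟶ DRing.homCx P I where
  f p := curryC E P I fun q q' h => KFlatLib.ιT E P p q q' (by omega) ≫ f.f q'
  comm' := by
    rintro p p' (rfl : p + 1 = p')
    refine ModuleCat.hom_ext (LinearMap.ext fun e => ?_)
    refine Cochain.ext _ _ fun q q' h => ModuleCat.hom_ext (LinearMap.ext fun x => ?_)
    change ((ap (((DRing.homCx P I).d p (p + 1)).hom ((curryC E P I _).hom e))).v q q' h).hom x =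
      ((ap ((curryC E P I _).hom ((E.d p (p + 1)).hom e))).v q q' h).hom x
    rw [homCx_d_v rfl _ q q' h (q' - 1) (q + 1) rfl rfl, ap_curryC, ap_curryC, ap_curryC]
    have hc : (I.d (q' - 1) q').hom ((f.f (q' - 1)).hom ((KFlatLib.ιT E P p q (q' - 1) (by omega)).hom (e ⊗ₜ x))) =
        (f.f q').hom (((KFlatLib.tT E P).d (q' - 1) q').hom ((KFlatLib.ιT E P p q (q' - 1) (by omega)).hom (e ⊗ₜ x))) :=
      congr($(f.comm (q' - 1) q').hom ((KFlatLib.ιT E P p q (q' - 1) (by omega)).hom (e ⊗ₜ x)))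
    rw [tensor_d_apply p q (q' - 1) q' (by omega) (by omega), map_add, Units.smul_def, map_zsmul] at hc
    show (I.d (q' - 1) q').hom ((f.f (q' - 1)).hom ((KFlatLib.ιT E P p q (q' - 1) (by omega)).hom (e ⊗ₜ x))) + (p + 1).negOnePow •
      (f.f q').hom ((KFlatLib.ιT E P p (q + 1) q' (by omega)).hom (e ⊗ₜ (P.d q (q + 1)).hom x)) =
      (f.f q').hom ((KFlatLib.ιT E P (p + 1) q q' (by omega)).hom ((E.d p (p + 1)).hom e ⊗ₜ x))
    rw [hc, Int.negOnePow_succ]
    simp only [Units.smul_def, Units.val_neg, neg_smul]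
    abel

/-- Uncurrying, degreewise. -/
noncomputable def ofHomF (g : E ⟶ DRing.homCx P I) (n : ℤ) : (E ⊗ P).X n ⟶ I.X n :=
  mapBifunctorDesc (F := curriedTensor (ModuleCat.{u} A)) (c := ComplexShape.up ℤ)
    fun p q (h : p + q = n) => ModuleCat.MonoidalCategory.tensorLift
      (fun (e : E.X p) (x : P.X q) => ((ap ((g.f p).hom e)).v q n (by omega)).hom x)
      (fun e e' x => by rw [map_add]; rfl) (fun c e x => by rw [map_smul]; rfl)
      (fun e x x' => map_add _ _ _) (fun c e x => map_smul _ _ _)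

theorem ofHomF_ι (g : E ⟶ DRing.homCx P I) (p q n : ℤ) (h : p + q = n) (e : E.X p) (x : P.X q) :
    (ofHomF g n).hom ((KFlatLib.ιT E P p q n h).hom (e ⊗ₜ x)) =
      ((ap ((g.f p).hom e)).v q n (by omega)).hom x := by
  have h1 : KFlatLib.ιT E P p q n h ≫ ofHomF g n = _ := ι_mapBifunctorDesc _ p q h
  exact congr($(h1).hom (e ⊗ₜ x))

/-- Uncurrying of chain maps. -/
noncomputable def ofHom (g : E ⟶ DRing.homCx P I) : E ⊗ P ⟶ I where
  f n := ofHomF g n
  comm' := by
    rintro n n' (hn : n + 1 = n')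
    refine mapBifunctor.hom_ext fun p q (h : p + q = n) => ModuleCat.MonoidalCategory.tensor_ext fun e x => ?_
    show (I.d n n').hom ((ofHomF g n).hom ((KFlatLib.ιT E P p q n h).hom (e ⊗ₜ x))) =
      (ofHomF g n').hom (((KFlatLib.tT E P).d n n').hom ((KFlatLib.ιT E P p q n h).hom (e ⊗ₜ x)))
    rw [tensor_d_apply p q n n' h hn e x, map_add, Units.smul_def, map_zsmul, ofHomF_ι, ofHomF_ι,
      ofHomF_ι]
    have hg : (g.f (p + 1)).hom ((E.d p (p + 1)).hom e) =
        ((DRing.homCx P I).d p (p + 1)).hom ((g.f p).hom e) :=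
      congr($(g.comm p (p + 1)).hom e).symm
    rw [hg, homCx_d_v rfl _ q n' _ n (q + 1) (by omega) rfl, Int.negOnePow_succ]
    simp only [Units.smul_def, Units.val_neg, neg_smul]
    abel

theorem ofHom_ι (g : E ⟶ DRing.homCx P I) (p q n : ℤ) (h : p + q = n) (e : E.X p) (x : P.X q) :
    ((ofHom g).f n).hom ((KFlatLib.ιT E P p q n h).hom (e ⊗ₜ x)) =
      ((ap ((g.f p).hom e)).v q n (by omega)).hom x :=
  ofHomF_ι g p q n h e x

theorem tensor_hom_ext {J : DRing.Cx A} {f f' : E ⊗ P ⟶ J}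
    (h : ∀ (p q n : ℤ) (hn : p + q = n) (e : E.X p) (x : P.X q),
      (f.f n).hom ((KFlatLib.ιT E P p q n hn).hom (e ⊗ₜ x)) =
        (f'.f n).hom ((KFlatLib.ιT E P p q n hn).hom (e ⊗ₜ x))) : f = f' :=
  HomologicalComplex.hom_ext _ _ fun n => mapBifunctor.hom_ext fun p q hn =>
    ModuleCat.MonoidalCategory.tensor_ext fun e x => h p q n hn e x

theorem ofHom_toHom (f : E ⊗ P ⟶ I) : ofHom (toHom f) = f :=
  tensor_hom_ext fun p q n hn e x => (ofHom_ι _ p q n hn e x).trans rfl

theorem toHom_ofHom (g : E ⟶ DRing.homCx P I) : toHom (ofHom g) = g :=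
  HomologicalComplex.hom_ext _ _ fun p => ModuleCat.hom_ext (LinearMap.ext fun e =>
    Cochain.ext _ _ fun q q' h => ModuleCat.hom_ext (LinearMap.ext fun x =>
      ofHom_ι g p q q' (by omega) e x))

theorem toHom_zero : toHom (0 : E ⊗ P ⟶ I) = 0 :=
  HomologicalComplex.hom_ext _ _ fun p => ModuleCat.hom_ext (LinearMap.ext fun e =>
    Cochain.ext _ _ fun q q' h => ModuleCat.hom_ext (LinearMap.ext fun x => rfl))

theorem ofHom_sub (g g' : E ⟶ DRing.homCx P I) : ofHom (g - g') = ofHom g - ofHom g' :=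
  tensor_hom_ext fun p q n hn e x => by
    rw [sub_f_apply]
    show _ = ((ofHom g).f n).hom _ - ((ofHom g').f n).hom _
    rw [ofHom_ι, ofHom_ι, ofHom_ι, sub_f_apply]
    rfl

/-- Currying preserves null homotopies. -/
noncomputable def toHomHomotopy {f : E ⊗ P ⟶ I} (h : Homotopy f 0) : Homotopy (toHom f) 0 where
  hom i j := if hij : j + 1 = i then
      curryC E P I fun q q' hq => KFlatLib.ιT E P i q (q' + 1) (by omega) ≫ h.hom (q' + 1) q'
    else 0
  zero i j hij := dif_neg hij
  comm p := by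
    refine ModuleCat.hom_ext (LinearMap.ext fun e => ?_)
    refine Cochain.ext _ _ fun q q' hq => ModuleCat.hom_ext (LinearMap.ext fun x => ?_)
    rw [dNext_eq _ (show (ComplexShape.up ℤ).Rel p (p + 1) from rfl),
      prevD_eq _ (show (ComplexShape.up ℤ).Rel (p - 1) p from sub_add_cancel p 1),
      dif_pos rfl, dif_pos (sub_add_cancel p 1)]
    change (((toHom f).f p ≫ 𝟙 _).hom e |> ap).v q q' hq x =
      ((ap ((curryC E P I _).hom ((E.d p (p + 1)).hom e))).v q q' hq).hom x +
        ((ap (((DRing.homCx P I).d (p - 1) p).hom ((curryC E P I _).hom e))).v q q' hq).hom x + 0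
    rw [add_zero, Category.comp_id, homCx_d_v (sub_add_cancel p 1) _ q q' hq (q' - 1) (q + 1) rfl rfl,
      ap_curryC, ap_curryC, ap_curryC]
    show (f.f q').hom ((KFlatLib.ιT E P p q q' (by omega)).hom (e ⊗ₜ x)) =
      (h.hom (q' + 1) q').hom ((KFlatLib.ιT E P (p + 1) q (q' + 1) (by omega)).hom ((E.d p (p + 1)).hom e ⊗ₜ x)) +
        ((I.d (q' - 1) q').hom ((h.hom (q' - 1 + 1) (q' - 1)).hom
          ((KFlatLib.ιT E P p q (q' - 1 + 1) (by omega)).hom (e ⊗ₜ x))) +
        p.negOnePow • (h.hom (q' + 1) q').hom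
          ((KFlatLib.ιT E P p (q + 1) (q' + 1) (by omega)).hom (e ⊗ₜ (P.d q (q + 1)).hom x)))
    have hc := congr($(h.comm q').hom ((KFlatLib.ιT E P p q q' (by omega)).hom (e ⊗ₜ x)))
    rw [dNext_eq _ (show (ComplexShape.up ℤ).Rel q' (q' + 1) from rfl),
      prevD_eq _ (show (ComplexShape.up ℤ).Rel (q' - 1) q' from sub_add_cancel q' 1)] at hc
    refine hc.trans ?_
    show (h.hom (q' + 1) q').hom (((KFlatLib.tT E P).d q' (q' + 1)).hom _) +
      (I.d (q' - 1) q').hom ((h.hom q' (q' - 1)).hom _) + 0 = _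
    rw [tensor_d_apply p q q' (q' + 1) (by omega) rfl, map_add, Units.smul_def, map_zsmul,
      Units.smul_def, add_zero]
    have key : ∀ (n : ℤ) (hn : n = q'),
        (h.hom n (q' - 1)).hom ((KFlatLib.ιT E P p q n (by omega)).hom (e ⊗ₜ x)) =
          (h.hom q' (q' - 1)).hom ((KFlatLib.ιT E P p q q' (by omega)).hom (e ⊗ₜ x)) := by
      rintro n rfl; rfl
    rw [key (q' - 1 + 1) (sub_add_cancel q' 1)]
    abel

/-- The Hom complex into a K-injective complex from a K-flat one is K-injective. -/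
theorem isKInjective_homCx (hP : KF P) [I.IsKInjective] : (DRing.homCx P I).IsKInjective := by
  refine ⟨fun {E} g hE => ?_⟩
  have hEP : (E ⊗ P).Acyclic := fun i => (exactAt_iff_isZero_homology _ i).2
    (hP E (fun j => (exactAt_iff_isZero_homology _ j).1 (hE j)) i)
  exact ⟨(Homotopy.ofEq (toHom_ofHom g).symm).trans
    (toHomHomotopy (CochainComplex.IsKInjective.homotopyZero (ofHom g) hEP))⟩

/-- Evaluation. -/
noncomputable def evCx (P I : DRing.Cx A) : DRing.homCx P I ⊗ P ⟶ I := ofHom (𝟙 _)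

theorem whiskerRight_evCx (g : E ⟶ DRing.homCx P I) : g ▷ P ≫ evCx P I = ofHom g := by
  refine tensor_hom_ext fun p q n hn e x => ?_
  rw [ofHom_ι]
  have h1 : ((g ▷ P).f n).hom ((KFlatLib.ιT E P p q n hn).hom (e ⊗ₜ x)) =
      (KFlatLib.ιT (DRing.homCx P I) P p q n hn).hom ((g.f p).hom e ⊗ₜ x) := by
    rw [← MonoidalCategory.tensorHom_id]
    exact congr($(KFlatLib.ιT_tMap g (𝟙 P) p q n hn).hom (e ⊗ₜ x))
  show ((evCx P I).f n).hom (((g ▷ P).f n).hom _) = _
  rw [h1]
  exact ofHom_ι _ p q n hn _ x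

section Functoriality

variable {P' : DRing.Cx A}

/-- Precomposition with a degreewise family. -/
noncomputable def preLin (I : DRing.Cx A) (a : ∀ q, P.X q ⟶ P'.X q) (i : ℤ) :
    (DRing.homCx P' I).X i ⟶ (DRing.homCx P I).X i :=
  ModuleCat.ofHom
    { toFun := fun z => Cochain.mk fun q q' h => a q ≫ (ap z).v q q' h
      map_add' := fun z z' => Cochain.ext _ _ fun q q' h => by
        show a q ≫ (ap z + ap z').v q q' h = a q ≫ (ap z).v q q' h + a q ≫ (ap z').v q q' h
        rw [Cochain.add_v, Preadditive.comp_add]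
      map_smul' := fun c z => Cochain.ext _ _ fun q q' h => by
        show a q ≫ (c • ap z).v q q' h = c • (a q ≫ (ap z).v q q' h)
        rw [Cochain.smul_v, Linear.comp_smul] }

/-- Contravariant functoriality of the Hom complex. -/
noncomputable def homPre (I : DRing.Cx A) (a : P ⟶ P') : DRing.homCx P' I ⟶ DRing.homCx P I where
  f i := preLin I (fun q => a.f q) i
  comm' := by
    rintro i j (hij : i + 1 = j)
    refine ModuleCat.hom_ext (LinearMap.ext fun z => ?_)
    refine Cochain.ext _ _ fun q q' h => ModuleCat.hom_ext (LinearMap.ext fun x => ?_)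
    change ((ap (((DRing.homCx P I).d i j).hom ((preLin I (fun q => a.f q) i).hom z))).v q q' h).hom x =
      ((ap (((DRing.homCx P' I).d i j).hom z)).v q q' h).hom ((a.f q).hom x)
    rw [homCx_d_v hij _ q q' h (q' - 1) (q + 1) rfl rfl, homCx_d_v hij _ q q' h (q' - 1) (q + 1) rfl rfl]
    have := congr($(a.comm q (q + 1)).hom x)
    show _ + _ • ((ap z).v (q + 1) q' _).hom ((a.f (q + 1)).hom ((P.d q (q + 1)).hom x)) = _
    rw [show (a.f (q + 1)).hom ((P.d q (q + 1)).hom x) = (P'.d q (q + 1)).hom ((a.f q).hom x) from this.symm]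
    rfl

theorem whisker_evCx_natural (a : P ⟶ P') :
    DRing.homCx P' I ◁ a ≫ evCx P' I = homPre I a ▷ P ≫ evCx P I := by
  rw [whiskerRight_evCx]
  refine tensor_hom_ext fun p q n hn z x => ?_
  rw [ofHom_ι]
  have h1 : ((DRing.homCx P' I ◁ a).f n).hom ((KFlatLib.ιT (DRing.homCx P' I) P p q n hn).hom (z ⊗ₜ x)) =
      (KFlatLib.ιT (DRing.homCx P' I) P' p q n hn).hom (z ⊗ₜ (a.f q).hom x) := by
    rw [← MonoidalCategory.id_tensorHom]
    exact congr($(KFlatLib.ιT_tMap (𝟙 (DRing.homCx P' I)) a p q n hn).hom (z ⊗ₜ x))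
  show ((evCx P' I).f n).hom (((DRing.homCx P' I ◁ a).f n).hom _) = _
  rw [h1]
  exact ofHom_ι _ p q n hn z _

/-- Hom of a degreewise split sequence. -/
theorem shortExact_homPre {S : ShortComplex (DRing.Cx A)} (hS : KFlatLib.DegSplit S)
    (I : DRing.Cx A) (w : homPre I S.g ≫ homPre I S.f = 0) :
    (ShortComplex.mk (homPre I S.g) (homPre I S.f) w).ShortExact := by
  refine shortExact_of_degreewise_shortExact _ fun i => ShortComplex.Splitting.shortExact
    { r := preLin I (fun q => (hS q).s) i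
      s := preLin I (fun q => (hS q).r) i
      f_r := ModuleCat.hom_ext (LinearMap.ext fun z => Cochain.ext _ _ fun q q' h => by
        show (hS q).s ≫ S.g.f q ≫ (ap z).v q q' h = (ap z).v q q' h
        exact (Category.assoc _ _ _).symm.trans
          ((congrArg (fun t => CategoryStruct.comp t ((ap z).v q q' h)) (hS q).s_g).trans (Category.id_comp _)))
      s_g := ModuleCat.hom_ext (LinearMap.ext fun z => Cochain.ext _ _ fun q q' h => by
        show S.f.f q ≫ (hS q).r ≫ (ap z).v q q' h = (ap z).v q q' h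
        exact (Category.assoc _ _ _).symm.trans
          ((congrArg (fun t => CategoryStruct.comp t ((ap z).v q q' h)) (hS q).f_r).trans (Category.id_comp _)))
      id := ModuleCat.hom_ext (LinearMap.ext fun z => Cochain.ext _ _ fun q q' h =>
        ModuleCat.hom_ext (LinearMap.ext fun x => by
          show ((ap z).v q q' h).hom ((hS q).s.hom ((S.g.f q).hom x)) +
            ((ap z).v q q' h).hom ((S.f.f q).hom ((hS q).r.hom x)) = ((ap z).v q q' h).hom x
          rw [← map_add]
          refine congrArg _ ?_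
          exact (add_comm _ _).trans congr($((hS q).id).hom x))) }

end Functoriality

end DTenLib
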