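import Groth.Agent.DTenLib.RelTensor
import Groth.Agent.DRingLib.Devissage
import Mathlib.RingTheory.PicardGroup

/-!
# `RHom(A, R)` for a quotient by an invertible ideal
-/

set_option autoImplicit false

universe u

open CategoryTheory CategoryTheory.Limits MonoidalCategory HomologicalComplex
open CochainComplex.HomComplex
open CochainComplex (mappingCone)
attribute [local instance] HasDerivedCategory.standard

namespace DTenLib

open DTen
open Groth.Agent.DerLib
open scoped TensorProduct

section Alg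

variable {R : Type u} [CommRing R] (I : Ideal R) [Module.Invertible R I]

theorem eq_zero_of_smul_incl (r : R) (h : ∀ i : I, r * (i : R) = 0) : r = 0 :=
  (Module.Invertible.toModuleEnd_bijective R I).1 (LinearMap.ext fun i => Subtype.ext (by
    simpa using h i))

theorem exists_scalar (f : I →ₗ[R] R) (hf : ∀ i, f i ∈ I) : ∃ r : R, ∀ i : I, f i = r * (i : R) := by
  obtain ⟨r, hr⟩ := (Module.Invertible.toModuleEnd_bijective R I).2 (f.codRestrict I hf)
  exact ⟨r, fun i => (congrArg Subtype.val (LinearMap.congr_fun hr i)).symm⟩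

variable (A : Type u) [CommRing A] [Algebra R A] [Module.Invertible R (RingHom.ker (algebraMap R A))]
  (N : Type u) [AddCommGroup N] [Module A N]

/-- The inverse module, restricted. -/
theorem exists_theta (hφ : Function.Surjective (algebraMap R A))
    (e : (A ⊗[R] (RingHom.ker (algebraMap R A))) ⊗[A] N ≃ₗ[A] A) :
    ∃ θ : (↥(RingHom.ker (algebraMap R A)) →ₗ[R] R) →+ N,
      (∀ (c : R) f, θ (c • f) = algebraMap R A c • θ f) ∧ Function.Surjective θ ∧
      ∀ f, θ f = 0 ↔ ∃ r : R, ∀ i : RingHom.ker (algebraMap R A), f i = r * (i : R) := by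
  let K := RingHom.ker (algebraMap R A)
  let eN : N ≃ₗ[A] Module.Dual A (A ⊗[R] K) :=
    Module.Invertible.linearEquivDual (TensorProduct.comm A N (A ⊗[R] K) ≪≫ₗ e)
  let q : (↥K →ₗ[R] R) → (↥K →ₗ[R] A) := fun f => (Algebra.linearMap R A).comp f
  let θ : (↥K →ₗ[R] R) →+ N :=
    { toFun := fun f => eN.symm (LinearMap.liftBaseChangeEquiv A (q f))
      map_zero' := by
        rw [show q 0 = 0 from LinearMap.comp_zero _, map_zero, map_zero]
      map_add' := fun f g => by
        rw [show q (f + g) = q f + q g from LinearMap.comp_add _ _ _, map_add, map_add] }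
  refine ⟨θ, fun c f => ?_, fun y => ?_, fun f => ?_⟩
  · show eN.symm _ = algebraMap R A c • eN.symm _
    rw [← map_smul]
    refine congrArg _ ?_
    ext x
    simp [q, Algebra.smul_def]
  · obtain ⟨g, hg⟩ := Module.projective_lifting_property (Algebra.linearMap R A)
      ((LinearMap.liftBaseChangeEquiv A).symm (eN y)) hφ
    refine ⟨g, ?_⟩
    show eN.symm _ = y
    rw [LinearEquiv.symm_apply_eq]
    show LinearMap.liftBaseChangeEquiv A ((Algebra.linearMap R A).comp g) = _
    rw [hg]
    exact (LinearMap.liftBaseChangeEquiv A).apply_symm_apply _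
  · show eN.symm (LinearMap.liftBaseChangeEquiv A (q f)) = 0 ↔ _
    rw [LinearEquiv.map_eq_zero_iff]
    have h1 : LinearMap.liftBaseChangeEquiv A (q f) = 0 ↔ ∀ i, f i ∈ K := by
      rw [show (LinearMap.liftBaseChangeEquiv A (q f) = 0) ↔ q f = 0 from
        (LinearMap.liftBaseChangeEquiv A).map_eq_zero_iff]
      exact ⟨fun h i => LinearMap.congr_fun h i, fun h => LinearMap.ext h⟩
    rw [h1]
    refine ⟨fun h => exists_scalar K f h, ?_⟩
    rintro ⟨r, hr⟩ i
    rw [hr]
    exact K.mul_mem_left r i.2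

end Alg

section Cx

variable {R : Type u} [CommRing R] (I : Ideal R)

/-- `R` in degree `0`. -/
noncomputable abbrev oCx (R : Type u) [CommRing R] : DRing.Cx R :=
  (CochainComplex.singleFunctor (ModuleCat.{u} R) 0).obj (ModuleCat.of R R)

/-- The ideal in degree `0`, included. -/
noncomputable abbrev inclCx : (CochainComplex.singleFunctor (ModuleCat.{u} R) 0).obj (ModuleCat.of R I) ⟶ oCx R :=
  (CochainComplex.singleFunctor (ModuleCat.{u} R) 0).map (ModuleCat.ofHom I.subtype)

/-- The two term resolution of `R / I`. -/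
noncomputable abbrev ECx : DRing.Cx R := mappingCone (inclCx I)

/-- The degree `0` term of the unit complex. -/
noncomputable abbrev s0 (M : ModuleCat.{u} R) :
    ((CochainComplex.singleFunctor (ModuleCat.{u} R) 0).obj M).X 0 ≅ M :=
  HomologicalComplex.singleObjXSelf (ComplexShape.up ℤ) 0 M

/-- The component of a cochain on the ideal. -/
noncomputable def aOf (z : (DRing.homCx (ECx I) (oCx R)).X 1) : I →ₗ[R] R :=
  ((s0 (ModuleCat.of R I)).inv ≫ (CochainComplex.mappingCone.inl (inclCx I)).v 0 (-1) (by omega) ≫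
    (ap z).v (-1) 0 (by omega) ≫ (s0 (ModuleCat.of R R)).hom).hom

/-- The component of a cochain on the ring. -/
noncomputable def bOf (z : (DRing.homCx (ECx I) (oCx R)).X 0) : R :=
  ((s0 (ModuleCat.of R R)).inv ≫ (CochainComplex.mappingCone.inr (inclCx I)).f 0 ≫
    (ap z).v 0 0 (by omega) ≫ (s0 (ModuleCat.of R R)).hom).hom (1 : R)

theorem aOf_add (z z' : (DRing.homCx (ECx I) (oCx R)).X 1) : aOf I (z + z') = aOf I z + aOf I z' := by
  rw [aOf, aOf, aOf, show ap (z + z') = ap z + ap z' from rfl, Cochain.add_v, Preadditive.add_comp, Preadditive.comp_add, Preadditive.comp_add]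
  rfl

theorem aOf_smul (c : R) (z : (DRing.homCx (ECx I) (oCx R)).X 1) : aOf I (c • z) = c • aOf I z := by
  rw [aOf, aOf, show ap (c • z) = c • ap z from rfl, Cochain.smul_v, Linear.smul_comp, Linear.comp_smul, Linear.comp_smul]
  rfl

theorem isZero_single_X (M : ModuleCat.{u} R) {p : ℤ} (hp : p ≠ 0) :
    IsZero (((CochainComplex.singleFunctor (ModuleCat.{u} R) 0).obj M).X p) :=
  HomologicalComplex.isZero_single_obj_X _ _ _ _ hp

theorem eq_zero_iff {n : ℤ} (z : (DRing.homCx (ECx I) (oCx R)).X n) :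
    z = 0 ↔ (∀ h : n = 1, aOf I (h ▸ z) = 0) ∧ ∀ h : n = 0, bOf I (h ▸ z) = 0 := by
  constructor
  · rintro rfl
    constructor
    · rintro rfl
      show aOf I (0 : (DRing.homCx (ECx I) (oCx R)).X 1) = 0
      rw [aOf, show ap (0 : (DRing.homCx (ECx I) (oCx R)).X 1) = 0 from rfl]
      simp
    · rintro rfl
      show bOf I (0 : (DRing.homCx (ECx I) (oCx R)).X 0) = 0
      rw [bOf, show ap (0 : (DRing.homCx (ECx I) (oCx R)).X 0) = 0 from rfl]
      simp
  · rintro ⟨ha, hb⟩
    refine Cochain.ext _ _ fun p q hpq => ?_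
    show (ap z).v p q hpq = 0
    rcases ne_or_eq q 0 with hq | rfl
    · exact (isZero_single_X _ hq).eq_of_tgt _ _
    refine CochainComplex.mappingCone.ext_from (inclCx I) (p + 1) p rfl ?_ ?_
    · rcases ne_or_eq (p + 1) 0 with hp | hp
      · exact (isZero_single_X _ hp).eq_of_src _ _
      · obtain rfl : p = -1 := by omega
        obtain rfl : n = 1 := by omega
        have h : (s0 (ModuleCat.of R I)).inv ≫
            (CochainComplex.mappingCone.inl (inclCx I)).v 0 (-1) (by omega) ≫
              (ap z).v (-1) 0 hpq ≫ (s0 (ModuleCat.of R R)).hom = 0 := ModuleCat.hom_ext (ha rfl)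
        rw [comp_zero]
        refine (cancel_mono (s0 (ModuleCat.of R R)).hom).1 ((cancel_epi (s0 (ModuleCat.of R I)).inv).1 ?_)
        rw [zero_comp, comp_zero, Category.assoc]
        exact h
    · rcases ne_or_eq p 0 with hp | hp
      · exact (isZero_single_X _ hp).eq_of_src _ _
      · subst hp
        obtain rfl : n = 0 := by omega
        have h : (s0 (ModuleCat.of R R)).inv ≫ (CochainComplex.mappingCone.inr (inclCx I)).f 0 ≫
            (ap z).v 0 0 hpq ≫ (s0 (ModuleCat.of R R)).hom = 0 :=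
          ModuleCat.hom_ext (LinearMap.ext_ring (hb rfl))
        rw [comp_zero]
        refine (cancel_mono (s0 (ModuleCat.of R R)).hom).1 ((cancel_epi (s0 (ModuleCat.of R R)).inv).1 ?_)
        rw [zero_comp, comp_zero, Category.assoc]
        exact h

theorem aOf_d (z : (DRing.homCx (ECx I) (oCx R)).X 0) (i : I) :
    aOf I (((DRing.homCx (ECx I) (oCx R)).d 0 1).hom z) i = -((i : R) * bOf I z) := by
  show ((s0 (ModuleCat.of R I)).inv ≫ (CochainComplex.mappingCone.inl (inclCx I)).v 0 (-1) (by omega) ≫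
    (δ 0 1 (ap z)).v (-1) 0 (by omega) ≫ (s0 (ModuleCat.of R R)).hom).hom i = _
  rw [δ_v 0 1 rfl (ap z) (-1) 0 (by omega) (-1) 0 rfl rfl]
  have h0 : (oCx R).d (-1) 0 = 0 := (isZero_single_X _ (by omega)).eq_of_src _ _
  have hd : (CochainComplex.mappingCone.inl (inclCx I)).v 0 (-1) (by omega) ≫ (ECx I).d (-1) 0 =
      (inclCx I).f 0 ≫ (CochainComplex.mappingCone.inr (inclCx I)).f 0 := by
    rw [CochainComplex.mappingCone.inl_v_d (inclCx I) 0 (-1) 1 (by omega) (by omega),
      (isZero_single_X (ModuleCat.of R I) (show (1 : ℤ) ≠ 0 by omega)).eq_of_tgt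
        (((CochainComplex.singleFunctor (ModuleCat.{u} R) 0).obj (ModuleCat.of R I)).d 0 1) 0,
      zero_comp, sub_zero]
  have hf : (s0 (ModuleCat.of R I)).inv ≫ (inclCx I).f 0 =
      ModuleCat.ofHom I.subtype ≫ (s0 (ModuleCat.of R R)).inv :=
    have hsf : (inclCx I).f 0 = (s0 (ModuleCat.of R I)).hom ≫ ModuleCat.ofHom I.subtype ≫
        (s0 (ModuleCat.of R R)).inv :=
      HomologicalComplex.single_map_f_self (ComplexShape.up ℤ) 0 (ModuleCat.ofHom I.subtype)
    by rw [hsf, Iso.inv_hom_id_assoc]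
  simp only [h0, comp_zero, zero_add]
  rw [Int.negOnePow_one, Units.neg_smul, one_smul, Preadditive.neg_comp,
    Preadditive.comp_neg, Preadditive.comp_neg, Category.assoc, reassoc_of% hd, reassoc_of% hf]
  rw [ModuleCat.hom_neg, LinearMap.neg_apply]
  refine congrArg Neg.neg ?_
  let L : ModuleCat.of R R ⟶ ModuleCat.of R R :=
    (s0 (ModuleCat.of R R)).inv ≫ (CochainComplex.mappingCone.inr (inclCx I)).f 0 ≫
      (ap z).v 0 0 (by omega) ≫ (s0 (ModuleCat.of R R)).hom
  show L.hom ((i : R)) = (i : R) * L.hom (1 : R)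
  rw [← smul_eq_mul, ← map_smul, smul_eq_mul, mul_one]

/-- A degree `1` cochain with given component. -/
noncomputable def mkA (f : I →ₗ[R] R) : (DRing.homCx (ECx I) (oCx R)).X 1 :=
  CochainComplex.mappingCone.descCochain (inclCx I)
    (Cochain.fromSingleMk ((ModuleCat.ofHom f : ModuleCat.of R I ⟶ ModuleCat.of R R) ≫ (s0 (ModuleCat.of R R)).inv) (zero_add 0))
    (0 : Cochain (oCx R) (oCx R) 1) (zero_add 1)

theorem aOf_mkA (f : I →ₗ[R] R) : aOf I (mkA I f) = f := by
  unfold aOf mkA ap
  rw [CochainComplex.mappingCone.inl_v_descCochain_v_assoc, Cochain.fromSingleMk_v]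
  have aux : ∀ {X Y X' Y' : ModuleCat.{u} R} (e : X' ≅ X) (e' : Y' ≅ Y) (g : X ⟶ Y),
      e.inv ≫ (e.hom ≫ g ≫ e'.inv) ≫ e'.hom = g := by intros; simp
  exact congrArg ModuleCat.Hom.hom (aux (s0 (ModuleCat.of R I)) (s0 (ModuleCat.of R R)) (ModuleCat.ofHom f))

/-- A degree `0` cochain with given component. -/
noncomputable def mkB (r : R) : (DRing.homCx (ECx I) (oCx R)).X 0 :=
  CochainComplex.mappingCone.descCochain (inclCx I)
    (0 : Cochain _ (oCx R) (-1))
    (Cochain.fromSingleMk (r • (s0 (ModuleCat.of R R)).inv) (zero_add 0)) (neg_add_cancel 1)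

theorem bOf_mkB (r : R) : bOf I (mkB I r) = r := by
  unfold bOf mkB ap
  rw [CochainComplex.mappingCone.inr_f_descCochain_v_assoc, Cochain.fromSingleMk_v]
  have aux : ∀ {X X' : ModuleCat.{u} R} (e : X' ≅ X),
      e.inv ≫ (e.hom ≫ (r • e.inv)) ≫ e.hom = r • 𝟙 X := by intros; simp
  refine (congr($(aux (s0 (ModuleCat.of R R))).hom (1 : R))).trans ?_
  show r • (1 : R) = r
  rw [smul_eq_mul, mul_one]

theorem vanishesOutside_ECx : DRing.VanishesOutside (ECx I) (-1) 0 := by
  intro p hp
  refine (IsZero.iff_id_eq_zero _).2 ?_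
  refine CochainComplex.mappingCone.ext_from (inclCx I) (p + 1) p rfl ?_ ?_
  · exact (isZero_single_X _ (by omega)).eq_of_src _ _
  · exact (isZero_single_X _ (by omega)).eq_of_src _ _

variable [Module.Invertible R I]

theorem termwiseFiniteProjective_ECx : DRing.TermwiseFiniteProjective (ECx I) := by
  have hsingle : ∀ (M : ModuleCat.{u} R), Module.Finite R M → Module.Projective R M → ∀ p,
      Module.Finite R (((CochainComplex.singleFunctor (ModuleCat.{u} R) 0).obj M).X p) ∧
        Module.Projective R (((CochainComplex.singleFunctor (ModuleCat.{u} R) 0).obj M).X p) := by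
    intro M h1 h2 p
    rcases ne_or_eq p 0 with hp | rfl
    · have := ModuleCat.subsingleton_of_isZero (isZero_single_X M hp)
      exact ⟨inferInstance, inferInstance⟩
    · exact ⟨Module.Finite.equiv (s0 M).toLinearEquiv.symm, Module.Projective.of_equiv (s0 M).toLinearEquiv.symm⟩
  intro p
  obtain ⟨f1, p1⟩ := hsingle (ModuleCat.of R I) inferInstance inferInstance (p + 1)
  obtain ⟨f2, p2⟩ := hsingle (ModuleCat.of R R) inferInstance inferInstance p
  let e := (HomologicalComplex.homotopyCofiber.XIsoBiprod (inclCx I) p (p + 1) rfl ≪≫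
    ModuleCat.biprodIsoProd _ _).toLinearEquiv.symm
  exact ⟨Module.Finite.equiv e, Module.Projective.of_equiv e⟩

theorem isKProjective_ECx : (ECx I).IsKProjective := by
  haveI : ∀ p, Projective ((ECx I).X p) := fun p => by
    haveI := (termwiseFiniteProjective_ECx I p).2
    exact (IsProjective.iff_projective (R := R) (P := (ECx I).X p)).mp inferInstance
  haveI : (ECx I).IsStrictlyLE 0 :=
    (CochainComplex.isStrictlyLE_iff (ECx I) 0).2 fun p hp => vanishesOutside_ECx I p (Or.inr hp)
  exact CochainComplex.isKProjective_of_projective (ECx I) 0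

variable (T : ModuleCat.{u} R) (θ : (I →ₗ[R] R) →ₗ[R] T) (hθ : Function.Surjective θ)
  (hker : ∀ f, θ f = 0 ↔ ∃ r : R, ∀ i : I, f i = r * (i : R))

omit [Module.Invertible R I] in
/-- `z ↦ θ (aOf z)` in degree `1`. -/
noncomputable def ψ₁ : (DRing.homCx (ECx I) (oCx R)).X 1 ⟶ T :=
  ModuleCat.ofHom
    { toFun := fun z => θ (aOf I z)
      map_add' := fun z z' => (congrArg θ (aOf_add I z z')).trans (map_add θ _ _)
      map_smul' := fun c z => (congrArg θ (aOf_smul I c z)).trans (map_smul θ c _) }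

include hθ hker in
theorem nonempty_homCx_iso :
    Nonempty (DRing.toD (DRing.homCx (ECx I) (oCx R)) ≅
      (DerivedCategory.singleFunctor (ModuleCat.{u} R) 1).obj T) := by
  let S := (HomologicalComplex.single (ModuleCat.{u} R) (ComplexShape.up ℤ) 1).obj T
  let ψ : DRing.homCx (ECx I) (oCx R) ⟶ S := mkHomToSingle (ψ₁ I T θ) (by
    intro k hk
    obtain rfl : k = 0 := by
      have : k + 1 = 1 := hk
      omega
    refine ModuleCat.hom_ext (LinearMap.ext fun z => ?_)
    show θ (aOf I (((DRing.homCx (ECx I) (oCx R)).d 0 1).hom z)) = 0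
    refine (hker _).2 ⟨-bOf I z, fun i => ?_⟩
    rw [aOf_d]
    ring)
  have hψ1 : ∀ z, (ψ.f 1).hom z =
      (HomologicalComplex.singleObjXSelf (ComplexShape.up ℤ) 1 T).inv.hom (θ (aOf I z)) := fun z => by
    simp [ψ, ψ₁]
    rfl
  haveI : QuasiIso ψ := by
    refine quasiIso_of_cycles ψ (fun n y _ => ?_) fun n x hx ⟨w, hw⟩ => ?_
    · rcases ne_or_eq n 1 with hn | rfl
      · have := ModuleCat.subsingleton_of_isZero
          (isZero_single_obj_X (ComplexShape.up ℤ) 1 T n hn)
        exact ⟨0, map_zero _, 0, Subsingleton.elim _ _⟩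
      · obtain ⟨f, hf⟩ := hθ ((HomologicalComplex.singleObjXSelf (ComplexShape.up ℤ) 1 T).hom.hom y)
        refine ⟨mkA I f, ?_, 0, ?_⟩
        · exact (eq_zero_iff I _).2 ⟨fun h => absurd h (by norm_num), fun h => absurd h (by norm_num)⟩
        · rw [map_zero, hψ1, aOf_mkA, hf, Iso.hom_inv_id_apply, sub_self]
    · rcases eq_or_ne n 1 with rfl | hn
      · have hw0 : (ψ.f 1).hom x = 0 := by
          rw [← hw, show (S.d (1 - 1) 1) = 0 from
            (isZero_single_obj_X (ComplexShape.up ℤ) 1 T (1 - 1) (by norm_num)).eq_of_src _ _]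
          rfl
        have h0 : θ (aOf I x) = 0 := by
          rw [hψ1] at hw0
          have := congrArg (HomologicalComplex.singleObjXSelf (ComplexShape.up ℤ) 1 T).hom.hom hw0
          rwa [Iso.inv_hom_id_apply, map_zero] at this
        obtain ⟨r, hr⟩ := (hker _).1 h0
        have key : ∀ (k : ℤ) (hk : k = 0), ∃ v, ((DRing.homCx (ECx I) (oCx R)).d k 1).hom v = x := by
          rintro k rfl
          refine ⟨mkB I (-r), sub_eq_zero.1 ((eq_zero_iff I _).2 ⟨fun _ => ?_, fun h => absurd h one_ne_zero⟩)⟩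
          refine LinearMap.ext fun i => ?_
          show aOf I (_ - x) i = 0
          have hsub : aOf I (((DRing.homCx (ECx I) (oCx R)).d 0 1).hom (mkB I (-r)) - x) + aOf I x =
              aOf I (((DRing.homCx (ECx I) (oCx R)).d 0 1).hom (mkB I (-r))) := by
            rw [← aOf_add, sub_add_cancel]
          rw [eq_sub_of_add_eq hsub, LinearMap.sub_apply, aOf_d, bOf_mkB, hr]
          ring
        exact key _ (by norm_num)
      · refine ⟨0, ?_⟩
        rw [map_zero]
        symm
        refine (eq_zero_iff I x).2 ⟨fun h => absurd h hn, ?_⟩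
        rintro rfl
        refine eq_zero_of_smul_incl I _ fun i => ?_
        have h := aOf_d I x i
        have hx' : ((DRing.homCx (ECx I) (oCx R)).d 0 1).hom x = 0 := hx
        rw [hx'] at h
        have h0 : aOf I (0 : (DRing.homCx (ECx I) (oCx R)).X 1) = 0 :=
          ((eq_zero_iff I (0 : (DRing.homCx (ECx I) (oCx R)).X 1)).1 rfl).1 rfl
        rw [h0, LinearMap.zero_apply, eq_comm, neg_eq_zero] at h
        show bOf I x * (i : R) = 0
        rw [mul_comm]
        exact h
  exact ⟨asIso (DerivedCategory.Q.map ψ) ≪≫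
    ((DerivedCategory.singleFunctorIsoCompQ (ModuleCat.{u} R) 1).app T).symm⟩

end Cx

section Main

variable {R A : Type u} [CommRing R] [CommRing A] [Algebra R A]
  [Module.Invertible R (RingHom.ker (algebraMap R A))]

theorem exists_resolution_quot (hφ : Function.Surjective (algebraMap R A)) :
    ∃ π : ECx (RingHom.ker (algebraMap R A)) ⟶ ringCx (algebraMap R A), QuasiIso π := by
  let K := RingHom.ker (algebraMap R A)
  let T := (ModuleCat.restrictScalars (algebraMap R A)).obj (ModuleCat.of A A)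
  let g : ModuleCat.of R R ⟶ T := ModuleCat.ofHom (X := R) (Y := T)
    { toFun := fun r => (algebraMap R A r : A)
      map_add' := fun r s => map_add _ r s
      map_smul' := fun c r => (map_mul (algebraMap R A) c r :
        algebraMap R A (c * r) = algebraMap R A c * algebraMap R A r) }
  have w : ModuleCat.ofHom K.subtype ≫ g = 0 := ModuleCat.hom_ext (LinearMap.ext fun i => i.2)
  have hS : (ShortComplex.mk (ModuleCat.ofHom K.subtype) g w).ShortExact :=
    { exact := (ShortComplex.moduleCat_exact_iff _).2 fun r hr => ⟨⟨r, hr⟩, rfl⟩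
      mono_f := (ModuleCat.mono_iff_injective _).2 Subtype.val_injective
      epi_g := (ModuleCat.epi_iff_surjective _).2 hφ }
  exact ⟨_, CochainComplex.mappingCone.quasiIso_descShortComplex
    (hS.map_of_exact (HomologicalComplex.single (ModuleCat.{u} R) (ComplexShape.up ℤ) 0))⟩

theorem nonempty_RHomRel_iso_of_invertible (hφ : Function.Surjective (algebraMap R A))
    (N : Type u) [AddCommGroup N] [Module A N]
    (e : (A ⊗[R] (RingHom.ker (algebraMap R A))) ⊗[A] N ≃ₗ[A] A)
    [HasRHomRel (algebraMap R A)] [HasLTenMix (algebraMap R A)] :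
    Nonempty (RHomRel (algebraMap R A) ≅
      (Functor.curry.obj (DTen.LTenMix (algebraMap R A))).flip.obj ((Dual.inD A N)⟦(-1 : ℤ)⟧)) := by
  let φ := algebraMap R A
  let K := RingHom.ker φ
  obtain ⟨π, hπ⟩ := exists_resolution_quot (R := R) (A := A) hφ
  haveI : (ECx K).IsKProjective := isKProjective_ECx K
  have hA : DRing.IsPerfect R ((DRing.restrictD φ).obj (DTen.unit A)) :=
    ⟨ECx K, -1, 0, vanishesOutside_ECx K, termwiseFiniteProjective_ECx K,
      ⟨asIso (DerivedCategory.Q.map π) ≪≫
        DerivedCategory.Q.mapIso ((HomologicalComplex.singleMapHomologicalComplex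
          (ModuleCat.restrictScalars φ) (ComplexShape.up ℤ) 0).app (𝟙_ (ModuleCat.{u} A))).symm ≪≫
        ((resFactors φ).app (𝟙_ (DRing.Cx A))).symm⟩⟩
  obtain ⟨i₀⟩ := nonempty_RHomRel_iso φ hA
  obtain ⟨J, ι₀, hJ, hι, -⟩ := KInjRes.exists_resolution (𝟙_ (DRing.Cx R))
  haveI : QuasiIso ι₀ := (HomologicalComplex.mem_quasiIso_iff _).1 hι.2
  obtain ⟨θ, hθs, hθ, hker⟩ := exists_theta A N hφ e
  let T := (ModuleCat.restrictScalars φ).obj (ModuleCat.of A N)
  obtain ⟨j₁⟩ := nonempty_homCx_iso K T
    { toFun := fun f => (θ f : N)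
      map_add' := fun f g => map_add θ f g
      map_smul' := fun c f => hθs c f } hθ hker
  let M := DRing.toD ((coiCx φ).obj J)
  haveI := quasiIso_κ φ (I := J) π
  haveI : QuasiIso (DRing.homCxMap (ECx K) (ι₀ : oCx R ⟶ J)) := quasiIso_homCxMap (ι₀ : oCx R ⟶ J)
  let j₂ : (DRing.restrictD φ).obj M ≅ (DerivedCategory.singleFunctor (ModuleCat.{u} R) 1).obj T :=
    (resFactors φ).app _ ≪≫ asIso (DerivedCategory.Q.map (κ₀ φ J ≫ homPre J π)) ≪≫
      (asIso (DerivedCategory.Q.map (DRing.homCxMap (ECx K) (ι₀ : oCx R ⟶ J)))).symm ≪≫ j₁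
  have hzs : ∀ n : ℤ, n ≠ 1 → IsZero ((DerivedCategory.homologyFunctor (ModuleCat.{u} R) n).obj
      ((DerivedCategory.singleFunctor (ModuleCat.{u} R) 1).obj T)) := fun n hn =>
    (lt_or_gt_of_ne hn).elim (fun h => (DerivedCategory.isGE_iff _ 1).1 inferInstance n h)
      (fun h => (DerivedCategory.isLE_iff _ 1).1 inferInstance n h)
  have hz : ∀ n : ℤ, n ≠ 1 → IsZero ((DerivedCategory.homologyFunctor (ModuleCat.{u} A) n).obj M) := by
    intro n hn
    refine IsZero.of_iso ?_
      ((DerivedCategory.homologyFunctorFactors (ModuleCat.{u} A) n).app ((coiCx φ).obj J))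
    have h1 : IsZero (((resCx φ).obj ((coiCx φ).obj J)).homology n) :=
      (hzs n hn).of_iso
        (((DerivedCategory.homologyFunctorFactors (ModuleCat.{u} R) n).app _).symm ≪≫
          (DerivedCategory.homologyFunctor (ModuleCat.{u} R) n).mapIso (((resFactors φ).app _).symm ≪≫ j₂))
    have h3 := h1.of_iso ((((coiCx φ).obj J).sc n).mapHomologyIso (ModuleCat.restrictScalars φ)).symm
    show IsZero (((coiCx φ).obj J).homology n)
    rw [IsZero.iff_id_eq_zero] at h3 ⊢
    exact (ModuleCat.restrictScalars φ).map_injective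
      (((ModuleCat.restrictScalars φ).map_id _).trans (h3.trans (Functor.map_zero _ _ _).symm))
  haveI : DerivedCategory.IsLE M 1 :=
    (DerivedCategory.isLE_iff M 1).2 fun n hn => hz n (by omega)
  haveI : DerivedCategory.IsGE M 1 :=
    (DerivedCategory.isGE_iff M 1).2 fun n hn => hz n (by omega)
  obtain ⟨Y, ⟨eY⟩⟩ := DerivedCategory.exists_iso_singleFunctor_obj_of_isGE_of_isLE M 1
  let sres : ∀ X : ModuleCat.{u} A,
      (DRing.restrictD φ).obj ((DerivedCategory.singleFunctor (ModuleCat.{u} A) 1).obj X) ≅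
        (DerivedCategory.singleFunctor (ModuleCat.{u} R) 1).obj ((ModuleCat.restrictScalars φ).obj X) :=
    fun X => (DRing.restrictD φ).mapIso ((DerivedCategory.singleFunctorIsoCompQ (ModuleCat.{u} A) 1).app X) ≪≫
      (resFactors φ).app _ ≪≫
      DerivedCategory.Q.mapIso ((HomologicalComplex.singleMapHomologicalComplex
        (ModuleCat.restrictScalars φ) (ComplexShape.up ℤ) 1).app X) ≪≫
      ((DerivedCategory.singleFunctorIsoCompQ (ModuleCat.{u} R) 1).app _).symm
  let H := DerivedCategory.singleFunctorCompHomologyFunctorIso (ModuleCat.{u} R) 1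
  let l : (ModuleCat.restrictScalars φ).obj Y ≅ T :=
    (H.app _).symm ≪≫ (DerivedCategory.homologyFunctor (ModuleCat.{u} R) 1).mapIso
      ((sres Y).symm ≪≫ (DRing.restrictD φ).mapIso eY.symm ≪≫ j₂) ≪≫ H.app _
  let lA : Y ≅ ModuleCat.of A N := LinearEquiv.toModuleIso
    { toFun := fun y => (l.hom.hom y : N)
      invFun := fun x => (l.inv.hom x : Y)
      map_add' := fun a b => map_add l.hom.hom a b
      map_smul' := fun a y => by
        obtain ⟨r, rfl⟩ := hφ a
        exact map_smul l.hom.hom r (show (ModuleCat.restrictScalars φ).obj Y from y)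
      left_inv := fun y => congr($(l.hom_inv_id).hom y)
      right_inv := fun x => congr($(l.inv_hom_id).hom x) }
  let m : (RHomRel φ).obj (DTen.unit R) ≅ (Dual.inD A N)⟦(-1 : ℤ)⟧ :=
    (coiUnitIso φ J ι₀).symm ≪≫ eY ≪≫ (DerivedCategory.singleFunctor (ModuleCat.{u} A) 1).mapIso lA ≪≫
      (((DerivedCategory.singleFunctors (ModuleCat.{u} A)).shiftIso (-1) 1 0 (by omega)).app
        (ModuleCat.of A N)).symm
  exact ⟨i₀ ≪≫ (Functor.curry.obj (DTen.LTenMix φ)).flip.mapIso m⟩

end Main

end DTenLib
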