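import Groth.Agent.DTenLib.BaseChange
import Groth.Prelude.Def_DTen6

/-!
# The two iterated mixed derived tensor products agree
-/

set_option autoImplicit false

universe u

open CategoryTheory CategoryTheory.Limits MonoidalCategory HomologicalComplex
attribute [local instance] HasDerivedCategory.standard

namespace DTenLib

open DTen
open Groth.Agent.DRingLib (resP resψ quasiIso_resψ good_resP)

variable {A B C : Type u} [CommRing A] [CommRing B] [CommRing C] (φ : A →+* B) (ψ : B →+* C)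

theorem kf_mixT {K : DRing.Cx A} {N : DRing.Cx B} (hK : KF K) (hN : KF N) :
    KF ((mixT φ).obj (K, N)) :=
  kf_tensor (KFlatLib.isKFlat_extend φ hK) hN

/-- Functorial K-flat replacement of a mixed triple. -/
noncomputable abbrev resMix₃ (A B C : Type u) [CommRing A] [CommRing B] [CommRing C] :
    DRing.Cx A × (DRing.Cx B × DRing.Cx C) ⥤ DRing.Cx A × (DRing.Cx B × DRing.Cx C) :=
  (resP A).prod (resMix B C)

noncomputable def resψMix₃ (A B C : Type u) [CommRing A] [CommRing B] [CommRing C] :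
    resMix₃ A B C ⟶ 𝟭 _ where
  app X := ((resψ A).app X.1, (resψMix B C).app X.2)
  naturality X Y f := Prod.ext ((resψ A).naturality f.1) ((resψMix B C).naturality f.2)

theorem isIso_mix₃_map {X Y : DRing.Cx A × (DRing.Cx B × DRing.Cx C)} (f : X ⟶ Y)
    (h1 : QuasiIso f.1) (h2 : QuasiIso f.2.1) (h3 : QuasiIso f.2.2) (hX₁ : KF X.1) (hY₁ : KF Y.1)
    (hX₂ : KF X.2.1) (hY₂ : KF Y.2.1) (hX₃ : KF X.2.2) : IsIso ((mix₃ φ ψ).map f) := by
  have := KFlatLib.quasiIso_extend φ hX₁ hY₁ f.1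
  have hq : QuasiIso ((mixT φ).map (X := (X.1, X.2.1)) (Y := (Y.1, Y.2.1)) (Prod.mkHom f.1 f.2.1)) := by
    have := quasiIso_tensorHom_left ((extCx φ).map f.1) f.2.1 hX₂ (KFlatLib.isKFlat_extend φ hY₁)
    have e : (mixT φ).map (X := (X.1, X.2.1)) (Y := (Y.1, Y.2.1)) (Prod.mkHom f.1 f.2.1) =
        (extCx φ).map f.1 ⊗ₘ f.2.1 := (MonoidalCategory.tensorHom_def _ _).symm
    rw [e]
    exact this
  exact isIso_mix₂_map ψ (X := ((mixT φ).obj (X.1, X.2.1), X.2.2)) (Y := ((mixT φ).obj (Y.1, Y.2.1), Y.2.2))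
    (Prod.mkHom ((mixT φ).map (X := (X.1, X.2.1)) (Y := (Y.1, Y.2.1)) (Prod.mkHom f.1 f.2.1)) f.2.2)
    hq h3 (kf_mixT φ hX₁ hX₂) (kf_mixT φ hY₁ hY₂) hX₃

theorem inverted_resMix₃ : (qisMix₃ A B C).IsInvertedBy (resMix₃ A B C ⋙ mix₃ φ ψ) := fun X Y f hf =>
  isIso_mix₃_map φ ψ ((resMix₃ A B C).map f) (quasiIso_res_map f.1 hf.1) (quasiIso_res_map f.2.1 hf.2.1)
    (quasiIso_res_map f.2.2 hf.2.2) (kf_resP _) (kf_resP _) (kf_resP _) (kf_resP _) (kf_resP _)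

theorem exists_derivedMix₃ : ∃ (G : Dual.D A × (Dual.D B × Dual.D C) ⥤ Dual.D C)
    (α : QMix₃ A B C ⋙ G ⟶ mix₃ φ ψ), G.IsRightKanExtension α ∧
      ∀ M N K, KF M → KF N → IsIso (α.app (M, (N, K))) := by
  have := KFlatLib.isRightKanExtension_derivedOfRes (QMix₃ A B C) (qisMix₃ A B C) (mix₃ φ ψ)
    (resMix₃ A B C) (resψMix₃ A B C) (fun X => ⟨qis_resψ X.1, qis_resψ X.2.1, qis_resψ X.2.2⟩)
    (fun X => isIso_mix₃_map φ ψ _ (quasiIso_resψ _) (quasiIso_resψ _) (quasiIso_resψ _)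
      (kf_resP _) (kf_resP _) (kf_resP _) (kf_resP _) (kf_resP _)) (inverted_resMix₃ φ ψ)
  refine ⟨_, KFlatLib.derivedOfResα (QMix₃ A B C) (qisMix₃ A B C) (mix₃ φ ψ) (resMix₃ A B C)
    (resψMix₃ A B C) (inverted_resMix₃ φ ψ), this, fun M N K hM hN => ?_⟩
  rw [KFlatLib.derivedOfResα_app]
  have := isIso_mix₃_map φ ψ ((resψMix₃ A B C).app (M, (N, K))) (quasiIso_resψ _) (quasiIso_resψ _)
    (quasiIso_resψ _) (kf_resP _) hM (kf_resP _) hN (kf_resP _)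
  exact @IsIso.comp_isIso _ _ _ _ _ _ _
    (inferInstanceAs (IsIso ((Localization.fac _ (inverted_resMix₃ φ ψ) (QMix₃ A B C)).app (M, (N, K))).hom)) this

theorem isIso_εMix₃ [HasLTenMix₃ φ ψ] (M : DRing.Cx A) (N : DRing.Cx B) (K : DRing.Cx C) (hM : KF M)
    (hN : KF N) : IsIso ((εMix₃ φ ψ).app (M, (N, K))) := by
  obtain ⟨G, α, hG, hiso⟩ := exists_derivedMix₃ φ ψ
  have := hiso M N K hM hN
  have h' : (LTenMix₃ φ ψ).IsRightKanExtension (εMix₃ φ ψ) :=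
    Functor.IsLeftDerivedFunctor.isRightKanExtension _ _ (qisMix₃ A B C)
  exact KFlatLib.isIso_app_of_isRightKanExtension _ G _ α _

theorem isIso_legs [HasLTenMix φ] [HasLTenMix ψ] [HasLTenMix (ψ.comp φ)] [HasLTenMix₃ φ ψ]
    (E : Dual.D A) (F : Dual.D B) (G : Dual.D C) :
    IsIso ((leg₃L φ ψ).app (E, (F, G))) ∧ IsIso ((leg₃R φ ψ).app (E, (F, G))) := by
  obtain ⟨P, hP, ⟨e₁⟩⟩ := exists_kf_rep E
  obtain ⟨Q, hQ, ⟨e₂⟩⟩ := exists_kf_rep F
  obtain ⟨S, -, ⟨e₃⟩⟩ := exists_kf_rep G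
  have := isIso_εMix₃ φ ψ P Q S hP hQ
  constructor
  · have h : IsIso ((β₃L φ ψ).app (P, (Q, S))) := by
      have := isIso_εMix φ P Q hP
      have := isIso_εMix ψ ((mixT φ).obj (P, Q)) S (kf_mixT φ hP hQ)
      have : IsIso (Prod.mkHom ((εMix φ).app (P, Q)) (𝟙 (DerivedCategory.Q.obj S))) :=
        (isIso_prod_iff _ _).2 ⟨inferInstance, inferInstance⟩
      show IsIso ((LTenMix ψ).map (Prod.mkHom ((εMix φ).app (P, Q)) (𝟙 (DerivedCategory.Q.obj S))) ≫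
        (εMix ψ).app ((mixT φ).obj (P, Q), S))
      infer_instance
    rw [← leg₃L_fac] at h
    have : IsIso ((leg₃L φ ψ).app ((QMix₃ A B C).obj (P, (Q, S)))) :=
      IsIso.of_isIso_comp_right _ ((εMix₃ φ ψ).app (P, (Q, S)))
    exact isIso_app_of_iso (leg₃L φ ψ) (X := (QMix₃ A B C).obj (P, (Q, S)))
      (Iso.prod e₁ (Iso.prod e₂ e₃))
  · have h : IsIso ((β₃R φ ψ).app (P, (Q, S))) := by
      have := isIso_εMix ψ Q S hQ
      have := isIso_εMix (ψ.comp φ) P ((mixT ψ).obj (Q, S)) hP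
      have : IsIso (Prod.mkHom (𝟙 (DerivedCategory.Q.obj P)) ((εMix ψ).app (Q, S))) :=
        (isIso_prod_iff _ _).2 ⟨inferInstance, inferInstance⟩
      show IsIso ((LTenMix (ψ.comp φ)).map (Prod.mkHom (𝟙 (DerivedCategory.Q.obj P)) ((εMix ψ).app (Q, S))) ≫
        (εMix (ψ.comp φ)).app (P, (mixT ψ).obj (Q, S)) ≫
          DerivedCategory.Q.map ((θ₃ φ ψ).inv.app (P, (Q, S))))
      infer_instance
    rw [← leg₃R_fac] at h
    have : IsIso ((leg₃R φ ψ).app ((QMix₃ A B C).obj (P, (Q, S)))) :=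
      IsIso.of_isIso_comp_right _ ((εMix₃ φ ψ).app (P, (Q, S)))
    exact isIso_app_of_iso (leg₃R φ ψ) (X := (QMix₃ A B C).obj (P, (Q, S)))
      (Iso.prod e₁ (Iso.prod e₂ e₃))

end DTenLib
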