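import Groth.Agent.DCompLib.AdicBC
import Groth.Agent.DCompLib.SingleHom
import Groth.Agent.DRingLib.Devissage
import Groth.Agent.DerLib.NilpTest
import Groth.Agent.DerLib.Ghost
import Mathlib.LinearAlgebra.Dual.Lemmas
import Mathlib.RingTheory.Finiteness.Nakayama

/-!
# Maps to residue fields in `D(A)` and point objects
-/

set_option autoImplicit false
set_option linter.style.haveILetI false
set_option linter.unusedSectionVars false

universe u

open CategoryTheory CategoryTheory.Limits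
open CategoryTheory.Pretriangulated (Triangle)
open Groth.Agent
open DerLib.NilpTest (Nilp)
open DerivedCategory.TStructure (t)

attribute [local instance] HasDerivedCategory.standard

noncomputable section

namespace DTenLib.Point

variable {A : Type u} [CommRing A]

/-- `H^i`. -/
abbrev hH (A : Type u) [CommRing A] (i : ℤ) : Dual.D A ⥤ ModuleCat.{u} A :=
  DerivedCategory.homologyFunctor (ModuleCat.{u} A) i

/-- `N[-i]`. -/
abbrev sg (N : ModuleCat.{u} A) (i : ℤ) : Dual.D A :=
  (DerivedCategory.singleFunctor (ModuleCat.{u} A) i).obj N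

/-- The residue module. -/
abbrev kM (m : Ideal A) : ModuleCat.{u} A := ModuleCat.of A (A ⧸ m)

/-- The cohomology of `N[-i]`. -/
def sgH (N : ModuleCat.{u} A) (i : ℤ) : (hH A i).obj (sg N i) ≅ N :=
  (DerivedCategory.singleFunctorCompHomologyFunctorIso (ModuleCat.{u} A) i).app N

theorem sgH_naturality {N N' : ModuleCat.{u} A} (φ : N ⟶ N') (i : ℤ) :
    (hH A i).map ((DerivedCategory.singleFunctor (ModuleCat.{u} A) i).map φ) ≫ (sgH N' i).hom =
      (sgH N i).hom ≫ φ :=
  (DerivedCategory.singleFunctorCompHomologyFunctorIso (ModuleCat.{u} A) i).hom.naturality φ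

theorem smul_apply (r : A) {X Y : Dual.D A} (g : X ⟶ Y) (i : ℤ) (x : (hH A i).obj X) :
    ((hH A i).map (r • g)).hom x = r • ((hH A i).map g).hom x := by
  rw [Functor.map_smul]
  rfl

theorem isZero_sg {N : ModuleCat.{u} A} {i j : ℤ} (h : j ≠ i) : IsZero ((hH A j).obj (sg N i)) := by
  rcases lt_or_gt_of_ne h with h | h
  · exact DerivedCategory.isZero_of_isGE _ i j h
  · exact DerivedCategory.isZero_of_isLE _ i j h

/-- A bounded object with killed cohomology is killed. -/
theorem nilp_of_killed {C : Dual.D A} (hb : ∃ a b : ℤ, ∀ i, (i < a ∨ b < i) → IsZero ((hH A i).obj C))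
    (s : A) (h : ∀ (i : ℤ) (x : (hH A i).obj C), s • x = 0) : Nilp s C := by
  obtain ⟨a, b, hab⟩ := hb
  have hd : DRingLib.Devissable (fun K : Dual.D A => Nilp s K) :=
    { iso := fun e h => DerLib.NilpTest.nilp_of_iso e h
      zero := fun h => ⟨0, h.eq_of_src _ _⟩
      ext := fun T hT ⟨k, hk⟩ ⟨l, hl⟩ => by
        obtain ⟨u, hu⟩ := Triangle.coyoneda_exact₂ _ hT (s ^ l • 𝟙 T.obj₂) (by
          rw [Linear.smul_comp, Category.id_comp, ← Category.comp_id T.mor₂, ← Linear.comp_smul, hl, comp_zero])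
        refine ⟨k + l, ?_⟩
        rw [pow_add, mul_smul, hu, ← Category.id_comp T.mor₁, ← Linear.comp_smul, ← Linear.smul_comp,
          hk, zero_comp, comp_zero] }
  refine DRingLib.Devissable.of_homology hd a (b + 1 - a).toNat C (fun i hi => hab i (by omega)) fun i => ?_
  refine ⟨1, ?_⟩
  rw [pow_one]
  change s • 𝟙 ((DerivedCategory.singleFunctor (ModuleCat.{u} A) i).obj _) = 0
  rw [← CategoryTheory.Functor.map_id, ← Functor.map_smul]
  have : s • 𝟙 ((DRingLib.Hn A i).obj C) = 0 := ModuleCat.hom_ext (LinearMap.ext fun x => h i x)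
  rw [this, Functor.map_zero]

section Residue

variable (m : Ideal A) [m.IsMaximal]

theorem smul_id_kM {r : A} (hr : r ∈ m) : r • 𝟙 (kM m) = 0 := by
  refine ModuleCat.hom_ext (LinearMap.ext fun x => ?_)
  obtain ⟨a, rfl⟩ := Submodule.Quotient.mk_surjective _ x
  change r • (Submodule.Quotient.mk a : A ⧸ m) = 0
  rw [← Submodule.Quotient.mk_smul, Submodule.Quotient.mk_eq_zero]
  exact m.mul_mem_right _ hr

theorem smul_id_sg {r : A} (hr : r ∈ m) (c : ℤ) : r • 𝟙 (sg (kM m) c) = 0 := by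
  rw [← CategoryTheory.Functor.map_id, ← Functor.map_smul, smul_id_kM m hr, Functor.map_zero]

theorem exists_inv {s : A} (hs : s ∉ m) : ∃ r, r * s - 1 ∈ m := by
  obtain ⟨r, i, hi, h⟩ := Ideal.IsMaximal.exists_inv ‹m.IsMaximal› hs
  refine ⟨r, ?_⟩
  rw [show r * s - 1 = -i by rw [← h]; ring]
  exact m.neg_mem hi

/-- Killed objects have no maps to the residue field. -/
theorem hom_eq_zero {C : Dual.D A} {s : A} (hs : s ∉ m) (hC : Nilp s C) (c : ℤ) (g : C ⟶ sg (kM m) c) :
    g = 0 := by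
  obtain ⟨k, hk⟩ := hC
  obtain ⟨r, hr⟩ := exists_inv m (s := s ^ k)
    (fun h => hs (Ideal.IsPrime.mem_of_pow_mem inferInstance k h))
  have h1 : (r * s ^ k) • 𝟙 (sg (kM m) c) = 𝟙 _ := by
    have := smul_id_sg m hr c
    rwa [sub_smul, one_smul, sub_eq_zero] at this
  rw [← Category.comp_id g, ← h1, Linear.comp_smul, Category.comp_id, mul_smul]
  have h2 : s ^ k • g = (s ^ k • 𝟙 C) ≫ g := by rw [Linear.smul_comp, Category.id_comp]
  rw [h2, hk, zero_comp, smul_zero]

/-- The cohomology in degree `i` dies near `m`. -/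
def Killed (C : Dual.D A) (i : ℤ) : Prop := ∃ s ∉ m, ∀ x : (hH A i).obj C, s • x = 0

theorem killed_of_isZero {C : Dual.D A} {i : ℤ} (h : IsZero ((hH A i).obj C)) : Killed m C i := by
  haveI := ModuleCat.subsingleton_of_isZero h
  exact ⟨1, fun h1 => Ideal.IsPrime.ne_top' ((Ideal.eq_top_iff_one m).2 h1), fun x => Subsingleton.elim _ _⟩

theorem exists_common {C : Dual.D A} (S : Finset ℤ) (h : ∀ i ∈ S, Killed m C i) :
    ∃ s ∉ m, ∀ i ∈ S, ∀ x : (hH A i).obj C, s • x = 0 := by
  classical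
  induction S using Finset.induction_on with
  | empty => exact ⟨1, fun h1 => Ideal.IsPrime.ne_top' ((Ideal.eq_top_iff_one m).2 h1), by simp⟩
  | @insert i S _ ih =>
    obtain ⟨s, hs, hsx⟩ := ih fun j hj => h j (Finset.mem_insert_of_mem hj)
    obtain ⟨t', ht, htx⟩ := h i (Finset.mem_insert_self _ _)
    refine ⟨s * t', fun hm => (Ideal.IsPrime.mem_or_mem inferInstance hm).elim hs ht, fun j hj x => ?_⟩
    rcases Finset.mem_insert.1 hj with rfl | hj
    · rw [mul_smul, htx, smul_zero]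
    · rw [mul_comm, mul_smul, hsx j hj, smul_zero]

/-- A functional nonzero on an element outside `m • N`. -/
theorem exists_functional {N : Type u} [AddCommGroup N] [Module A N] {x : N}
    (hx : x ∉ m • (⊤ : Submodule A N)) : ∃ φ : N →ₗ[A] A ⧸ m, φ x ≠ 0 := by
  letI : Field (A ⧸ m) := Ideal.Quotient.field m
  have hx' : (Submodule.Quotient.mk x : N ⧸ m • (⊤ : Submodule A N)) ≠ 0 := by
    rwa [ne_eq, Submodule.Quotient.mk_eq_zero]
  obtain ⟨f, hf⟩ : ∃ f : Module.Dual (A ⧸ m) (N ⧸ m • (⊤ : Submodule A N)), f (Submodule.Quotient.mk x) ≠ 0 := by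
    by_contra! h
    exact hx' ((Module.forall_dual_apply_eq_zero_iff _ _).1 h)
  exact ⟨(f.restrictScalars A).comp (Submodule.mkQ _), hf⟩

/-- Maps to the residue field detect the top cohomology near `m`. -/
theorem exists_hom_of_top {C : Dual.D A}
    (hb : ∃ a b : ℤ, ∀ i, (i < a ∨ b < i) → IsZero ((hH A i).obj C)) (b : ℤ)
    (hhi : ∀ i, b < i → Killed m C i) (φ : (hH A b).obj C ⟶ kM m) :
    ∃ g : C ⟶ sg (kM m) b, ∀ x, ((hH A b).map g).hom x = 0 → φ.hom x = 0 := by
  obtain ⟨a₀, b₀, hab⟩ := hb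
  obtain ⟨s, hs, hsx⟩ := exists_common m (Finset.Ioc b b₀) fun i hi => hhi i (Finset.mem_Ioc.1 hi).1
  let D := (t.truncLT (b + 1)).obj C
  let ι : D ⟶ C := (t.truncLTι (b + 1)).app C
  haveI hDle : DerivedCategory.IsLE D b := t.isLE_truncLT_obj C (b + 1) b (by omega)
  haveI hι := DerLib.Ghost.isIso_homologyMap_truncLTι C (b + 1) b (by omega)
  let Y := (t.truncGE b).obj D
  let π : D ⟶ Y := (t.truncGEπ b).app D
  haveI hπ := DerLib.Ghost.isIso_homologyMap_truncGEπ D b b le_rfl
  haveI : DerivedCategory.IsLE Y b := inferInstanceAs (t.IsLE _ b)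
  haveI : DerivedCategory.IsGE Y b := t.isGE_truncGE_obj D b b (by omega)
  obtain ⟨N, ⟨eN⟩⟩ := DerivedCategory.exists_iso_singleFunctor_obj_of_isGE_of_isLE Y b
  let e : (hH A b).obj C ≅ N :=
    (asIso ((hH A b).map ι)).symm ≪≫ asIso ((hH A b).map π) ≪≫ (hH A b).mapIso eN ≪≫ sgH N b
  let g₀ : D ⟶ sg (kM m) b := π ≫ eN.hom ≫ (DerivedCategory.singleFunctor _ b).map (e.inv ≫ φ)
  have hT := t.triangleLTGE_distinguished (b + 1) C
  have hRz : ∀ i, i ≤ b → IsZero ((hH A i).obj ((t.truncGE (b + 1)).obj C)) := fun i hi => by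
    haveI : DerivedCategory.IsGE ((t.truncGE (b + 1)).obj C) (b + 1) :=
      t.isGE_truncGE_obj C (b + 1) (b + 1) (by omega)
    exact DerivedCategory.isZero_of_isGE _ (b + 1) i (by omega)
  have hR : Nilp s ((t.truncGE (b + 1)).obj C) := by
    refine nilp_of_killed ⟨b + 1, b₀, fun i hi => ?_⟩ s fun i x => ?_
    · rcases le_or_gt i b with h | h
      · exact hRz i h
      · haveI := DerLib.Ghost.isIso_homologyMap_truncGEπ C (b + 1) i (by omega)
        exact (hab i (by omega)).of_iso (asIso ((hH A i).map ((t.truncGEπ (b + 1)).app C))).symm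
    · rcases le_or_gt i b with h | h
      · exact @Subsingleton.elim _ (ModuleCat.subsingleton_of_isZero (hRz i h)) _ _
      · haveI := DerLib.Ghost.isIso_homologyMap_truncGEπ C (b + 1) i (by omega)
        obtain ⟨y, rfl⟩ := (asIso ((hH A i).map ((t.truncGEπ (b + 1)).app C))).toLinearEquiv.surjective x
        rcases le_or_gt i b₀ with h' | h'
        · rw [← map_smul, hsx i (Finset.mem_Ioc.2 ⟨h, h'⟩) y, map_zero]
        · obtain rfl : y = 0 := @Subsingleton.elim _ (ModuleCat.subsingleton_of_isZero (hab i (Or.inr h'))) _ _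
          rw [map_zero, smul_zero]
  obtain ⟨g, hg⟩ := Triangle.yoneda_exact₂ _ (Pretriangulated.inv_rot_of_distTriang _ hT) g₀
    (hom_eq_zero m hs (DerLib.NilpTest.nilp_shift hR (-1)) b _)
  refine ⟨g, fun x hx => ?_⟩
  have hg' : g₀ = ι ≫ g := hg
  obtain ⟨y, rfl⟩ := (asIso ((hH A b).map ι)).toLinearEquiv.surjective x
  have h1 : ((hH A b).map g₀).hom y = 0 := by
    rw [hg', Functor.map_comp]
    exact hx
  have h2 : (hH A b).map g₀ ≫ (sgH (kM m) b).hom = (hH A b).map ι ≫ φ := by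
    simp only [g₀, (hH A b).map_comp, Category.assoc]
    rw [sgH_naturality]
    simp [e]
  have h3 := congrArg (fun f => f.hom y) h2
  change (sgH (kM m) b).hom.hom (((hH A b).map g₀).hom y) = φ.hom _ at h3
  rw [h1, map_zero] at h3
  exact h3.symm

/-- Without maps to the residue field, all cohomology dies near `m`. -/
theorem killed_of_subsingleton {C : Dual.D A} (hfin : ∀ i, Module.Finite A ((hH A i).obj C))
    (hb : ∃ a b : ℤ, ∀ i, (i < a ∨ b < i) → IsZero ((hH A i).obj C))
    (h : ∀ c, Subsingleton (C ⟶ sg (kM m) c)) : ∀ i, Killed m C i := by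
  obtain ⟨a₀, b₀, hab⟩ := hb
  suffices H : ∀ (d : ℕ) (i : ℤ), b₀ < i + d → Killed m C i from
    fun i => H (b₀ - i + 1).toNat i (by omega)
  intro d
  induction d with
  | zero => exact fun i hi => killed_of_isZero m (hab i (Or.inr (by omega)))
  | succ d ih =>
    intro i hi
    haveI := hfin i
    have hle : (⊤ : Submodule A ((hH A i).obj C)) ≤ m • ⊤ := fun x _ => by
      by_contra hx
      obtain ⟨φ, hφ⟩ := exists_functional m hx
      obtain ⟨g, hg⟩ := exists_hom_of_top m ⟨a₀, b₀, hab⟩ i (fun j hj => ih j (by omega)) (ModuleCat.ofHom φ)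
      refine hφ (hg x ?_)
      rw [(h i).elim g 0, Functor.map_zero]
      rfl
    obtain ⟨r, hr1, hr0⟩ := Submodule.exists_sub_one_mem_and_smul_eq_zero_of_fg_of_le_smul m ⊤
      Module.Finite.fg_top hle
    exact ⟨r, fun hm => Ideal.IsPrime.ne_top' ((Ideal.eq_top_iff_one m).2
      (by simpa using m.sub_mem hm hr1)), fun x => hr0 x Submodule.mem_top⟩

/-- Shifts of the residue field. -/
def shiftSg (N : ModuleCat.{u} A) (c j : ℤ) : (sg N c)⟦j⟧ ≅ sg N (c - j) :=
  ((DerivedCategory.singleFunctors (ModuleCat.{u} A)).shiftIso j (c - j) c (by omega)).app N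

end Residue

/-- The value of a map out of `P[-a]`. -/
def evA (P : ModuleCat.{u} A) (a : ℤ) {X : Dual.D A} (f : sg P a ⟶ X) : P ⟶ (hH A a).obj X :=
  (sgH P a).inv ≫ (hH A a).map f

theorem evA_comp (P : ModuleCat.{u} A) (a : ℤ) {X Y : Dual.D A} (f : sg P a ⟶ X) (g : X ⟶ Y) :
    evA P a (f ≫ g) = evA P a f ≫ (hH A a).map g := by
  simp [evA]

/-- Maps out of `A[-a]` are cohomology classes. -/
theorem exists_evA_eq {X : Dual.D A} (a : ℤ) (x : (hH A a).obj X) :
    ∃ f : sg (ModuleCat.of A A) a ⟶ X, (evA _ a f).hom (1 : A) = x := by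
  let K := DerivedCategory.Q.objPreimage X
  let e : DerivedCategory.Q.obj K ≅ X := DerivedCategory.Q.objObjPreimageIso X
  let S := (HomologicalComplex.single (ModuleCat.{u} A) (ComplexShape.up ℤ) a).obj (ModuleCat.of A A)
  let eK : K.homology a ≅ (hH A a).obj X :=
    ((DerivedCategory.homologyFunctorFactors _ a).app K).symm ≪≫ (hH A a).mapIso e
  let s : sg (ModuleCat.of A A) a ≅ DerivedCategory.Q.obj S :=
    (DerivedCategory.singleFunctorIsoCompQ _ a).app _
  have hd : ∀ k l, S.d k l = 0 := fun k l => HomologicalComplex.single_obj_d _ _ _ _ _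
  haveI : IsIso (S.iCycles a) := S.isIso_iCycles a (a + 1) (by simp) (hd _ _)
  haveI : IsIso (S.homologyπ a) := S.isIso_homologyπ (a - 1) a (by simp) (hd _ _)
  let w : ModuleCat.of A A ≅ S.homology a :=
    (sgH (ModuleCat.of A A) a).symm ≪≫ (hH A a).mapIso s ≪≫ (DerivedCategory.homologyFunctorFactors _ a).app S
  let q : ModuleCat.of A A ≅ S.X a := w ≪≫ (asIso (S.homologyπ a)).symm ≪≫ asIso (S.iCycles a)
  obtain ⟨z, hz⟩ := (ModuleCat.epi_iff_surjective (K.homologyπ a)).1 inferInstance (eK.inv.hom x)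
  let ψ : ModuleCat.of A A ⟶ K.cycles a := ModuleCat.ofHom (LinearMap.toSpanSingleton A _ z)
  let f : S ⟶ K := HomologicalComplex.mkHomFromSingle
    ((HomologicalComplex.singleObjXSelf (ComplexShape.up ℤ) a _).inv ≫ q.inv ≫ ψ ≫ K.iCycles a)
    fun k _ => by simp
  have hc : (w.hom ≫ (asIso (S.homologyπ a)).inv) ≫ HomologicalComplex.cyclesMap f a = ψ := by
    rw [← cancel_mono (K.iCycles a), Category.assoc, HomologicalComplex.cyclesMap_i,
      HomologicalComplex.mkHomFromSingle_f, Iso.hom_inv_id_assoc]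
    simp [q]
  refine ⟨s.hom ≫ DerivedCategory.Q.map f ≫ e.hom, ?_⟩
  have key : evA _ a (s.hom ≫ DerivedCategory.Q.map f ≫ e.hom) = ψ ≫ K.homologyπ a ≫ eK.hom := by
    rw [← hc]
    simp only [Category.assoc, ← HomologicalComplex.homologyπ_naturality_assoc, asIso_inv,
      IsIso.inv_hom_id_assoc, w, eK, Iso.trans_hom, Iso.symm_hom, Iso.app_hom, Iso.app_inv,
      Functor.mapIso_hom, evA, Functor.map_comp]
    have := (DerivedCategory.homologyFunctorFactors (ModuleCat.{u} A) a).hom.naturality f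
    simp only [Functor.comp_map, HomologicalComplex.homologyFunctor_map] at this
    refine congrArg (_ ≫ ·) (congrArg (_ ≫ ·) ?_)
    have hQ : (hH A a).map (DerivedCategory.Q.map f) =
        (DerivedCategory.homologyFunctorFactors (ModuleCat.{u} A) a).hom.app S ≫
          HomologicalComplex.homologyMap f a ≫
            (DerivedCategory.homologyFunctorFactors (ModuleCat.{u} A) a).inv.app K := by
      refine ((cancel_mono (((DerivedCategory.homologyFunctorFactors (ModuleCat.{u} A) a).app K).hom)).1 ?_)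
      refine this.trans ?_
      simp only [Category.assoc]
      erw [Iso.inv_hom_id_app, Category.comp_id]
    rw [hQ]
    exact (Category.assoc _ _ _).trans (congrArg (_ ≫ ·) (Category.assoc _ _ _))
  rw [key]
  change eK.hom.hom ((K.homologyπ a).hom ((1 : A) • z)) = x
  rw [one_smul, hz]
  exact eK.toLinearEquiv.apply_symm_apply x

theorem exists_single_shift (P : ModuleCat.{u} A) (a : ℤ) :
    Nonempty ((sg P a)⟦a⟧ ≅ (DerivedCategory.singleFunctor (ModuleCat.{u} A) 0).obj P) :=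
  ⟨shiftSg P a a ≪≫ eqToIso (by simp)⟩

theorem map_shift_eq_zero {X Y : Dual.D A} (f : X ⟶ Y) (a : ℤ) (hf : (hH A a).map f = 0) :
    (hH A 0).map (f⟦a⟧') = 0 := by
  let e := (hH A 0).shiftIso a 0 a (add_zero a)
  have h := e.hom.naturality f
  have h' := (Iso.eq_comp_inv (α := e.app Y)).2 h
  refine h'.trans ?_
  exact (congrArg (· ≫ (e.app Y).inv) ((congrArg (_ ≫ ·) hf).trans comp_zero)).trans zero_comp

/-- A map out of `A[-a]` is determined by its class. -/
theorem evA_injective {X : Dual.D A} (a : ℤ) {f : sg (ModuleCat.of A A) a ⟶ X}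
    (h : (evA _ a f).hom (1 : A) = 0) : f = 0 := by
  have h0 : evA _ a f = 0 := ModuleCat.hom_ext (LinearMap.ext_ring h)
  have hf : (hH A a).map f = 0 := by
    rw [← cancel_epi (sgH (ModuleCat.of A A) a).inv, comp_zero]
    exact h0
  haveI : Projective (ModuleCat.of A A) :=
    (IsProjective.iff_projective (R := A) (P := A)).mp inferInstance
  obtain ⟨e⟩ := exists_single_shift (ModuleCat.of A A) a
  refine (shiftFunctor (Dual.D A) a).map_injective ?_
  rw [Functor.map_zero, ← cancel_epi e.inv, comp_zero]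
  refine (DCompLib.bijective_evH0.{u} (ModuleCat.of A A) (X⟦a⟧)).1 ?_
  have h2 := map_shift_eq_zero f a hf
  simp only [DCompLib.evH0, Functor.map_comp, h2, comp_zero, Functor.map_zero]

/-- A field has only scalars: maps `A[-a] ⟶ k[-c]`. -/
theorem hom_eq_zero_of_ne (m : Ideal A) {a c : ℤ} (h : a ≠ c) (f : sg (ModuleCat.of A A) a ⟶ sg (kM m) c) :
    f = 0 :=
  evA_injective a (@Subsingleton.elim _ (ModuleCat.subsingleton_of_isZero (isZero_sg h)) _ _)

theorem isNoetherian_middle {B' C' D' : ModuleCat.{u} A} {f : B' ⟶ C'} {g : C' ⟶ D'} {w : f ≫ g = 0}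
    (h : (ShortComplex.mk f g w).Exact) [IsNoetherian A B'] [IsNoetherian A D'] : IsNoetherian A C' :=
  isNoetherian_of_range_eq_ker f.hom g.hom ((ShortComplex.moduleCat_exact_iff_range_eq_ker _).1 h)

section Local

variable [IsNoetherianRing A] (m : Ideal A) [m.IsMaximal]

/-- The local structure of an object whose maps to `k` form one line. -/
theorem exists_local_generator {L : Dual.D A} (hfin : ∀ i, Module.Finite A ((hH A i).obj L))
    (hb : ∃ a b : ℤ, ∀ i, (i < a ∨ b < i) → IsZero ((hH A i).obj L)) (c₀ : ℤ)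
    (h0 : ∀ c, c ≠ c₀ → Subsingleton (L ⟶ sg (kM m) c))
    (h1 : Nontrivial (L ⟶ sg (kM m) c₀))
    (h2 : ∀ x y : L ⟶ sg (kM m) c₀, x ≠ 0 → ∃ r : A, y = r • x) :
    ∃ s ∉ m, ∃ v : (hH A c₀).obj L, (∀ i, i ≠ c₀ → ∀ x : (hH A i).obj L, s • x = 0) ∧
      (∀ x, ∃ r : A, s • x = r • v) ∧ (∀ r : A, r • v = 0 → s * r = 0) := by
  classical
  obtain ⟨a₀, b₀, hab⟩ := hb
  have hex : ∃ i, ¬ Killed m L i := by
    by_contra! hall
    obtain ⟨s, hs, hsx⟩ := exists_common m (Finset.Icc a₀ b₀) fun i _ => hall i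
    have hn : Nilp s L := nilp_of_killed ⟨a₀, b₀, hab⟩ s fun i x => by
      by_cases hi : i ∈ Finset.Icc a₀ b₀
      · exact hsx i hi x
      · haveI := ModuleCat.subsingleton_of_isZero (hab i (by simp at hi; omega))
        exact Subsingleton.elim _ _
    exact not_subsingleton _ (subsingleton_of_forall_eq (0 : L ⟶ sg (kM m) c₀) (hom_eq_zero m hs hn _))
  obtain ⟨a, ha, hmax⟩ := Int.exists_greatest_of_bdd (P := fun i => ¬ Killed m L i)
    ⟨b₀, fun i hi => by
      by_contra hlt
      exact hi (killed_of_isZero m (hab i (Or.inr (by omega))))⟩ hex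
  haveI := hfin a
  obtain ⟨v, hv⟩ : ∃ v : (hH A a).obj L, v ∉ m • (⊤ : Submodule A ((hH A a).obj L)) := by
    by_contra! hall
    obtain ⟨r, hr1, hr0⟩ := Submodule.exists_sub_one_mem_and_smul_eq_zero_of_fg_of_le_smul m ⊤
      Module.Finite.fg_top (fun x _ => hall x)
    exact ha ⟨r, fun hm => Ideal.IsPrime.ne_top' ((Ideal.eq_top_iff_one m).2
      (by simpa using m.sub_mem hm hr1)), fun x => hr0 x Submodule.mem_top⟩
  obtain ⟨φ, hφ⟩ := exists_functional m hv
  obtain ⟨g, hg⟩ := exists_hom_of_top m ⟨a₀, b₀, hab⟩ a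
    (fun i hi => by
      by_contra hk
      exact absurd (hmax i hk) (by omega)) (ModuleCat.ofHom φ)
  obtain ⟨f, hf⟩ := exists_evA_eq a v
  have hgv : ((hH A a).map g).hom v ≠ 0 := fun h => hφ (hg v h)
  have hg0 : g ≠ 0 := fun h => hgv (by rw [h, Functor.map_zero]; rfl)
  obtain rfl : a = c₀ := by
    by_contra hne
    exact hg0 ((h0 a hne).elim _ _)
  have hval : ∀ z : L ⟶ sg (kM m) a,
      (evA _ a (f ≫ z)).hom (1 : A) = ((hH A a).map z).hom v := fun z => by
    rw [evA_comp, ← hf]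
    rfl
  have hfg : f ≫ g ≠ 0 := fun h => hgv (by
    rw [← hval, h]
    simp [evA])
  have hinj : ∀ z : L ⟶ sg (kM m) a, f ≫ z = 0 → z = 0 := fun z hz => by
    obtain ⟨r, rfl⟩ := h2 g z hg0
    rw [Linear.comp_smul] at hz
    by_cases hr : r ∈ m
    · rw [← Category.comp_id g, ← Linear.comp_smul, smul_id_sg m hr, comp_zero]
    · obtain ⟨r', hr'⟩ := exists_inv m hr
      exfalso
      refine hfg ?_
      have := smul_id_sg m hr' a
      rw [sub_smul, one_smul, sub_eq_zero] at this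
      rw [← Category.comp_id (f ≫ g), ← this, Linear.comp_smul, Category.comp_id, mul_smul, hz, smul_zero]
  have hsurj : ∀ y : sg (ModuleCat.of A A) a ⟶ sg (kM m) a, ∃ z, y = f ≫ z := fun y => by
    let E := (sgH (kM m) a).toLinearEquiv
    obtain ⟨c₁, hc₁⟩ := Ideal.Quotient.mk_surjective (show A ⧸ m from E (((hH A a).map g).hom v))
    obtain ⟨c₂, hc₂⟩ := Ideal.Quotient.mk_surjective (show A ⧸ m from E ((evA _ a y).hom (1 : A)))
    have hc₁m : c₁ ∉ m := fun h => hgv (E.map_eq_zero_iff.1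
      (hc₁.symm.trans (Ideal.Quotient.eq_zero_iff_mem.2 h)))
    obtain ⟨r', hr'⟩ := exists_inv m hc₁m
    refine ⟨(c₂ * r') • g, sub_eq_zero.1 (evA_injective a (E.map_eq_zero_iff.1 ?_))⟩
    have e1 : (evA (ModuleCat.of A A) a (y - f ≫ ((c₂ * r') • g))).hom (1 : A) =
        (evA _ a y).hom (1 : A) - (c₂ * r') • ((hH A a).map g).hom v := by
      simp only [evA, Functor.map_sub, Preadditive.comp_sub, ModuleCat.hom_sub, LinearMap.sub_apply]
      congr 1
      refine (hval ((c₂ * r') • g)).trans ?_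
      exact smul_apply _ g a v
    rw [e1, map_sub, map_smul, sub_eq_zero]
    refine hc₂.symm.trans ?_
    refine Eq.trans ?_ (congrArg ((c₂ * r') • ·) hc₁)
    change _ = Ideal.Quotient.mk m (c₂ * r' * c₁)
    rw [Ideal.Quotient.eq]
    rw [show c₂ - c₂ * r' * c₁ = -c₂ * (r' * c₁ - 1) by ring]
    exact m.mul_mem_left _ hr'
  obtain ⟨C, p, q, hT⟩ := Pretriangulated.distinguished_cocone_triangle f
  have hC : ∀ c, Subsingleton (C ⟶ sg (kM m) c) := fun c => by
    refine subsingleton_of_forall_eq 0 fun h => ?_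
    obtain ⟨w, hw⟩ : ∃ w, h = q ≫ w := by
      refine Triangle.yoneda_exact₃ _ hT h ?_
      by_cases hc : c = a
      · subst hc
        refine hinj _ ((Category.assoc _ _ _).symm.trans ?_)
        exact (congrArg (· ≫ h) (Pretriangulated.comp_distTriang_mor_zero₁₂ _ hT)).trans zero_comp
      · exact (h0 c hc).elim _ _
    let e : sg (kM m) c ≅ (sg (kM m) (c + 1))⟦(1 : ℤ)⟧ := eqToIso (by simp) ≪≫ (shiftSg (kM m) (c + 1) 1).symm
    obtain ⟨w', hw'⟩ := (shiftFunctor (Dual.D A) (1 : ℤ)).map_surjective (w ≫ e.hom)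
    obtain ⟨z, hz⟩ : ∃ z, w' = f ≫ z := by
      by_cases hc : c + 1 = a
      · subst hc
        exact hsurj w'
      · exact ⟨0, by rw [comp_zero]; exact hom_eq_zero_of_ne m (Ne.symm hc) w'⟩
    rw [hw, ← cancel_mono e.hom, Category.assoc, ← hw', hz, Functor.map_comp, zero_comp, ← Category.assoc]
    exact (congrArg (· ≫ _) (Pretriangulated.comp_distTriang_mor_zero₃₁ _ hT)).trans zero_comp
  let T := Triangle.mk f p q
  have hfinC : ∀ i, Module.Finite A ((hH A i).obj C) := fun i => by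
    haveI := hfin i
    haveI : IsNoetherian A ((hH A i).obj T.obj₂) :=
      inferInstanceAs (IsNoetherian A ((hH A i).obj L))
    haveI : IsNoetherian A ((hH A (i + 1)).obj T.obj₁) := by
      by_cases hi : i + 1 = a
      · rw [hi]
        exact isNoetherian_of_linearEquiv (sgH (ModuleCat.of A A) a).toLinearEquiv.symm
      · haveI := ModuleCat.subsingleton_of_isZero (isZero_sg (N := ModuleCat.of A A) hi)
        exact inferInstanceAs (IsNoetherian A ((hH A (i + 1)).obj (sg (ModuleCat.of A A) a)))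
    haveI : IsNoetherian A ((hH A i).obj C) :=
      isNoetherian_middle (DerivedCategory.HomologySequence.exact₃ T hT i (i + 1) rfl)
    infer_instance
  have hbC : ∃ a' b' : ℤ, ∀ i, (i < a' ∨ b' < i) → IsZero ((hH A i).obj C) := by
    refine ⟨min a₀ (a - 1), max b₀ a, fun i hi => ?_⟩
    exact (DerivedCategory.HomologySequence.exact₃ T hT i (i + 1) rfl).isZero_of_both_zeros
      ((hab i (by omega)).eq_of_src _ _) ((isZero_sg (by omega)).eq_of_tgt _ _)
  have hk := killed_of_subsingleton m hfinC hbC hC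
  obtain ⟨aC, bC, habC⟩ := hbC
  obtain ⟨s, hs, hsx⟩ := exists_common m (Finset.Icc (min a₀ a - 1) (max b₀ a + 1)) fun i _ => hk i
  have hsC : ∀ i, min a₀ a - 1 ≤ i → i ≤ max b₀ a + 1 → ∀ x : (hH A i).obj C, s • x = 0 :=
    fun i h1 h2 => hsx i (Finset.mem_Icc.2 ⟨h1, h2⟩)
  refine ⟨s, hs, v, fun i hi x => ?_, fun x => ?_, fun r hr => ?_⟩
  · by_cases hr' : i < a₀ ∨ b₀ < i
    · haveI := ModuleCat.subsingleton_of_isZero (hab i hr')
      exact Subsingleton.elim _ _
    · haveI : Mono ((hH A i).map T.mor₂) :=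
        (DerivedCategory.HomologySequence.exact₂ T hT i).mono_g ((isZero_sg hi).eq_of_src _ _)
      apply (ModuleCat.mono_iff_injective ((hH A i).map T.mor₂)).1 inferInstance
      refine (((hH A i).map T.mor₂).hom.map_smul s x).trans (Eq.trans ?_ ((hH A i).map T.mor₂).hom.map_zero.symm)
      exact hsC i (by omega) (by omega) _
  · have h0' : ((hH A a).map T.mor₂).hom (s • x) = 0 := by
      refine (((hH A a).map T.mor₂).hom.map_smul s x).trans ?_
      exact hsC a (by omega) (by omega) _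
    obtain ⟨y, hy⟩ := (ShortComplex.moduleCat_exact_iff _).1
      (DerivedCategory.HomologySequence.exact₂ T hT a) (s • x) h0'
    refine ⟨(sgH (ModuleCat.of A A) a).toLinearEquiv y, hy.symm.trans ?_⟩
    rw [← hf, ← map_smul, smul_eq_mul, mul_one]
    exact congrArg ((hH A a).map f).hom ((sgH (ModuleCat.of A A) a).toLinearEquiv.symm_apply_apply y).symm
  · have h0' : ((hH A a).map T.mor₁).hom ((sgH (ModuleCat.of A A) a).inv.hom r) = 0 := by
      refine Eq.trans ?_ hr
      rw [← hf, ← map_smul, smul_eq_mul, mul_one]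
      rfl
    obtain ⟨w, hw⟩ := (ShortComplex.moduleCat_exact_iff _).1
      (DerivedCategory.HomologySequence.exact₁ T hT (a - 1) a (by omega)) _ h0'
    change (DerivedCategory.HomologySequence.δ T (a - 1) a (by omega)).hom w = _ at hw
    apply (sgH (ModuleCat.of A A) a).toLinearEquiv.symm.injective
    rw [map_zero, ← smul_eq_mul, map_smul]
    refine (congrArg (s • ·) hw.symm).trans ?_
    refine ((DerivedCategory.HomologySequence.δ T (a - 1) a (by omega)).hom.map_smul s w).symm.trans ?_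
    exact (congrArg (DerivedCategory.HomologySequence.δ T (a - 1) a (by omega)).hom
      (hsC (a - 1) (by omega) (by omega) w)).trans (LinearMap.map_zero _)

end Local

section Point

variable (m : Ideal A) [m.IsMaximal]

theorem mem_smul_top_eq_zero {N : ModuleCat.{u} A} (hN : ∀ r ∈ m, ∀ x : N, r • x = 0) {x : N}
    (hx : x ∈ m • (⊤ : Submodule A N)) : x = 0 := by
  exact Submodule.smul_induction_on hx (fun r hr y _ => hN r hr y) fun y z hy hz => by rw [hy, hz, add_zero]

/-- A point object is a shift of the residue field. -/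
theorem exists_iso_sg {X : Dual.D A}
    (hb : ∃ a b : ℤ, ∀ i, (i < a ∨ b < i) → IsZero ((hH A i).obj X)) (hne : ¬ IsZero X)
    (hm : ∀ r ∈ m, r • 𝟙 X = 0) (hneg : ∀ j : ℤ, j < 0 → Subsingleton (X ⟶ X⟦j⟧))
    (hend : ∀ e : X ⟶ X, ∃ r : A, e = r • 𝟙 X) : ∃ c : ℤ, Nonempty (X ≅ sg (kM m) c) := by
  classical
  obtain ⟨a₀, b₀, hab⟩ := hb
  have hex : ∃ i, ¬ IsZero ((hH A i).obj X) := by
    by_contra! h
    exact hne (DRingLib.isZero_of_isZero_Hn h)
  obtain ⟨a, ha, hamax⟩ := Int.exists_greatest_of_bdd (P := fun i => ¬ IsZero ((hH A i).obj X))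
    ⟨b₀, fun i hi => by by_contra hlt; exact hi (hab i (Or.inr (by omega)))⟩ hex
  obtain ⟨b, hb, hbmin⟩ := Int.exists_least_of_bdd (P := fun i => ¬ IsZero ((hH A i).obj X))
    ⟨a₀, fun i hi => by by_contra hlt; exact hi (hab i (Or.inl (by omega)))⟩ hex
  haveI hle : DerivedCategory.IsLE X a := (DerivedCategory.isLE_iff X a).2 fun i hi => by
    by_contra h
    exact absurd (hamax i h) (by omega)
  haveI hge : DerivedCategory.IsGE X b := (DerivedCategory.isGE_iff X b).2 fun i hi => by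
    by_contra h
    exact absurd (hbmin i h) (by omega)
  let Ya := (t.truncGE a).obj X
  haveI : DerivedCategory.IsLE Ya a := inferInstanceAs (t.IsLE _ a)
  haveI : DerivedCategory.IsGE Ya a := t.isGE_truncGE_obj X a a (by omega)
  obtain ⟨Na, ⟨ea⟩⟩ := DerivedCategory.exists_iso_singleFunctor_obj_of_isGE_of_isLE Ya a
  haveI := DerLib.Ghost.isIso_homologyMap_truncGEπ X a a le_rfl
  let Yb := (t.truncLT (b + 1)).obj X
  haveI : DerivedCategory.IsGE Yb b := inferInstanceAs (t.IsGE _ b)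
  haveI : DerivedCategory.IsLE Yb b := t.isLE_truncLT_obj X (b + 1) b (by omega)
  obtain ⟨Nb, ⟨eb⟩⟩ := DerivedCategory.exists_iso_singleFunctor_obj_of_isGE_of_isLE Yb b
  haveI := DerLib.Ghost.isIso_homologyMap_truncLTι X (b + 1) b (by omega)
  let ua : (hH A a).obj X ≅ Na :=
    asIso ((hH A a).map ((t.truncGEπ a).app X)) ≪≫ (hH A a).mapIso ea ≪≫ sgH Na a
  let ub : (hH A b).obj X ≅ Nb :=
    (asIso ((hH A b).map ((t.truncLTι (b + 1)).app X))).symm ≪≫ (hH A b).mapIso eb ≪≫ sgH Nb b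
  have hkill : ∀ (i : ℤ), ∀ r ∈ m, ∀ x : (hH A i).obj X, r • x = 0 := fun i r hr x => by
    have := smul_apply r (𝟙 X) i x
    rw [hm r hr, Functor.map_zero, CategoryTheory.Functor.map_id] at this
    exact this.symm
  have hNa : ∀ r ∈ m, ∀ x : Na, r • x = 0 := fun r hr x => by
    obtain ⟨y, rfl⟩ := ua.toLinearEquiv.surjective x
    rw [← map_smul, hkill a r hr, map_zero]
  have hNb : ∀ r ∈ m, ∀ x : Nb, r • x = 0 := fun r hr x => by
    obtain ⟨y, rfl⟩ := ub.toLinearEquiv.surjective x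
    rw [← map_smul, hkill b r hr, map_zero]
  obtain ⟨na, hna⟩ : ∃ x : Na, x ≠ 0 := by
    by_contra! h
    haveI : Subsingleton Na := ⟨fun x y => (h x).trans (h y).symm⟩
    exact ha ((ModuleCat.isZero_of_subsingleton Na).of_iso ua)
  obtain ⟨nb, hnb⟩ : ∃ x : Nb, x ≠ 0 := by
    by_contra! h
    haveI : Subsingleton Nb := ⟨fun x y => (h x).trans (h y).symm⟩
    exact hb ((ModuleCat.isZero_of_subsingleton Nb).of_iso ub)
  obtain ⟨φ, hφ⟩ := exists_functional m (fun h => hna (mem_smul_top_eq_zero m hNa h))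
  let θ : (A ⧸ m) →ₗ[A] Nb := Submodule.liftQ m (LinearMap.toSpanSingleton A Nb nb)
    fun r hr => hNb r hr nb
  have hθ : ∀ c : A ⧸ m, θ c = 0 → c = 0 := fun c hc => by
    obtain ⟨r, rfl⟩ := Submodule.Quotient.mk_surjective _ c
    by_contra hr
    have hr' : r ∉ m := fun h => hr ((Submodule.Quotient.mk_eq_zero m).2 h)
    obtain ⟨r', hr''⟩ := exists_inv m hr'
    refine hnb ?_
    have h1 := hNb _ hr'' nb
    rw [sub_smul, one_smul, mul_smul, sub_eq_zero] at h1
    have h2 : r • nb = 0 := hc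
    rw [h2, smul_zero] at h1
    exact h1.symm
  let ψ : Na ⟶ Nb := ModuleCat.ofHom (θ.comp φ)
  have hψ : ψ.hom na ≠ 0 := fun h => hφ (hθ _ h)
  have hab' : a = b := by
    by_contra hne'
    have hlt : b < a := lt_of_le_of_ne (hamax b hb) (fun h => hne' h.symm)
    let e : sg Nb a ≅ (sg Nb b)⟦b - a⟧ := eqToIso (by simp) ≪≫ (shiftSg Nb b (b - a)).symm
    let g : X ⟶ X⟦b - a⟧ := ((t.truncGEπ a).app X ≫ ea.hom ≫ (DerivedCategory.singleFunctor _ a).map ψ) ≫
      e.hom ≫ (eb.inv ≫ (t.truncLTι (b + 1)).app X)⟦b - a⟧'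
    have hg := congrArg (hH A a).map ((hneg (b - a) (by omega)).elim g 0)
    rw [Functor.map_zero] at hg
    haveI : IsIso ((hH A a).map ((eb.inv ≫ (t.truncLTι (b + 1)).app X)⟦b - a⟧')) := by
      have h' : IsIso ((((hH A 0)).shift b).map (eb.inv ≫ (t.truncLTι (b + 1)).app X)) := by
        rw [DerivedCategory.shift_homologyFunctor (ModuleCat.{u} A), Functor.map_comp]
        infer_instance
      have h'' := (NatIso.isIso_map_iff ((hH A 0).shiftIso (b - a) a b (by omega))
        (eb.inv ≫ (t.truncLTι (b + 1)).app X)).2 h'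
      rw [Functor.comp_map, DerivedCategory.shift_homologyFunctor (ModuleCat.{u} A)] at h''
      exact h''
    simp only [g, Functor.map_comp, Category.assoc] at hg
    rw [← Category.assoc ((hH A a).map ea.hom), ← Category.assoc ((hH A a).map ((t.truncGEπ a).app X)),
      ← Category.assoc] at hg
    have hg1 : (hH A a).map ((t.truncGEπ a).app X) ≫ (hH A a).map ea.hom ≫
        (hH A a).map ((DerivedCategory.singleFunctor _ a).map ψ) = 0 := by
      rw [← cancel_mono ((hH A a).map e.hom ≫ (hH A a).map ((eb.inv ≫ (t.truncLTι (b + 1)).app X)⟦b - a⟧')),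
        zero_comp]
      simp only [Category.assoc] at hg ⊢
      rw [← hg]
      simp only [Functor.map_comp]
    have hg2 : ua.hom ≫ ψ = 0 := by
      simp only [ua, Iso.trans_hom, asIso_hom, Functor.mapIso_hom, Category.assoc, ← sgH_naturality]
      rw [reassoc_of% hg1, zero_comp]
    obtain ⟨y, hy⟩ := ua.toLinearEquiv.surjective na
    refine hψ ?_
    rw [← hy]
    exact congrArg (fun f => f.hom y) hg2
  subst hab'
  obtain ⟨N, ⟨eX⟩⟩ := DerivedCategory.exists_iso_singleFunctor_obj_of_isGE_of_isLE X a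
  let uN : (hH A a).obj X ≅ N := (hH A a).mapIso eX ≪≫ sgH N a
  have hN : ∀ r ∈ m, ∀ x : N, r • x = 0 := fun r hr x => by
    obtain ⟨y, rfl⟩ := uN.toLinearEquiv.surjective x
    rw [← map_smul, hkill a r hr, map_zero]
  obtain ⟨n, hn⟩ : ∃ x : N, x ≠ 0 := by
    by_contra! h
    haveI : Subsingleton N := ⟨fun x y => (h x).trans (h y).symm⟩
    exact ha ((ModuleCat.isZero_of_subsingleton N).of_iso uN)
  obtain ⟨φ', hφ'⟩ := exists_functional m (fun h => hn (mem_smul_top_eq_zero m hN h))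
  let ρ : (A ⧸ m) →ₗ[A] N := Submodule.liftQ m (LinearMap.toSpanSingleton A N n) fun r hr => hN r hr n
  have hscal : ∀ ω : N ⟶ N, ∃ r : A, ω = r • 𝟙 N := fun ω => by
    obtain ⟨r, hr⟩ := hend (eX.hom ≫ (DerivedCategory.singleFunctor _ a).map ω ≫ eX.inv)
    refine ⟨r, (DerivedCategory.singleFunctor _ a).map_injective ?_⟩
    rw [Functor.map_smul, CategoryTheory.Functor.map_id, ← cancel_epi eX.hom, ← cancel_mono eX.inv,
      Category.assoc, hr]
    simp
  obtain ⟨c₁, hc₁⟩ := Submodule.Quotient.mk_surjective _ (φ' n)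
  have hc₁m : c₁ ∉ m := fun h => hφ' (hc₁.symm.trans ((Submodule.Quotient.mk_eq_zero m).2 h))
  obtain ⟨c', hc'⟩ := exists_inv m hc₁m
  have hspan : ∀ x : N, ∃ r : A, x = r • n := fun x => by
    obtain ⟨r, hr⟩ := hscal (ModuleCat.ofHom (ρ.comp (c' • φ')))
    have e1 : ρ (c' • φ' n) = r • n := congrArg (fun f => f.hom n) hr
    have e1' : ρ (c' • φ' x) = r • x := congrArg (fun f => f.hom x) hr
    have e2 : ρ (c' • φ' n) = n := by
      rw [← hc₁, ← Submodule.Quotient.mk_smul]
      change (c' * c₁) • n = n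
      have := hN _ hc' n
      rwa [sub_smul, one_smul, sub_eq_zero] at this
    obtain ⟨d, hd⟩ := Submodule.Quotient.mk_surjective _ (c' • φ' x)
    rw [← hd] at e1'
    have hr1 : r ∉ m := fun h => hn (by rw [← e2, e1, hN r h n])
    obtain ⟨r', hr'⟩ := exists_inv m hr1
    refine ⟨r' * d, ?_⟩
    have e3 : r' • (r • x) = r' • (d • n) := congrArg (r' • ·) (e1'.symm.trans rfl)
    rw [← mul_smul, ← mul_smul] at e3
    have := hN _ hr' x
    rw [sub_smul, one_smul, sub_eq_zero] at this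
    rw [← this, e3]
  have hρ : Function.Bijective ρ := by
    refine ⟨(injective_iff_map_eq_zero _).2 fun c hc => ?_, fun x => ?_⟩
    · obtain ⟨r, rfl⟩ := Submodule.Quotient.mk_surjective _ c
      refine (Submodule.Quotient.mk_eq_zero m).2 (by_contra fun hr => hn ?_)
      obtain ⟨r', hr'⟩ := exists_inv m hr
      have h1 := hN _ hr' n
      rw [sub_smul, one_smul, mul_smul, sub_eq_zero] at h1
      have h2 : r • n = 0 := hc
      rw [h2, smul_zero] at h1
      exact h1.symm
    · obtain ⟨r, rfl⟩ := hspan x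
      exact ⟨Submodule.Quotient.mk r, rfl⟩
  exact ⟨a, ⟨eX ≪≫ (DerivedCategory.singleFunctor _ a).mapIso (LinearEquiv.ofBijective ρ hρ).toModuleIso.symm⟩⟩

end Point

end DTenLib.Point
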