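import Groth.Prelude.Def_DTen
import Groth.Prelude.Def_DerCA
import Groth.Prelude.Def_ega3
import Groth.Agent.DerLib.ProHomology
import Groth.Agent.KFlatLib.Generic
import Groth.Agent.KFlatLib.Cone

/-!
# The inverse system of Koszul complexes of powers
-/

set_option autoImplicit false

universe w v u

open CategoryTheory CategoryTheory.Limits MonoidalCategory HomologicalComplex
open Opposite (op unop)
attribute [local instance] HasDerivedCategory.standard

namespace DTenLib

namespace ProKoszul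

section Pro

variable {C : Type*} [Category C] {X Y Z : ARSys.PS C}

theorem isProIso_of_isIso (a : X ⟶ Y) [∀ n, IsIso (a.app n)] : DerCA.IsProIso a := fun n =>
  ⟨n, le_rfl, inv (a.app (op n)), by simp [Groth.Agent.DerLib.ProConst.tr_refl],
    by simp [Groth.Agent.DerLib.ProConst.tr_refl]⟩

theorem isProIso_comp {a : X ⟶ Y} {b : Y ⟶ Z} (ha : DerCA.IsProIso a) (hb : DerCA.IsProIso b) :
    DerCA.IsProIso (a ≫ b) := by
  intro n
  obtain ⟨p, hp, α, hα, hα'⟩ := ha n
  obtain ⟨m, hm, β, hβ, hβ'⟩ := hb p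
  refine ⟨m, hp.trans hm, β ≫ α, ?_, ?_⟩
  · rw [NatTrans.comp_app, Category.assoc, ← Category.assoc (b.app _), hβ,
      ← Category.assoc, ← Groth.Agent.DerLib.ProConst.tr_app, Category.assoc, hα,
      Groth.Agent.DerLib.ProConst.tr_tr]
  · rw [NatTrans.comp_app, Category.assoc, ← Category.assoc α, hα',
      Groth.Agent.DerLib.ProConst.tr_app, ← Category.assoc, hβ',
      Groth.Agent.DerLib.ProConst.tr_tr]

theorem isProIso_of_comp {a : X ⟶ Y} {b : Y ⟶ Z} (ha : DerCA.IsProIso a) (hab : DerCA.IsProIso (a ≫ b)) :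
    DerCA.IsProIso b := by
  intro n
  obtain ⟨p, hp, β, hβ, hβ'⟩ := hab n
  obtain ⟨m, hm, γ, -, hγ⟩ := ha p
  refine ⟨m, hp.trans hm, ARSys.tr Z hm ≫ β ≫ a.app (op n), ?_, ?_⟩
  · rw [← Category.assoc, ← Groth.Agent.DerLib.ProConst.tr_app, ← hγ, Category.assoc, Category.assoc,
      ← Category.assoc (b.app (op p)), ← Category.assoc (a.app (op p)), ← Category.assoc (a.app (op p)),
      ← NatTrans.comp_app, hβ, Groth.Agent.DerLib.ProConst.tr_app, ← Category.assoc, hγ,
      Groth.Agent.DerLib.ProConst.tr_tr]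
  · rw [Category.assoc, Category.assoc, ← NatTrans.comp_app, hβ', Groth.Agent.DerLib.ProConst.tr_tr]

theorem isProIso_map {D : Type*} [Category D] (F : C ⥤ D) {a : X ⟶ Y} (ha : DerCA.IsProIso a) :
    DerCA.IsProIso (Functor.whiskerRight a F) := by
  intro n
  obtain ⟨m, hm, b, hb, hb'⟩ := ha n
  refine ⟨m, hm, F.map b, ?_, ?_⟩
  · exact (F.map_comp _ _).symm.trans (congrArg F.map hb)
  · exact (F.map_comp _ _).symm.trans (congrArg F.map hb')

end Pro

variable {A : Type u} [CommRing A]

open CochainComplex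

theorem coneMap_congr {K₁ L₁ K₂ L₂ : DRing.Cx A} (φ₁ : K₁ ⟶ L₁) (φ₂ : K₂ ⟶ L₂)
    {a a' : K₁ ⟶ K₂} {b b' : L₁ ⟶ L₂} (ha : a = a') (hb : b = b')
    (c : φ₁ ≫ b = a ≫ φ₂) (c' : φ₁ ≫ b' = a' ≫ φ₂) :
    mappingCone.map φ₁ φ₂ a b c = mappingCone.map φ₁ φ₂ a' b' c' := by
  subst ha hb; rfl

/-- The Koszul complex of the powers `f ^ (n + 1)`. -/
noncomputable def kObj (n : ℕ) : List A → DRing.Cx A
  | [] => 𝟙_ (DRing.Cx A)
  | f :: fs => mappingCone (f ^ (n + 1) • 𝟙 (kObj n fs))

/-- The transition maps. -/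
noncomputable def kmap {n m : ℕ} (h : n ≤ m) : ∀ fs : List A, kObj m fs ⟶ kObj n fs
  | [] => 𝟙 _
  | f :: fs => mappingCone.map _ _ (f ^ (m - n) • kmap h fs) (kmap h fs) (by
      rw [Linear.smul_comp, Category.id_comp, Linear.comp_smul, Category.comp_id, smul_smul, ← pow_add,
        show n + 1 + (m - n) = m + 1 by omega])

theorem kmap_self (n : ℕ) : ∀ fs : List A, kmap (le_refl n) fs = 𝟙 (kObj n fs)
  | [] => rfl
  | f :: fs => (coneMap_congr _ _ (by rw [Nat.sub_self, pow_zero, one_smul, kmap_self n fs])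
      (kmap_self n fs) _ (by rw [Category.id_comp, Category.comp_id])).trans (mappingCone.map_id _)

theorem kmap_comp {l n m : ℕ} (h : l ≤ n) (h' : n ≤ m) :
    ∀ fs : List A, kmap (h.trans h') fs = kmap h' fs ≫ kmap h fs
  | [] => (Category.comp_id _).symm
  | f :: fs => by
      refine (coneMap_congr _ _ (a' := (f ^ (m - n) • kmap h' fs) ≫ (f ^ (n - l) • kmap h fs))
        (b' := kmap h' fs ≫ kmap h fs) ?_ (kmap_comp h h' fs) _ ?_).trans
        (mappingCone.map_comp _ _ _ _ _ _ _ _ _)
      · rw [Linear.smul_comp, Linear.comp_smul, smul_smul, ← pow_add, ← kmap_comp h h' fs,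
          show m - n + (n - l) = m - l by omega]
      · simp only [Linear.smul_comp, Linear.comp_smul, Category.id_comp, Category.comp_id, smul_smul, ← pow_add]
        congr 2
        omega

/-- The inverse system. -/
noncomputable def kSys (fs : List A) : ARSys.PS (DRing.Cx A) where
  obj n := kObj n.unop fs
  map {p q} g := kmap (leOfHom g.unop) fs
  map_id p := kmap_self _ fs
  map_comp {p q r} g g' := kmap_comp (leOfHom g'.unop) (leOfHom g.unop) fs

/-- The bottom inclusion. -/
noncomputable def kincl (n : ℕ) : ∀ fs : List A, 𝟙_ (DRing.Cx A) ⟶ kObj n fs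
  | [] => 𝟙 _
  | _ :: fs => kincl n fs ≫ mappingCone.inr _

theorem kincl_kmap {n m : ℕ} (h : n ≤ m) : ∀ fs : List A, kincl m fs ≫ kmap h fs = kincl n fs
  | [] => Category.id_comp _
  | f :: fs => by
      change (kincl m fs ≫ mappingCone.inr _) ≫ mappingCone.map _ _ _ _ _ = kincl n fs ≫ mappingCone.inr _
      rw [Category.assoc, ← kincl_kmap h fs, Category.assoc]
      congr 1
      exact mappingCone.inr_desc _ _ _ _

theorem isKFlat_kObj (n : ℕ) : ∀ fs : List A, DRing.IsKFlat A (kObj n fs)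
  | [] => KFlatLib.isKFlat_of_bounded_flat _ 0
      (fun i hi => isZero_single_obj_X (ComplexShape.up ℤ) 0 _ i (by omega)) (fun i => by
        change Module.Flat A (((HomologicalComplex.single (ModuleCat.{u} A) (ComplexShape.up ℤ) 0).obj
          (𝟙_ (ModuleCat.{u} A))).X i)
        by_cases hi : i = 0
        · subst hi
          exact Module.Flat.of_linearEquiv
            (singleObjXSelf (ComplexShape.up ℤ) 0 (𝟙_ (ModuleCat.{u} A))).toLinearEquiv
        · haveI := ModuleCat.subsingleton_of_isZero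
            (isZero_single_obj_X (ComplexShape.up ℤ) 0 (𝟙_ (ModuleCat.{u} A)) i hi)
          infer_instance)
  | _ :: fs => KFlatLib.isKFlat_mappingCone (isKFlat_kObj n fs) (isKFlat_kObj n fs) _

variable (I : Ideal A)

/-- The system `A/I^(n+1)` in degree zero. -/
noncomputable abbrev qSys : ARSys.PS (DRing.Cx A) :=
  CohIII.adicSystem I (ModuleCat.of A A) ⋙ HomologicalComplex.single (ModuleCat.{u} A) (ComplexShape.up ℤ) 0

/-- The projection. -/
noncomputable abbrev qmap (n : ℕ) :
    ModuleCat.of A A ⟶ (CohIII.adicSystem I (ModuleCat.of A A)).obj (op n) :=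
  ModuleCat.ofHom (Submodule.mkQ (I ^ (n + 1) • (⊤ : Submodule A (ModuleCat.of A A))))

theorem qmap_tr {n m : ℕ} (h : n ≤ m) :
    qmap I m ≫ ARSys.tr (CohIII.adicSystem I (ModuleCat.of A A)) h = qmap I n := by
  induction m, h using Nat.le_induction with
  | base => rw [Groth.Agent.DerLib.ProConst.tr_refl, Category.comp_id]
  | succ m h ih =>
    rw [← Groth.Agent.DerLib.ProConst.tr_tr _ h (Nat.le_succ m), ← Category.assoc]
    have : qmap I (m + 1) ≫ ARSys.tr (CohIII.adicSystem I (ModuleCat.of A A)) (Nat.le_succ m) = qmap I m := by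
      refine (congrArg (_ ≫ ·) (Functor.ofOpSequence_map_homOfLE_succ _ m)).trans ?_
      rfl
    rw [this, ih]

theorem smul_qSys (n : ℕ) {r : A} (hr : r ∈ I ^ (n + 1)) :
    r • 𝟙 ((qSys I).obj (op n)) = 0 := by
  refine from_single_hom_ext ?_
  have h0 : r • 𝟙 ((CohIII.adicSystem I (ModuleCat.of A A)).obj (op n)) = 0 := by
    ext x
    obtain ⟨y, rfl⟩ := Submodule.mkQ_surjective (I ^ (n + 1) • (⊤ : Submodule A A)) x
    change r • (I ^ (n + 1) • (⊤ : Submodule A A)).mkQ y = 0
    rw [← map_smul, Submodule.mkQ_apply, Submodule.Quotient.mk_eq_zero]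
    exact Submodule.smul_mem_smul hr Submodule.mem_top
  change r • 𝟙 (((qSys I).obj (op n)).X 0) = 0
  rw [← cancel_epi (singleObjXSelf (ComplexShape.up ℤ) 0 _).inv,
    ← cancel_mono (singleObjXSelf (ComplexShape.up ℤ) 0 _).hom]
  simp only [comp_zero, zero_comp, Linear.comp_smul, Linear.smul_comp, Category.comp_id, Iso.inv_hom_id]
  exact h0

/-- The augmentation to `A/I^(n+1)`. -/
noncomputable def kaug (n : ℕ) :
    ∀ fs : List A, (∀ f ∈ fs, f ∈ I) → (kObj n fs ⟶ (qSys I).obj (op n))
  | [], _ => (HomologicalComplex.single (ModuleCat.{u} A) (ComplexShape.up ℤ) 0).map (qmap I n)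
  | f :: fs, h => mappingCone.desc _ 0 (kaug n fs fun g hg => h g (List.mem_cons_of_mem f hg)) (by
      rw [HomComplex.δ_zero, Linear.smul_comp, Category.id_comp,
        ← Category.comp_id (kaug n fs fun g hg => h g (List.mem_cons_of_mem f hg)), ← Linear.comp_smul,
        smul_qSys I n (Ideal.pow_mem_pow (h f List.mem_cons_self) _), comp_zero]
      exact (HomComplex.Cochain.ofHom_zero _ _).symm)

theorem kmap_kaug {n m : ℕ} (hnm : n ≤ m) : ∀ (fs : List A) (h : ∀ f ∈ fs, f ∈ I),
    kmap hnm fs ≫ kaug I n fs h = kaug I m fs h ≫ ARSys.tr (qSys I) hnm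
  | [], h => by
      refine (Category.id_comp _).trans ?_
      change _ = (HomologicalComplex.single (ModuleCat.{u} A) (ComplexShape.up ℤ) 0).map (qmap I m) ≫
        (HomologicalComplex.single (ModuleCat.{u} A) (ComplexShape.up ℤ) 0).map
          (ARSys.tr (CohIII.adicSystem I (ModuleCat.of A A)) hnm)
      rw [← Functor.map_comp, qmap_tr]
      rfl
  | f :: fs, h => by
      have ih := kmap_kaug hnm fs fun g hg => h g (List.mem_cons_of_mem f hg)
      ext p : 1
      refine mappingCone.ext_from _ (p + 1) p rfl ?_ ?_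
      · simp only [kmap, kaug, mappingCone.map, comp_f]
        erw [mappingCone.inl_v_desc_f_assoc, mappingCone.inl_v_desc_f_assoc]
        simp only [HomComplex.Cochain.zero_v, zero_comp]
        erw [HomComplex.Cochain.zero_cochain_comp_v]
        rw [Category.assoc]
        erw [mappingCone.inl_v_desc_f]
        simp
      · simp only [kmap, kaug, mappingCone.map, comp_f]
        erw [mappingCone.inr_f_desc_f_assoc, mappingCone.inr_f_desc_f_assoc]
        simp only [comp_f, Category.assoc]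
        refine ((Category.assoc _ _ _).trans (congrArg (_ ≫ ·) (mappingCone.inr_f_desc_f _ _ _ _ _))).trans ?_
        exact congr_hom ih p

/-- The augmentation as a map of systems. -/
noncomputable def kaugNat (fs : List A) (h : ∀ f ∈ fs, f ∈ I) : kSys fs ⟶ qSys I where
  app n := kaug I n.unop fs h
  naturality p q g := kmap_kaug I (leOfHom g.unop) fs h

theorem kincl_kaug (n : ℕ) : ∀ (fs : List A) (h : ∀ f ∈ fs, f ∈ I),
    kincl n fs ≫ kaug I n fs h =
      (HomologicalComplex.single (ModuleCat.{u} A) (ComplexShape.up ℤ) 0).map (qmap I n)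
  | [], _ => Category.id_comp _
  | f :: fs, h => by
      change (kincl n fs ≫ mappingCone.inr _) ≫ mappingCone.desc _ _ _ _ = _
      rw [Category.assoc, mappingCone.inr_desc]
      exact kincl_kaug n fs _

/-- `r` is null-homotopic on the cone of multiplication by `r`. -/
noncomputable def coneSmulHomotopy (r : A) (X : DRing.Cx A) :
    Homotopy (r • 𝟙 (mappingCone (r • 𝟙 X))) 0 :=
  (HomComplex.Cochain.equivHomotopy _ _).symm
    ⟨(mappingCone.snd (r • 𝟙 X)).comp (mappingCone.inl (r • 𝟙 X)) (zero_add (-1)), by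
      rw [HomComplex.δ_comp _ _ (zero_add (-1)) 1 0 0 (neg_add_cancel 1) (zero_add 1) (neg_add_cancel 1),
        mappingCone.δ_inl, mappingCone.δ_snd]
      ext p : 1
      simp [HomComplex.Cochain.comp_v _ _ (add_neg_cancel 1) p (p + 1) p, ← smul_add]
      rw [add_comm, mappingCone.id_X _ p (p + 1) rfl]⟩

end ProKoszul

end DTenLib
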