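import Groth.Agent.DTenLib.Val
import Groth.Prelude.Def_DTen3
import Mathlib.Algebra.Homology.DerivedCategory.ShortExact

/-!
# Exactness of the derived tensor product on distinguished triangles, five lemma by Yoneda
-/

set_option autoImplicit false

universe w v u

open CategoryTheory CategoryTheory.Limits MonoidalCategory HomologicalComplex Pretriangulated

namespace DTenLib

section Five

variable {C : Type w} [Category.{v} C] [Preadditive C]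

/-- Exactness of a composable pair after `Hom(X, -)` for every `X`. -/
def Ex {a b c : C} (f : a ⟶ b) (g : b ⟶ c) : Prop :=
  f ≫ g = 0 ∧ ∀ (X : C) (y : X ⟶ b), y ≫ g = 0 → ∃ x : X ⟶ a, x ≫ f = y

/-- Five lemma for `Ex`. -/
theorem isIso_of_five {a₁ a₂ a₃ a₄ a₅ b₁ b₂ b₃ b₄ b₅ : C}
    {α₁ : a₁ ⟶ a₂} {α₂ : a₂ ⟶ a₃} {α₃ : a₃ ⟶ a₄} {α₄ : a₄ ⟶ a₅}
    {β₁ : b₁ ⟶ b₂} {β₂ : b₂ ⟶ b₃} {β₃ : b₃ ⟶ b₄} {β₄ : b₄ ⟶ b₅}
    {η₁ : a₁ ⟶ b₁} {η₂ : a₂ ⟶ b₂} {η₃ : a₃ ⟶ b₃} {η₄ : a₄ ⟶ b₄} {η₅ : a₅ ⟶ b₅}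
    (ha₂ : Ex α₁ α₂) (ha₃ : Ex α₂ α₃) (ha₄ : Ex α₃ α₄)
    (hb₂ : Ex β₁ β₂) (hb₃ : Ex β₂ β₃) (hb₄ : Ex β₃ β₄)
    (s₁ : α₁ ≫ η₂ = η₁ ≫ β₁) (s₂ : α₂ ≫ η₃ = η₂ ≫ β₂) (s₃ : α₃ ≫ η₄ = η₃ ≫ β₃)
    (s₄ : α₄ ≫ η₅ = η₄ ≫ β₄) [IsIso η₁] [IsIso η₂] [IsIso η₄] [IsIso η₅] : IsIso η₃ := by
  have inj : ∀ (X : C) (f : X ⟶ a₃), f ≫ η₃ = 0 → f = 0 := by
    intro X f hf
    have h1 : f ≫ α₃ = 0 := by
      rw [← cancel_mono η₄, Category.assoc, s₃, ← Category.assoc, hf, zero_comp, zero_comp]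
    obtain ⟨g, rfl⟩ := ha₃.2 X f h1
    have h2 : (g ≫ η₂) ≫ β₂ = 0 := by rw [Category.assoc, ← s₂, ← Category.assoc]; exact hf
    obtain ⟨h, hh⟩ := hb₂.2 X _ h2
    have h3 : g = (h ≫ inv η₁) ≫ α₁ := by
      rw [← cancel_mono η₂, ← hh]
      simp [s₁]
    rw [h3, Category.assoc, ha₂.1, comp_zero]
  have surj : ∀ (X : C) (y : X ⟶ b₃), ∃ x : X ⟶ a₃, x ≫ η₃ = y := by
    intro X y
    have h1 : (y ≫ β₃ ≫ inv η₄) ≫ α₄ = 0 := by
      rw [← cancel_mono η₅]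
      simp [s₄, hb₄.1]
    obtain ⟨w, hw⟩ := ha₄.2 X _ h1
    have h2 : (y - w ≫ η₃) ≫ β₃ = 0 := by
      rw [Preadditive.sub_comp, Category.assoc, ← s₃, reassoc_of% hw, IsIso.inv_hom_id,
        Category.comp_id, sub_self]
    obtain ⟨k, hk⟩ := hb₃.2 X _ h2
    refine ⟨w + k ≫ inv η₂ ≫ α₂, ?_⟩
    simp only [Preadditive.add_comp, Category.assoc, s₂, IsIso.inv_hom_id_assoc, hk]
    abel
  obtain ⟨g, hg⟩ := surj b₃ (𝟙 b₃)
  refine ⟨g, ?_, hg⟩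
  have h : (η₃ ≫ g - 𝟙 a₃) ≫ η₃ = 0 := by
    rw [Preadditive.sub_comp, Category.assoc, hg, Category.comp_id, Category.id_comp, sub_self]
  exact sub_eq_zero.1 (inj _ _ h)

theorem Ex.of_iso {a b c a' b' c' : C} {f : a ⟶ b} {g : b ⟶ c} {f' : a' ⟶ b'} {g' : b' ⟶ c'}
    (e₁ : a ≅ a') (e₂ : b ≅ b') (e₃ : c ≅ c') (w₁ : e₁.hom ≫ f' = f ≫ e₂.hom)
    (w₂ : e₂.hom ≫ g' = g ≫ e₃.hom) (h : Ex f g) : Ex f' g' := by
  refine ⟨?_, fun X y hy => ?_⟩
  · rw [← cancel_epi e₁.hom, reassoc_of% w₁, w₂, reassoc_of% h.1, zero_comp, comp_zero]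
  · obtain ⟨x, hx⟩ := h.2 X (y ≫ e₂.inv) (by
      rw [← cancel_mono e₃.hom, Category.assoc, Category.assoc, ← w₂, e₂.inv_hom_id_assoc, hy,
        zero_comp])
    refine ⟨x ≫ e₁.hom, ?_⟩
    rw [Category.assoc, w₁, reassoc_of% hx, e₂.inv_hom_id, Category.comp_id]

end Five

section Covariant

variable {C : Type w} [Category.{v} C] [Preadditive C] [HasZeroObject C] [HasShift C ℤ]
  [∀ n : ℤ, (shiftFunctor C n).Additive] [Pretriangulated C]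

/-- A functor sends distinguished triangles to exact pairs. -/
def HomExact (F : C ⥤ C) : Prop :=
  ∀ T : Triangle C, T ∈ (distTriang C) → Ex (F.map T.mor₁) (F.map T.mor₂)

/-- A contravariant functor sends distinguished triangles to exact pairs. -/
def HomExactOp (F : Cᵒᵖ ⥤ C) : Prop :=
  ∀ T : Triangle C, T ∈ (distTriang C) → Ex (F.map T.mor₂.op) (F.map T.mor₁.op)

theorem homExact_id : HomExact (𝟭 C) := fun T hT =>
  ⟨comp_distTriang_mor_zero₁₂ T hT, fun X y hy => by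
    obtain ⟨x, hx⟩ := Triangle.coyoneda_exact₂ T hT y hy
    exact ⟨x, hx.symm⟩⟩

theorem isIso_app₂ {F G : C ⥤ C} (hF : HomExact F) (hG : HomExact G) (τ : F ⟶ G) (T : Triangle C)
    (hT : T ∈ distTriang C) [IsIso (τ.app T.obj₁)] [IsIso (τ.app T.obj₃)]
    [IsIso (τ.app (T.obj₃⟦(-1 : ℤ)⟧))] [IsIso (τ.app (T.obj₁⟦(1 : ℤ)⟧))] :
    IsIso (τ.app T.obj₂) := by
  haveI : IsIso (τ.app T.invRotate.obj₁) := ‹IsIso (τ.app (T.obj₃⟦(-1 : ℤ)⟧))›
  haveI : IsIso (τ.app T.rotate.obj₃) := ‹IsIso (τ.app (T.obj₁⟦(1 : ℤ)⟧))›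
  exact @isIso_of_five C _ _ _ _ _ _ _ _ _ _ _ _ (F.map T.invRotate.mor₁) (F.map T.mor₁) (F.map T.mor₂)
    (F.map T.rotate.mor₂) (G.map T.invRotate.mor₁) (G.map T.mor₁)
    (G.map T.mor₂) (G.map T.rotate.mor₂)
    (τ.app T.invRotate.obj₁) (τ.app T.obj₁) (τ.app T.obj₂) (τ.app T.obj₃)
    (τ.app T.rotate.obj₃)
    (hF _ (inv_rot_of_distTriang _ hT)) (hF _ hT) (hF _ (rot_of_distTriang _ hT))
    (hG _ (inv_rot_of_distTriang _ hT)) (hG _ hT) (hG _ (rot_of_distTriang _ hT))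
    (τ.naturality _) (τ.naturality _) (τ.naturality _) (τ.naturality _) ‹_› ‹_› ‹_› ‹_›

theorem isIso_app₂_op {F G : Cᵒᵖ ⥤ C} (hF : HomExactOp F) (hG : HomExactOp G) (τ : F ⟶ G)
    (T : Triangle C) (hT : T ∈ distTriang C) [IsIso (τ.app (Opposite.op T.obj₁))]
    [IsIso (τ.app (Opposite.op T.obj₃))] [IsIso (τ.app (Opposite.op (T.obj₃⟦(-1 : ℤ)⟧)))]
    [IsIso (τ.app (Opposite.op (T.obj₁⟦(1 : ℤ)⟧)))] :
    IsIso (τ.app (Opposite.op T.obj₂)) := by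
  haveI : IsIso (τ.app (Opposite.op T.invRotate.obj₁)) :=
    ‹IsIso (τ.app (Opposite.op (T.obj₃⟦(-1 : ℤ)⟧)))›
  haveI : IsIso (τ.app (Opposite.op T.rotate.obj₃)) :=
    ‹IsIso (τ.app (Opposite.op (T.obj₁⟦(1 : ℤ)⟧)))›
  exact @isIso_of_five C _ _ _ _ _ _ _ _ _ _ _ _ (F.map T.rotate.mor₂.op) (F.map T.mor₂.op) (F.map T.mor₁.op)
    (F.map T.invRotate.mor₁.op) (G.map T.rotate.mor₂.op) (G.map T.mor₂.op)
    (G.map T.mor₁.op) (G.map T.invRotate.mor₁.op)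
    (τ.app (Opposite.op T.rotate.obj₃)) (τ.app (Opposite.op T.obj₃))
    (τ.app (Opposite.op T.obj₂)) (τ.app (Opposite.op T.obj₁))
    (τ.app (Opposite.op T.invRotate.obj₁))
    (hF _ (rot_of_distTriang _ hT)) (hF _ hT) (hF _ (inv_rot_of_distTriang _ hT))
    (hG _ (rot_of_distTriang _ hT)) (hG _ hT) (hG _ (inv_rot_of_distTriang _ hT))
    (τ.naturality _) (τ.naturality _) (τ.naturality _) (τ.naturality _) ‹_› ‹_› ‹_› ‹_›

/-- A pair isomorphic to the first two maps of a distinguished triangle. -/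
def IsTri {a b c : C} (f : a ⟶ b) (g : b ⟶ c) : Prop :=
  ∃ T : Triangle C, T ∈ (distTriang C) ∧ ∃ (e₁ : T.obj₁ ≅ a) (e₂ : T.obj₂ ≅ b) (e₃ : T.obj₃ ≅ c),
    e₁.hom ≫ f = T.mor₁ ≫ e₂.hom ∧ e₂.hom ≫ g = T.mor₂ ≫ e₃.hom

theorem IsTri.of_dist (T : Triangle C) (hT : T ∈ distTriang C) : IsTri T.mor₁ T.mor₂ :=
  ⟨T, hT, Iso.refl _, Iso.refl _, Iso.refl _, (Category.id_comp _).trans (Category.comp_id _).symm,
    (Category.id_comp _).trans (Category.comp_id _).symm⟩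

theorem IsTri.of_iso {a b c a' b' c' : C} {f : a ⟶ b} {g : b ⟶ c} {f' : a' ⟶ b'} {g' : b' ⟶ c'}
    (e₁ : a ≅ a') (e₂ : b ≅ b') (e₃ : c ≅ c') (w₁ : e₁.hom ≫ f' = f ≫ e₂.hom)
    (w₂ : e₂.hom ≫ g' = g ≫ e₃.hom) (h : IsTri f g) : IsTri f' g' := by
  obtain ⟨T, hT, d₁, d₂, d₃, v₁, v₂⟩ := h
  refine ⟨T, hT, d₁ ≪≫ e₁, d₂ ≪≫ e₂, d₃ ≪≫ e₃, ?_, ?_⟩
  · simp [w₁, reassoc_of% v₁]
  · simp [w₂, reassoc_of% v₂]

theorem HomExact.map_isTri {F : C ⥤ C} (hF : HomExact F) {a b c : C} {f : a ⟶ b} {g : b ⟶ c}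
    (h : IsTri f g) : Ex (F.map f) (F.map g) := by
  obtain ⟨T, hT, e₁, e₂, e₃, w₁, w₂⟩ := h
  exact (hF T hT).of_iso (F.mapIso e₁) (F.mapIso e₂) (F.mapIso e₃)
    (by simp [← Functor.map_comp, w₁]) (by simp [← Functor.map_comp, w₂])

theorem HomExactOp.map_isTri {F : Cᵒᵖ ⥤ C} (hF : HomExactOp F) {a b c : C} {f : a ⟶ b} {g : b ⟶ c}
    (h : IsTri f g) : Ex (F.map g.op) (F.map f.op) := by
  obtain ⟨T, hT, e₁, e₂, e₃, w₁, w₂⟩ := h
  refine (hF T hT).of_iso (F.mapIso e₃.op).symm (F.mapIso e₂.op).symm (F.mapIso e₁.op).symm ?_ ?_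
  · show F.map e₃.inv.op ≫ F.map g.op = F.map T.mor₂.op ≫ F.map e₂.inv.op
    rw [← Functor.map_comp, ← Functor.map_comp, ← op_comp, ← op_comp]
    congr 2
    rw [Iso.eq_inv_comp, ← Category.assoc, w₂, Category.assoc, e₃.hom_inv_id, Category.comp_id]
  · show F.map e₂.inv.op ≫ F.map f.op = F.map T.mor₁.op ≫ F.map e₁.inv.op
    rw [← Functor.map_comp, ← Functor.map_comp, ← op_comp, ← op_comp]
    congr 2
    rw [Iso.eq_inv_comp, ← Category.assoc, w₁, Category.assoc, e₂.hom_inv_id, Category.comp_id]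

theorem HomExact.of_natIso {F G : C ⥤ C} (e : F ≅ G) (hF : HomExact F) : HomExact G := fun T hT =>
  (hF T hT).of_iso (e.app _) (e.app _) (e.app _) (e.hom.naturality _).symm (e.hom.naturality _).symm

theorem Ex.map_rightAdjoint {F G : C ⥤ C} (adj : F ⊣ G) {a b c : C} {f : a ⟶ b} {g : b ⟶ c}
    (h : Ex f g) : Ex (G.map f) (G.map g) := by
  haveI : G.IsRightAdjoint := adj.isRightAdjoint
  haveI : F.IsLeftAdjoint := adj.isLeftAdjoint
  refine ⟨by rw [← Functor.map_comp, h.1, Functor.map_zero], fun X y hy => ?_⟩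
  obtain ⟨x, hx⟩ := h.2 _ ((adj.homEquiv X b).symm y) (by
    rw [← Adjunction.homEquiv_naturality_right_symm, hy, Adjunction.homEquiv_counit,
      Functor.map_zero, zero_comp])
  refine ⟨adj.homEquiv X a x, ?_⟩
  rw [← Adjunction.homEquiv_naturality_right, hx, Equiv.apply_symm_apply]

end Covariant

attribute [local instance] HasDerivedCategory.standard

open DTen

variable {A : Type u} [CommRing A]

/-- Every distinguished triangle begins as the image of a degreewise split sequence. -/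
theorem exists_split_rep (T : Triangle (Dual.D A)) (hT : T ∈ distTriang (Dual.D A)) :
    ∃ (S : ShortComplex (DRing.Cx A)) (_ : KFlatLib.DegSplit S)
      (e₁ : DerivedCategory.Q.obj S.X₁ ≅ T.obj₁) (e₂ : DerivedCategory.Q.obj S.X₂ ≅ T.obj₂)
      (e₃ : DerivedCategory.Q.obj S.X₃ ≅ T.obj₃),
      e₁.hom ≫ T.mor₁ = DerivedCategory.Q.map S.f ≫ e₂.hom ∧
      e₂.hom ≫ T.mor₂ = DerivedCategory.Q.map S.g ≫ e₃.hom := by
  obtain ⟨P, R, φ, ⟨e⟩⟩ :=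
    (DerivedCategory.mem_distTriang_iff _).1 (inv_rot_of_distTriang T hT)
  let T₀ := DerivedCategory.Q.mapTriangle.obj (CochainComplex.mappingCone.triangle φ)
  let e' : T₀.rotate ≅ T :=
    (rotate (Dual.D A)).mapIso e.symm ≪≫ ((triangleRotation (Dual.D A)).counitIso.app T)
  let c : DerivedCategory.Q.obj (P⟦(1 : ℤ)⟧) ≅ T₀.rotate.obj₃ :=
    (DerivedCategory.Q.commShiftIso (1 : ℤ)).app P
  refine ⟨CochainComplex.mappingCone.triangleRotateShortComplex φ,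
    CochainComplex.mappingCone.triangleRotateShortComplexSplitting φ,
    Triangle.π₁.mapIso e', Triangle.π₂.mapIso e', c ≪≫ Triangle.π₃.mapIso e', ?_, ?_⟩
  · exact e'.hom.comm₁.symm
  · refine e'.hom.comm₂.symm.trans ?_
    show _ = _ ≫ c.hom ≫ e'.hom.hom₃
    rw [← Category.assoc]
    rfl

variable [HasLTen A]

/-- Derived tensoring with a fixed object is exact on distinguished triangles. -/
theorem homExact_tensorRightD (L : Dual.D A) : HomExact (tensorRightD A L) := by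
  intro T hT
  obtain ⟨E, hE, ⟨e⟩⟩ := exists_kf_rep L
  obtain ⟨S, hS, e₁, e₂, e₃, w₁, w₂⟩ := exists_split_rep T hT
  let S' := S.map (KFlatLib.bimap₁ (curriedTensor (ModuleCat.{u} A)) E)
  have hS' : S'.ShortExact :=
    KFlatLib.shortExact_of_degSplit (KFlatLib.degSplitBimap₁ _ E hS)
  have hbase : Ex (DerivedCategory.Q.map S'.f) (DerivedCategory.Q.map S'.g) :=
    homExact_id _ (DerivedCategory.triangleOfSES_distinguished hS')
  haveI : ∀ K : DRing.Cx A, IsIso ((εRight A E).app K) := fun K => isIso_ε K E (Or.inr hE)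
  let i : ∀ {K : DRing.Cx A} {M : Dual.D A}, (DerivedCategory.Q.obj K ≅ M) →
      (DerivedCategory.Q.obj ((tensorRight E).obj K) ≅ (tensorRightD A L).obj M) :=
    fun {K _} f => (asIso ((εRight A E).app K)).symm ≪≫
      ((LTen A).flip.obj (DerivedCategory.Q.obj E)).mapIso f ≪≫ ((LTen A).flip.mapIso e).app _
  have key : ∀ {K K' : DRing.Cx A} {M M' : Dual.D A} (f : DerivedCategory.Q.obj K ≅ M)
      (f' : DerivedCategory.Q.obj K' ≅ M') (a : K ⟶ K') (b : M ⟶ M'),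
      f.hom ≫ b = DerivedCategory.Q.map a ≫ f'.hom →
      (i f).hom ≫ (tensorRightD A L).map b =
        DerivedCategory.Q.map ((tensorRight E).map a) ≫ (i f').hom := by
    intro K K' M M' f f' a b hab
    have h1 : ((LTen A).flip.obj (DerivedCategory.Q.obj E)).map (DerivedCategory.Q.map a) ≫
        (εRight A E).app K' = (εRight A E).app K ≫ DerivedCategory.Q.map ((tensorRight E).map a) :=
      (εRight A E).naturality a
    have h2 : ((LTen A).flip.obj (DerivedCategory.Q.obj E)).map b ≫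
        ((LTen A).flip.map e.hom).app M' =
        ((LTen A).flip.map e.hom).app M ≫ (tensorRightD A L).map b :=
      ((LTen A).flip.map e.hom).naturality b
    simp only [i, Iso.trans_hom, Iso.symm_hom, asIso_inv, Functor.mapIso_hom, Iso.app_hom,
      Category.assoc]
    rw [← h2, ← Functor.map_comp_assoc, hab, Functor.map_comp_assoc, IsIso.inv_comp_eq,
      ← reassoc_of% h1, IsIso.hom_inv_id_assoc]
  exact hbase.of_iso (i e₁) (i e₂) (i e₃) (key e₁ e₂ S.f _ w₁) (key e₂ e₃ S.g _ w₂)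

end DTenLib
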