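import Groth.Agent.DTenLib.ProKoszulH
import Groth.Agent.KFlatLib.AlgMore
import Groth.Agent.DRingLib.Devissage
import Groth.Agent.DTenLib.Tri

/-!
# The adic system and the derived tensor product
-/

set_option autoImplicit false

universe u

open CategoryTheory CategoryTheory.Limits MonoidalCategory HomologicalComplex Pretriangulated
open Opposite (op unop)
attribute [local instance] HasDerivedCategory.standard

namespace DTenLib

namespace ProKoszul

variable {A : Type u} [CommRing A]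

section Single

theorem isIso_ιT_single (N : ModuleCat.{u} A) (L : DRing.Cx A) (n : ℤ) :
    IsIso (KFlatLib.ιT ((single (ModuleCat.{u} A) (ComplexShape.up ℤ) 0).obj N) L 0 n n (zero_add n)) := by
  refine ⟨KFlatLib.proj 0 n n (zero_add n), KFlatLib.ιT_proj _ _ _ _, ?_⟩
  refine mapBifunctor.hom_ext fun p q h => ?_
  have h' : p + q = n := h
  by_cases hp : p = 0
  · subst hp
    obtain rfl : q = n := by omega
    rw [← Category.assoc]
    exact (congrArg (· ≫ _) (KFlatLib.ιT_proj _ _ _ _)).trans ((Category.id_comp _).trans (Category.comp_id _).symm)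
  · exact ((tensorRight (L.X q)).map_isZero (isZero_single_obj_X _ 0 N p hp)).eq_of_src _ _

theorem isZero_T_X (N M : ModuleCat.{u} A) (b i : ℤ) (hi : i ≠ b) :
    IsZero (((T ((single (ModuleCat.{u} A) (ComplexShape.up ℤ) b).obj M)).obj
      ((single (ModuleCat.{u} A) (ComplexShape.up ℤ) 0).obj N)).X i) := by
  haveI := isIso_ιT_single N ((single (ModuleCat.{u} A) (ComplexShape.up ℤ) b).obj M) i
  exact ((tensorLeft _).map_isZero (isZero_single_obj_X _ b M i hi)).of_iso
    (asIso (KFlatLib.ιT ((single (ModuleCat.{u} A) (ComplexShape.up ℤ) 0).obj N)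
      ((single (ModuleCat.{u} A) (ComplexShape.up ℤ) b).obj M) 0 i i (zero_add i))).symm

theorem isZero_homology_of_isZero_X {C : DRing.Cx A} {i : ℤ} (h : IsZero (C.X i)) : IsZero (C.homology i) :=
  (exactAt_iff_isZero_homology C i).1 (ShortComplex.exact_of_isZero_X₂ _ h)

/-- A complex in one degree. -/
noncomputable def homologyIsoX {C : DRing.Cx A} {b : ℤ} (h : ∀ i, i ≠ b → IsZero (C.X i)) :
    C.X b ≅ C.homology b :=
  haveI := C.isIso_iCycles b (b + 1) (by simp) ((h (b + 1) (by omega)).eq_of_tgt _ _)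
  haveI := C.isIso_homologyπ (b - 1) b (by simp) ((h (b - 1) (by omega)).eq_of_src _ _)
  (asIso (C.iCycles b)).symm ≪≫ asIso (C.homologyπ b)

theorem homologyIsoX_natural {C D : DRing.Cx A} {b : ℤ} (hC : ∀ i, i ≠ b → IsZero (C.X i))
    (hD : ∀ i, i ≠ b → IsZero (D.X i)) (φ : C ⟶ D) :
    (homologyIsoX hC).hom ≫ homologyMap φ b = φ.f b ≫ (homologyIsoX hD).hom := by
  haveI := C.isIso_iCycles b (b + 1) (by simp) ((hC (b + 1) (by omega)).eq_of_tgt _ _)
  haveI := D.isIso_iCycles b (b + 1) (by simp) ((hD (b + 1) (by omega)).eq_of_tgt _ _)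
  have e : inv (C.iCycles b) ≫ cyclesMap φ b = φ.f b ≫ inv (D.iCycles b) := by
    rw [IsIso.inv_comp_eq, ← Category.assoc, IsIso.eq_comp_inv, cyclesMap_i]
  simp [homologyIsoX, reassoc_of% e]

theorem surjective_and_ker {C D : DRing.Cx A} {b : ℤ} (hC : ∀ i, i ≠ b → IsZero (C.X i))
    (hD : ∀ i, i ≠ b → IsZero (D.X i)) (φ : C ⟶ D) (J : Ideal A) (hs : Function.Surjective (φ.f b))
    (hker : ∀ c, φ.f b c = 0 → c ∈ J • (⊤ : Submodule A (C.X b))) :
    Function.Surjective (homologyMap φ b) ∧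
      ∀ y, homologyMap φ b y = 0 → y ∈ J • (⊤ : Submodule A (C.homology b)) := by
  have e : ∀ c, homologyMap φ b ((homologyIsoX hC).hom c) = (homologyIsoX hD).hom (φ.f b c) := fun c =>
    congr($(homologyIsoX_natural hC hD φ) c)
  refine ⟨fun z => ?_, fun y hy => ?_⟩
  · obtain ⟨d, rfl⟩ := (homologyIsoX hD).toLinearEquiv.surjective z
    obtain ⟨c, rfl⟩ := hs d
    exact ⟨_, e c⟩
  · obtain ⟨c, rfl⟩ := (homologyIsoX hC).toLinearEquiv.surjective y
    exact Submodule.smul_top_le_comap_smul_top J (homologyIsoX hC).hom.hom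
      (hker c ((homologyIsoX hD).toLinearEquiv.map_eq_zero_iff.1 ((e c).symm.trans hy)))

variable (I : Ideal A) (M : ModuleCat.{u} A) (b : ℤ)

/-- `M[b]`. -/
noncomputable abbrev Mb : DRing.Cx A := (single (ModuleCat.{u} A) (ComplexShape.up ℤ) b).obj M

theorem q_f (n : ℕ) :
    Function.Surjective (((T (Mb M b)).map ((single (ModuleCat.{u} A) (ComplexShape.up ℤ) 0).map (qmap I n))).f b) ∧
      ∀ c, ((T (Mb M b)).map ((single (ModuleCat.{u} A) (ComplexShape.up ℤ) 0).map (qmap I n))).f b c = 0 →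
        c ∈ (I ^ (n + 1)) • (⊤ : Submodule A (((T (Mb M b)).obj
          ((single (ModuleCat.{u} A) (ComplexShape.up ℤ) 0).obj (ModuleCat.of A A))).X b)) := by
  let N₀ := ModuleCat.of A A
  let N₁ := (CohIII.adicSystem I (ModuleCat.of A A)).obj (op n)
  haveI h₀ := isIso_ιT_single N₀ (Mb M b) b
  haveI h₁ := isIso_ιT_single N₁ (Mb M b) b
  let s₀ := (singleObjXSelf (ComplexShape.up ℤ) 0 N₀).toLinearEquiv
  let s₁ := (singleObjXSelf (ComplexShape.up ℤ) 0 N₁).toLinearEquiv
  let sM := (singleObjXSelf (ComplexShape.up ℤ) b M).toLinearEquiv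
  let P₀ := (T (Mb M b)).obj ((single (ModuleCat.{u} A) (ComplexShape.up ℤ) 0).obj N₀)
  let P₁ := (T (Mb M b)).obj ((single (ModuleCat.{u} A) (ComplexShape.up ℤ) 0).obj N₁)
  let e₀ : N₀ ⊗ M ≅ P₀.X b := (tensorIso (singleObjXSelf (ComplexShape.up ℤ) 0 N₀).symm
    (singleObjXSelf (ComplexShape.up ℤ) b M).symm) ≪≫ @asIso _ _ _ _ _ h₀
  let e₁ : N₁ ⊗ M ≅ P₁.X b := (tensorIso (singleObjXSelf (ComplexShape.up ℤ) 0 N₁).symm
    (singleObjXSelf (ComplexShape.up ℤ) b M).symm) ≪≫ @asIso _ _ _ _ _ h₁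
  have hcomm : e₀.hom ≫ ((T (Mb M b)).map ((single (ModuleCat.{u} A) (ComplexShape.up ℤ) 0).map (qmap I n))).f b =
      (qmap I n ▷ M) ≫ e₁.hom := by
    simp only [e₀, e₁, Iso.trans_hom, asIso_hom, tensorIso_hom, Category.assoc]
    erw [KFlatLib.ι_bimap₁_map _ (Mb M b) _ 0 b b (zero_add b)]
    refine (Category.assoc _ _ _).symm.trans (Eq.trans ?_ (Category.assoc _ _ _))
    refine (congrArg
      (fun t => t ≫ KFlatLib.ιT ((single (ModuleCat.{u} A) (ComplexShape.up ℤ) 0).obj N₁) (Mb M b) 0 b b (zero_add b)) ?_)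
    change _ ≫ (((single (ModuleCat.{u} A) (ComplexShape.up ℤ) 0).map (qmap I n)).f 0 ▷ _) = _
    rw [single_map_f_self, ← MonoidalCategory.tensorHom_id, ← MonoidalCategory.tensorHom_id,
      tensorHom_comp_tensorHom, tensorHom_comp_tensorHom]
    simp [N₀, N₁]
  have hw : Function.Surjective (qmap I n ▷ M) :=
    LinearMap.rTensor_surjective M (Submodule.mkQ_surjective _)
  constructor
  · intro z
    obtain ⟨w, rfl⟩ := e₁.toLinearEquiv.surjective z
    obtain ⟨v, rfl⟩ := hw w
    exact ⟨e₀.hom v, congr($hcomm v)⟩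
  · intro c hc
    obtain ⟨v, rfl⟩ := e₀.toLinearEquiv.surjective c
    have hv : (qmap I n ▷ M) v = 0 :=
      e₁.toLinearEquiv.map_eq_zero_iff.1 ((congr($hcomm v)).symm.trans hc)
    refine Submodule.smul_top_le_comap_smul_top (I ^ (n + 1)) e₀.hom.hom ?_
    obtain ⟨m, rfl⟩ : ∃ m : M, ((1 : A) ⊗ₜ[A] m : TensorProduct A A M) = v :=
      ⟨TensorProduct.lid A M v, (TensorProduct.lid A M).symm_apply_apply v⟩
    have hJ : (I ^ (n + 1) • (⊤ : Submodule A A)) = I ^ (n + 1) := by
      rw [smul_eq_mul]; exact Ideal.mul_top _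
    have hm : m ∈ I ^ (n + 1) • (⊤ : Submodule A M) := by
      have h2 := congrArg (fun t => TensorProduct.quotTensorEquivQuotSMul M (I ^ (n + 1))
        (LinearMap.rTensor M (Submodule.quotEquivOfEq _ _ hJ).toLinearMap t)) hv
      simp only [map_zero] at h2
      refine (Submodule.Quotient.mk_eq_zero _).1 (Eq.trans ?_ h2)
      exact (TensorProduct.quotTensorEquivQuotSMul_mk_one_tmul _ m).symm
    exact Submodule.smul_top_le_comap_smul_top (I ^ (n + 1)) (TensorProduct.mk A A M 1) hm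

variable [IsNoetherianRing A] [Module.Finite A M]

theorem hK_Mb : ∀ i, i ≠ b → IsZero ((H (Mb M b) i).obj (𝟙_ (DRing.Cx A))) := fun i hi =>
  isZero_homology_of_isZero_X (isZero_T_X _ M b i hi)

theorem hKf_Mb : Module.Finite A ((H (Mb M b) b).obj (𝟙_ (DRing.Cx A))) := by
  haveI := isIso_ιT_single (𝟙_ (ModuleCat.{u} A)) (Mb M b) b
  exact Module.Finite.equiv ((λ_ M).symm ≪≫ (tensorIso
    (singleObjXSelf (ComplexShape.up ℤ) 0 (𝟙_ (ModuleCat.{u} A))).symm
    (singleObjXSelf (ComplexShape.up ℤ) b M).symm) ≪≫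
    asIso (KFlatLib.ιT ((single (ModuleCat.{u} A) (ComplexShape.up ℤ) 0).obj (𝟙_ (ModuleCat.{u} A)))
      (Mb M b) 0 b b (zero_add b)) ≪≫
    homologyIsoX (fun i hi => isZero_T_X _ M b i hi)).toLinearEquiv

theorem isZero_H_qSys (n : ℕ) (i : ℤ) (hi : i ≠ b) : IsZero ((H (Mb M b) i).obj ((qSys I).obj (op n))) :=
  isZero_homology_of_isZero_X (isZero_T_X _ M b i hi)

theorem isProIso_H_single (fs : List A) (h : ∀ f ∈ fs, f ∈ I) (hI : I = Ideal.span {f | f ∈ fs}) (i : ℤ) :
    DerCA.IsProIso (Functor.whiskerRight (kaugNat I fs h) (H (Mb M b) i)) := by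
  intro n
  by_cases hi : i = b
  · subst hi
    let π : ∀ k, (H (Mb M i) i).obj (𝟙_ (DRing.Cx A)) ⟶ (H (Mb M i) i).obj (kObj k fs) := fun k =>
      (H (Mb M i) i).map (kincl k fs)
    let q : ∀ k, (H (Mb M i) i).obj (𝟙_ (DRing.Cx A)) ⟶ (H (Mb M i) i).obj ((qSys I).obj (op k)) := fun k =>
      (H (Mb M i) i).map ((single (ModuleCat.{u} A) (ComplexShape.up ℤ) 0).map (qmap I k))
    let J : Ideal A := LinearMap.ker (LinearMap.toSpanSingleton A _ (π n))
    have hrad : I ≤ J.radical := by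
      rw [hI, Ideal.span_le]
      exact fun g hg => ⟨n + 1, LinearMap.mem_ker.2 (smul_kincl (Mb M i) i n fs g hg)⟩
    obtain ⟨N, hN⟩ := Ideal.exists_pow_le_of_le_radical_of_fg hrad (IsNoetherian.noetherian I)
    refine ⟨n + N, Nat.le_add_right n N, ?_⟩
    have hq := surjective_and_ker (fun j hj => isZero_T_X _ M i j hj) (fun j hj => isZero_T_X _ M i j hj)
      ((T (Mb M i)).map ((single (ModuleCat.{u} A) (ComplexShape.up ℤ) 0).map (qmap I (n + N))))
      (I ^ (n + N + 1)) (q_f I M i (n + N)).1 (q_f I M i (n + N)).2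
    have hker : LinearMap.ker (q (n + N)).hom ≤ LinearMap.ker (π n).hom := fun y hy => by
      refine Submodule.smul_induction_on (hq.2 y hy) (fun r hr z _ => ?_) fun x y hx hy => add_mem hx hy
      have : r • π n = 0 := LinearMap.mem_ker.1 (hN (Ideal.pow_le_pow_right (by omega) hr))
      exact LinearMap.mem_ker.2 ((map_smul _ r z).trans congr($this z))
    let β : (H (Mb M i) i).obj ((qSys I).obj (op (n + N))) ⟶ (H (Mb M i) i).obj (kObj n fs) :=
      ModuleCat.ofHom ((LinearMap.ker (q (n + N)).hom).liftQ (π n).hom hker ∘ₗ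
        ((q (n + N)).hom.quotKerEquivOfSurjective hq.1).symm.toLinearMap)
    have hβ : q (n + N) ≫ β = π n := by
      ext y
      exact (congrArg (Submodule.liftQ _ (π n).hom hker)
        (((q (n + N)).hom.quotKerEquivOfSurjective hq.1).symm_apply_apply (Submodule.Quotient.mk y))).trans
          (Submodule.liftQ_apply _ _ y)
    have hg : ∀ k, π k ≫ (H (Mb M i) i).map (kaug I k fs h) = q k := fun k => by
      rw [← Functor.map_comp, kincl_kaug]
    haveI : Epi (π (n + N)) := epi_kincl (Mb M i) i (hK_Mb M i) (n + N) fs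
    haveI : Epi (q (n + N)) := (ModuleCat.epi_iff_surjective _).2 hq.1
    refine ⟨β, ?_, ?_⟩
    · refine (cancel_epi (π (n + N))).1 ((Category.assoc _ _ _).symm.trans ?_)
      refine ((congrArg (· ≫ β) (hg _)).trans hβ).trans ?_
      exact ((congrArg (H (Mb M i) i).map (kincl_kmap (Nat.le_add_right n N) fs)).symm.trans
        ((H (Mb M i) i).map_comp _ _))
    · refine (cancel_epi (q (n + N))).1 ((Category.assoc _ _ _).symm.trans
        ((congrArg (· ≫ (H (Mb M i) i).map (kaug I n fs h)) hβ).trans ?_))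
      refine (hg n).trans ?_
      exact (congrArg (H (Mb M i) i).map ((congrArg (single (ModuleCat.{u} A) (ComplexShape.up ℤ) 0).map
        (qmap_tr I (Nat.le_add_right n N))).symm.trans (Functor.map_comp _ _ _))).trans
        ((H (Mb M i) i).map_comp _ _)
  · rcases lt_or_gt_of_ne hi with hi' | hi'
    · obtain ⟨m, hm, hz⟩ := exists_H_map_eq_zero (Mb M b) b (hK_Mb M b) (hKf_Mb M b) fs i hi' n
      exact ⟨m, hm, 0, comp_zero.trans hz.symm, (isZero_H_qSys I M b m i hi).eq_of_src _ _⟩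
    · exact ⟨n, le_rfl, 0, (isZero_H (Mb M b) b (hK_Mb M b) n fs i (Or.inr hi')).eq_of_src _ _,
        (isZero_H_qSys I M b n i hi).eq_of_src _ _⟩

end Single

/-- Braiding, as an isomorphism of functors. -/
noncomputable def tensorLeftIsoT (K : DRing.Cx A) : tensorLeft K ≅ T K :=
  NatIso.ofComponents (fun L => DTen.braidCx K L) fun {L L'} g => by
    refine Eq.trans ?_ (DTen.braidCx_naturality (𝟙 K) g)
    exact congrArg (· ≫ _) (MonoidalCategory.id_tensorHom K g).symm

theorem isProIso_whiskerRight_iso {C D : Type*} [Category C] [Category D] {X Y : ARSys.PS C} (a : X ⟶ Y)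
    {F G : C ⥤ D} (e : F ≅ G) (h : DerCA.IsProIso (Functor.whiskerRight a F)) :
    DerCA.IsProIso (Functor.whiskerRight a G) :=
  Groth.Agent.DerLib.ProHomology.isProIso_of_iso_of_isProIso _ _ (Functor.isoWhiskerLeft X e)
    (Functor.isoWhiskerLeft Y e) (by ext n; exact e.hom.naturality (a.app n)) h

variable (I : Ideal A) (fs : List A) (h : ∀ f ∈ fs, f ∈ I)

/-- `K ⊗ Kos_n ⟶ K ⊗ A/I^(n+1)` in the derived category. -/
noncomputable abbrev Ψ (K : DRing.Cx A) :
    kSys fs ⋙ (tensorLeft K ⋙ DerivedCategory.Q) ⟶ qSys I ⋙ (tensorLeft K ⋙ DerivedCategory.Q) :=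
  Functor.whiskerRight (kaugNat I fs h) (tensorLeft K ⋙ DerivedCategory.Q)

theorem isProIso_Ψ_single [IsNoetherianRing A] (hI : I = Ideal.span {f | f ∈ fs}) (M : ModuleCat.{u} A)
    [Module.Finite A M] (b : ℤ) : DerCA.IsProIso (Ψ I fs h (Mb M b)) := by
  let e : ∀ i, H (Mb M b) i ≅ (tensorLeft (Mb M b) ⋙ DerivedCategory.Q) ⋙
      DerivedCategory.homologyFunctor (ModuleCat.{u} A) i := fun i =>
    Functor.isoWhiskerRight (tensorLeftIsoT (Mb M b)).symm _ ≪≫
      Functor.isoWhiskerLeft _ (DerivedCategory.homologyFunctorFactors (ModuleCat.{u} A) i).symm ≪≫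
      (Functor.associator _ _ _).symm
  refine Groth.Agent.DerLib.ProHomology.isProIso_of_homology fs.length (b - fs.length) _ _ _ ?_ ?_ fun i => ?_
  · intro n i hi
    exact (isZero_H (Mb M b) b (hK_Mb M b) n fs i (by omega)).of_iso ((e i).app _).symm
  · intro n i hi
    exact (isZero_H_qSys I M b n i (by omega)).of_iso ((e i).app _).symm
  · exact isProIso_whiskerRight_iso (kaugNat I fs h) (e i) (isProIso_H_single I M b fs h hI i)

variable {S : ShortComplex (DRing.Cx A)} (hS : KFlatLib.DegSplit S)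

theorem shortExact_tensor (L : DRing.Cx A) (hS : KFlatLib.DegSplit S) : (S.map (T L)).ShortExact :=
  KFlatLib.shortExact_of_degSplit (KFlatLib.degSplitBimap₁ _ L hS)

/-- The connecting maps. -/
noncomputable def connecting (X : ARSys.PS (DRing.Cx A)) :
    X ⋙ (tensorLeft S.X₃ ⋙ DerivedCategory.Q) ⟶
      (X ⋙ (tensorLeft S.X₁ ⋙ DerivedCategory.Q)) ⋙ shiftFunctor (Dual.D A) (1 : ℤ) where
  app n := DerivedCategory.triangleOfSESδ (shortExact_tensor (X.obj n) hS)
  naturality p q g :=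
    (DerivedCategory.triangleOfSESδ_naturality (shortExact_tensor (X.obj p) hS) (shortExact_tensor (X.obj q) hS)
      (ShortComplex.homMk (S₁ := S.map (T (X.obj p))) (S₂ := S.map (T (X.obj q))) (S.X₁ ◁ X.map g)
        (S.X₂ ◁ X.map g) (S.X₃ ◁ X.map g) (whisker_exchange _ _) (whisker_exchange _ _))).symm

include hS in
theorem isProIso_Ψ_middle (h₁ : DerCA.IsProIso (Ψ I fs h S.X₁)) (h₃ : DerCA.IsProIso (Ψ I fs h S.X₃)) :
    DerCA.IsProIso (Ψ I fs h S.X₂) :=
  Groth.Agent.DerLib.ProHomology.isProIso_middle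
    (Functor.whiskerLeft (kSys fs) (Functor.whiskerRight ((curriedTensor (DRing.Cx A)).map S.f) DerivedCategory.Q))
    (Functor.whiskerLeft (kSys fs) (Functor.whiskerRight ((curriedTensor (DRing.Cx A)).map S.g) DerivedCategory.Q))
    (connecting hS (kSys fs))
    (fun n => DerivedCategory.triangleOfSES_distinguished (shortExact_tensor ((kSys fs).obj (op n)) hS))
    (Functor.whiskerLeft (qSys I) (Functor.whiskerRight ((curriedTensor (DRing.Cx A)).map S.f) DerivedCategory.Q))
    (Functor.whiskerLeft (qSys I) (Functor.whiskerRight ((curriedTensor (DRing.Cx A)).map S.g) DerivedCategory.Q))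
    (connecting hS (qSys I))
    (fun n => DerivedCategory.triangleOfSES_distinguished (shortExact_tensor ((qSys I).obj (op n)) hS))
    (Ψ I fs h S.X₁) (Ψ I fs h S.X₂) (Ψ I fs h S.X₃)
    (fun n => ((Functor.whiskerRight ((curriedTensor (DRing.Cx A)).map S.f) DerivedCategory.Q).naturality
      ((kaugNat I fs h).app (op n))).symm)
    (fun n => ((Functor.whiskerRight ((curriedTensor (DRing.Cx A)).map S.g) DerivedCategory.Q).naturality
      ((kaugNat I fs h).app (op n))).symm)
    (fun n => DerivedCategory.triangleOfSESδ_naturality (shortExact_tensor ((kSys fs).obj (op n)) hS)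
      (shortExact_tensor ((qSys I).obj (op n)) hS)
      (ShortComplex.homMk (S₁ := S.map (T ((kSys fs).obj (op n)))) (S₂ := S.map (T ((qSys I).obj (op n))))
        (S.X₁ ◁ (kaugNat I fs h).app (op n)) (S.X₂ ◁ (kaugNat I fs h).app (op n))
        (S.X₃ ◁ (kaugNat I fs h).app (op n)) (whisker_exchange _ _) (whisker_exchange _ _)))
    h₁ h₃

theorem isProIso_Ψ_of_isZero (K : DRing.Cx A) (hK : IsZero K) : DerCA.IsProIso (Ψ I fs h K) := by
  have hz : ∀ L : DRing.Cx A, IsZero ((tensorLeft K ⋙ DerivedCategory.Q).obj L) := fun L =>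
    DerivedCategory.Q.map_isZero ((T L).map_isZero hK)
  exact fun n => ⟨n, le_rfl, 0, (hz _).eq_of_src _ _, (hz _).eq_of_src _ _⟩

variable [IsNoetherianRing A]

theorem isProIso_Ψ (hI : I = Ideal.span {f | f ∈ fs}) (c : ℤ) :
    ∀ (k : ℕ) (K : DRing.Cx A), (∀ i, (i < c ∨ c + k ≤ i) → IsZero (K.X i)) →
      (∀ i, Module.Finite A (K.X i)) → DerCA.IsProIso (Ψ I fs h K) := by
  intro k
  induction k with
  | zero =>
    exact fun K hK _ => isProIso_Ψ_of_isZero I fs h K
      ((IsZero.iff_id_eq_zero _).2 (hom_ext _ _ fun i => (hK i (by omega)).eq_of_src _ _))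
  | succ k ih =>
    intro K hK hKf
    obtain ⟨b, hb⟩ : ∃ b, b = c + k := ⟨_, rfl⟩
    let ι : Mb (K.X b) b ⟶ K := mkHomFromSingle (𝟙 (K.X b)) fun l hl => by
      obtain rfl : b + 1 = l := hl
      exact (hK (b + 1) (Or.inr (by push_cast; omega))).eq_of_tgt _ _
    have hι : IsIso (ι.f b) := by
      rw [show ι.f b = (singleObjXSelf (ComplexShape.up ℤ) b (K.X b)).hom ≫ 𝟙 _ from
        mkHomFromSingle_f _ _, Category.comp_id]
      infer_instance
    have hmono : Mono ι := by
      refine mono_of_mono_f ι fun i => ?_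
      by_cases h : i = b
      · subst h
        infer_instance
      · exact ⟨fun _ _ _ => (isZero_single_obj_X _ b _ i h).eq_of_tgt _ _⟩
    let S : ShortComplex (DRing.Cx A) := ShortComplex.mk ι (cokernel.π ι) (cokernel.condition ι)
    have hS : S.ShortExact := { exact := ShortComplex.exact_of_g_is_cokernel _ (cokernelIsCokernel ι) }
    have hdeg := (shortExact_iff_degreewise_shortExact S).mp hS
    have hC : ∀ i, i = b → IsZero (S.X₃.X i) := by
      rintro i rfl
      exact (hdeg i).isIso_f_iff.1 hι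
    have hC' : ∀ i, i ≠ b → IsIso ((cokernel.π ι).f i) := fun i hi =>
      (hdeg i).isIso_g_iff.2 (isZero_single_obj_X (ComplexShape.up ℤ) b (K.X b) i hi)
    obtain ⟨hsp⟩ : Nonempty (KFlatLib.DegSplit S) := ⟨fun i =>
      if hi : i = b then
        haveI : IsIso (S.map (eval (ModuleCat.{u} A) (ComplexShape.up ℤ) i)).f := by subst hi; exact hι
        ShortComplex.Splitting.ofIsIsoOfIsZero _ inferInstance (hC i hi)
      else
        haveI : IsIso (S.map (eval (ModuleCat.{u} A) (ComplexShape.up ℤ) i)).g := hC' i hi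
        ShortComplex.Splitting.ofIsZeroOfIsIso _ (isZero_single_obj_X (ComplexShape.up ℤ) b (K.X b) i hi)
          inferInstance⟩
    haveI := hKf b
    have h1 := isProIso_Ψ_single I fs h hI (K.X b) b
    have h3 : DerCA.IsProIso (Ψ I fs h S.X₃) := by
      refine ih _ ?_ ?_
      · intro i hi
        by_cases h : i = b
        · exact hC i h
        · haveI := hC' i h
          exact (hK i (by push_cast; omega)).of_iso (asIso ((cokernel.π ι).f i)).symm
      · intro i
        by_cases h : i = b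
        · haveI := ModuleCat.subsingleton_of_isZero (hC i h)
          exact Module.Finite.of_finite
        · haveI := hC' i h
          haveI := hKf i
          exact Module.Finite.equiv (asIso ((cokernel.π ι).f i)).toLinearEquiv
    have h2 := isProIso_Ψ_middle (S := S) I fs h hsp h1 h3
    exact h2

theorem isProIso_εLeft [DTen.HasLTen A] [DTen.KFlatComputes A] (K : DRing.Cx A) (a b : ℤ)
    (hK : DRing.VanishesOutside K a b) (hKf : ∀ i, Module.Finite A (K.X i)) :
    DerCA.IsProIso (Functor.whiskerLeft (qSys I) (DTen.εLeft A K)) := by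
  classical
  obtain ⟨t, ht⟩ := IsNoetherian.noetherian I
  let fs := t.toList
  have hI : I = Ideal.span {f | f ∈ fs} := by
    rw [← ht]; congr 1; ext x; simp [fs]
  have h : ∀ f ∈ fs, f ∈ I := fun f hf => hI ▸ Ideal.subset_span hf
  have hbot : DerCA.IsProIso (Ψ I fs h K) := by
    obtain ⟨k, hk⟩ : ∃ k : ℕ, b + 1 ≤ a + k := ⟨(b + 1 - a).toNat, by omega⟩
    exact isProIso_Ψ I fs h hI a k K (fun i hi => hK i (by omega)) hKf
  have htop : DerCA.IsProIso (Functor.whiskerRight (kaugNat I fs h)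
      (DerivedCategory.Q ⋙ (DTen.LTen A).obj (DerivedCategory.Q.obj K))) := by
    have h1 : DerCA.IsProIso (Ψ I fs h (Mb (ModuleCat.of A A) 0)) :=
      isProIso_Ψ_single I fs h hI (ModuleCat.of A A) 0
    have h2 : DerCA.IsProIso (Functor.whiskerRight (kaugNat I fs h) DerivedCategory.Q) :=
      isProIso_whiskerRight_iso _ (Functor.isoWhiskerRight (leftUnitorNatIso (DRing.Cx A)) DerivedCategory.Q ≪≫
        Functor.leftUnitor _) h1
    exact isProIso_map ((DTen.LTen A).obj (DerivedCategory.Q.obj K)) h2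
  have hleft : DerCA.IsProIso (Functor.whiskerLeft (kSys fs) (DTen.εLeft A K)) := by
    haveI : ∀ n, IsIso ((Functor.whiskerLeft (kSys fs) (DTen.εLeft A K)).app n) := fun n =>
      DTen.KFlatComputes.isIso_counit K (kObj n.unop fs) (Or.inr (isKFlat_kObj n.unop fs))
    exact isProIso_of_isIso _
  refine isProIso_of_comp htop ?_
  have he : Functor.whiskerRight (kaugNat I fs h) (DerivedCategory.Q ⋙ (DTen.LTen A).obj (DerivedCategory.Q.obj K)) ≫
      Functor.whiskerLeft (qSys I) (DTen.εLeft A K) =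
      Functor.whiskerLeft (kSys fs) (DTen.εLeft A K) ≫ Ψ I fs h K := by
    ext n
    exact (DTen.εLeft A K).naturality ((kaugNat I fs h).app n)
  rw [he]
  exact isProIso_comp hleft hbot

end ProKoszul

end DTenLib
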