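import Groth.Agent.DTenLib.Tri
import Groth.Agent.DTenLib.HomCx

/-!
# RHom computed by Hom complexes; exactness in the first variable
-/

set_option autoImplicit false

universe u

open CategoryTheory CategoryTheory.Limits MonoidalCategory HomologicalComplex Pretriangulated Opposite
attribute [local instance] HasDerivedCategory.standard

namespace DTenLib

open DTen
open Groth.Agent.DerLib

variable {A : Type u} [CommRing A] [HasLTen A] [HasRHom A]

/-- Evaluation in the derived category. -/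
noncomputable def evD (P I : DRing.Cx A) :
    (LTen₂ A).obj (DerivedCategory.Q.obj (DRing.homCx P I), DerivedCategory.Q.obj P) ⟶
      DerivedCategory.Q.obj I :=
  (ε A).app (DRing.homCx P I, P) ≫ DerivedCategory.Q.map (evCx P I)

/-- The comparison map from the Hom complex. -/
noncomputable def θ (P I : DRing.Cx A) :
    DerivedCategory.Q.obj (DRing.homCx P I) ⟶
      (RHomR A (DerivedCategory.Q.obj P)).obj (DerivedCategory.Q.obj I) :=
  rhomHomEquiv _ _ _ (evD P I)

theorem Q_map_evD {E P I : DRing.Cx A} (g : E ⟶ DRing.homCx P I) :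
    (LTen₂ A).map (Prod.mkHom (DerivedCategory.Q.map g) (𝟙 (DerivedCategory.Q.obj P))) ≫ evD P I =
      (ε A).app (E, P) ≫ DerivedCategory.Q.map (ofHom g) := by
  rw [← whiskerRight_evCx g, Functor.map_comp]
  have h : (LTen₂ A).map (Prod.mkHom (DerivedCategory.Q.map g) (𝟙 (DerivedCategory.Q.obj P))) ≫
      (ε A).app (DRing.homCx P I, P) = (ε A).app (E, P) ≫ DerivedCategory.Q.map (g ▷ P) :=
    (εRight A P).naturality g
  exact (reassoc_of% h) _

theorem bijective_evD {P I : DRing.Cx A} (hP : KF P) [I.IsKInjective] (X : Dual.D A) :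
    Function.Bijective fun f : X ⟶ DerivedCategory.Q.obj (DRing.homCx P I) =>
      (LTen₂ A).map (Prod.mkHom f (𝟙 (DerivedCategory.Q.obj P))) ≫ evD P I := by
  obtain ⟨E, -, ⟨e⟩⟩ := exists_kf_rep X
  have : (DRing.homCx P I).IsKInjective := isKInjective_homCx hP
  have := isIso_ε (A := A) E P (Or.inr hP)
  suffices h : Function.Bijective fun f : DerivedCategory.Q.obj E ⟶ DerivedCategory.Q.obj (DRing.homCx P I) =>
      (LTen₂ A).map (Prod.mkHom f (𝟙 (DerivedCategory.Q.obj P))) ≫ evD P I by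
    have e2 : IsIso ((LTen₂ A).map (Prod.mkHom e.hom (𝟙 (DerivedCategory.Q.obj P)))) := by
      have : IsIso (Prod.mkHom e.hom (𝟙 (DerivedCategory.Q.obj P))) :=
        (isIso_prod_iff _ _).2 ⟨inferInstance, inferInstance⟩
      infer_instance
    have key : ∀ f : X ⟶ DerivedCategory.Q.obj (DRing.homCx P I),
        (LTen₂ A).map (Prod.mkHom (e.hom ≫ f) (𝟙 (DerivedCategory.Q.obj P))) =
          (LTen₂ A).map (Prod.mkHom e.hom (𝟙 (DerivedCategory.Q.obj P))) ≫
            (LTen₂ A).map (Prod.mkHom f (𝟙 (DerivedCategory.Q.obj P))) := fun f => by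
      rw [← Functor.map_comp]
      exact congrArg _ (Prod.ext rfl (Category.comp_id _).symm)
    refine ⟨fun f f' hf => (cancel_epi e.hom).1 (h.1 ?_), fun φ => ?_⟩
    · simp only [key, Category.assoc]
      exact congrArg _ hf
    · obtain ⟨f, hf⟩ := h.2 ((LTen₂ A).map (Prod.mkHom e.hom (𝟙 (DerivedCategory.Q.obj P))) ≫ φ)
      refine ⟨e.inv ≫ f, ?_⟩
      rw [← cancel_epi ((LTen₂ A).map (Prod.mkHom e.hom (𝟙 (DerivedCategory.Q.obj P)))), ← hf,
        ← Category.assoc, ← key, e.hom_inv_id_assoc]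
  constructor
  · intro f f' hf
    obtain ⟨g, rfl⟩ := KInjUse.Q_map_surjective E (DRing.homCx P I) f
    obtain ⟨g', rfl⟩ := KInjUse.Q_map_surjective E (DRing.homCx P I) f'
    simp only [Q_map_evD, cancel_epi] at hf
    have h0 : DerivedCategory.Q.map (ofHom (g - g')) = 0 := by
      rw [ofHom_sub, Functor.map_sub, hf, sub_self]
    have H : Homotopy (ofHom (g - g')) 0 := HomotopyCategory.homotopyOfEq _ _
      ((KInjUse.quotient_eq_zero_of_Q h0).trans (Functor.map_zero _ _ _).symm)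
    have H' : Homotopy (g - g') 0 := (Homotopy.ofEq (toHom_ofHom _).symm).trans (toHomHomotopy H)
    have := KInjUse.Q_map_zero_of_quotient (HomotopyCategory.eq_of_homotopy _ _ H' |>.trans
      (Functor.map_zero _ _ _))
    rwa [Functor.map_sub, sub_eq_zero] at this
  · intro φ
    obtain ⟨f, hf⟩ := KInjUse.Q_map_surjective (E ⊗ P) I (inv ((ε A).app (E, P)) ≫ φ)
    refine ⟨DerivedCategory.Q.map (toHom f), ?_⟩
    simp only [Q_map_evD, ofHom_toHom]
    rw [hf, IsIso.hom_inv_id_assoc]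

theorem isIso_θ {P I : DRing.Cx A} (hP : KF P) [I.IsKInjective] : IsIso (θ P I) := by
  have key : ∀ (X : Dual.D A) (f : X ⟶ DerivedCategory.Q.obj (DRing.homCx P I)),
      ((rhomAdj A (DerivedCategory.Q.obj P)).homEquiv X (DerivedCategory.Q.obj I)).symm (f ≫ θ P I) =
        (LTen₂ A).map (Prod.mkHom f (𝟙 (DerivedCategory.Q.obj P))) ≫ evD P I := fun X f => by
    rw [Adjunction.homEquiv_naturality_left_symm]
    exact congrArg _ (Equiv.symm_apply_apply _ _)
  obtain ⟨g, hg⟩ := (bijective_evD hP ((RHomR A (DerivedCategory.Q.obj P)).obj (DerivedCategory.Q.obj I))).2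
    (((rhomAdj A (DerivedCategory.Q.obj P)).homEquiv _ _).symm (𝟙 _))
  have h1 : g ≫ θ P I = 𝟙 _ :=
    ((rhomAdj A (DerivedCategory.Q.obj P)).homEquiv _ _).symm.injective ((key _ g).trans hg)
  refine ⟨g, (bijective_evD hP _).1 ?_, h1⟩
  show (LTen₂ A).map (Prod.mkHom (θ P I ≫ g) (𝟙 _)) ≫ evD P I =
    (LTen₂ A).map (Prod.mkHom (𝟙 _) (𝟙 _)) ≫ evD P I
  rw [← key, ← key, Category.assoc, h1, Category.comp_id, Category.id_comp]

theorem θ_naturality {P P' : DRing.Cx A} (a : P ⟶ P') (I : DRing.Cx A) :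
    θ P' I ≫ RHomMap (DerivedCategory.Q.map a) (DerivedCategory.Q.obj I) =
      DerivedCategory.Q.map (homPre I a) ≫ θ P I := by
  apply ((rhomAdj A (DerivedCategory.Q.obj P)).homEquiv _ _).symm.injective
  rw [Adjunction.homEquiv_naturality_left_symm, Adjunction.homEquiv_naturality_left_symm]
  refine Eq.trans ?_ (congrArg _ (Equiv.symm_apply_apply _ _)).symm
  rw [Adjunction.homEquiv_counit]
  show (LTen₂ A).map (Prod.mkHom (θ P' I) (𝟙 _)) ≫
    (LTen₂ A).map (Prod.mkHom (RHomMap (DerivedCategory.Q.map a) (DerivedCategory.Q.obj I)) (𝟙 _)) ≫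
      ev (DerivedCategory.Q.obj P) (DerivedCategory.Q.obj I) = _
  rw [RHom_map_ev, ← Functor.map_comp_assoc,
    show Prod.mkHom (θ P' I) (𝟙 (DerivedCategory.Q.obj P)) ≫
        Prod.mkHom (𝟙 _) (DerivedCategory.Q.map a) =
      Prod.mkHom (𝟙 _) (DerivedCategory.Q.map a) ≫ Prod.mkHom (θ P' I) (𝟙 (DerivedCategory.Q.obj P'))
      from Prod.ext (by simp) (by simp), Functor.map_comp_assoc]
  have hev : (LTen₂ A).map (Prod.mkHom (θ P' I) (𝟙 (DerivedCategory.Q.obj P'))) ≫
      ev (DerivedCategory.Q.obj P') (DerivedCategory.Q.obj I) = evD P' I :=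
    ((rhomAdj A (DerivedCategory.Q.obj P')).homEquiv _ _).left_inv _
  rw [hev]
  show _ = (LTen₂ A).map (Prod.mkHom (DerivedCategory.Q.map (homPre I a)) (𝟙 (DerivedCategory.Q.obj P))) ≫ evD P I
  simp only [evD]
  have h1 : (LTen₂ A).map (Prod.mkHom (𝟙 (DerivedCategory.Q.obj (DRing.homCx P' I))) (DerivedCategory.Q.map a)) ≫
      (ε A).app (DRing.homCx P' I, P') =
      (ε A).app (DRing.homCx P' I, P) ≫ DerivedCategory.Q.map (DRing.homCx P' I ◁ a) :=
    (εLeft A (DRing.homCx P' I)).naturality a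
  have h2 : (LTen₂ A).map (Prod.mkHom (DerivedCategory.Q.map (homPre I a)) (𝟙 (DerivedCategory.Q.obj P))) ≫
      (ε A).app (DRing.homCx P I, P) =
      (ε A).app (DRing.homCx P' I, P) ≫ DerivedCategory.Q.map (homPre I a ▷ P) :=
    (εRight A P).naturality _
  rw [reassoc_of% h1, reassoc_of% h2, ← Functor.map_comp, ← Functor.map_comp, whisker_evCx_natural]

/-- A distinguished triangle begins as a degreewise split sequence of K-flat complexes. -/
theorem exists_split_rep_kf (T : Triangle (Dual.D A)) (hT : T ∈ distTriang (Dual.D A)) :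
    ∃ (S : ShortComplex (DRing.Cx A)) (_ : KFlatLib.DegSplit S)
      (_ : KF S.X₁) (_ : KF S.X₂) (_ : KF S.X₃)
      (e₁ : DerivedCategory.Q.obj S.X₁ ≅ T.obj₁) (e₂ : DerivedCategory.Q.obj S.X₂ ≅ T.obj₂)
      (e₃ : DerivedCategory.Q.obj S.X₃ ≅ T.obj₃),
      e₁.hom ≫ T.mor₁ = DerivedCategory.Q.map S.f ≫ e₂.hom ∧
      e₂.hom ≫ T.mor₂ = DerivedCategory.Q.map S.g ≫ e₃.hom := by
  obtain ⟨P₀, R₀, φ₀, ⟨e₀⟩⟩ :=
    (DerivedCategory.mem_distTriang_iff _).1 (inv_rot_of_distTriang T hT)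
  have := Groth.Agent.DRingLib.quasiIso_resψ P₀
  have := Groth.Agent.DRingLib.quasiIso_resψ R₀
  let φ := (Groth.Agent.DRingLib.resP A).map φ₀
  have hw : φ ≫ (Groth.Agent.DRingLib.resψ A).app R₀ = (Groth.Agent.DRingLib.resψ A).app P₀ ≫ φ₀ := (Groth.Agent.DRingLib.resψ A).naturality φ₀
  let e := e₀ ≪≫ (isoTriangleOfIso₁₂ _ _
    (DerivedCategory.mappingCone_triangle_distinguished φ)
    (DerivedCategory.mappingCone_triangle_distinguished φ₀)
    (@asIso _ _ _ _ _ (isIso_Q_map ((Groth.Agent.DRingLib.resψ A).app P₀) ‹_›)) (@asIso _ _ _ _ _ (isIso_Q_map ((Groth.Agent.DRingLib.resψ A).app R₀) ‹_›))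
    ((DerivedCategory.Q.map_comp _ _).symm.trans
      ((congrArg DerivedCategory.Q.map hw).trans (DerivedCategory.Q.map_comp _ _)))).symm
  let e' := (rotate (Dual.D A)).mapIso e.symm ≪≫ ((triangleRotation (Dual.D A)).counitIso.app T)
  let c : DerivedCategory.Q.obj (((Groth.Agent.DRingLib.resP A).obj P₀)⟦(1 : ℤ)⟧) ≅
      (DerivedCategory.Q.mapTriangle.obj (CochainComplex.mappingCone.triangle φ)).rotate.obj₃ :=
    (DerivedCategory.Q.commShiftIso (1 : ℤ)).app _
  refine ⟨CochainComplex.mappingCone.triangleRotateShortComplex φ,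
    CochainComplex.mappingCone.triangleRotateShortComplexSplitting φ,
    kf_resP R₀, KFlatLib.isKFlat_mappingCone (kf_resP P₀) (kf_resP R₀) φ,
    KFlatLib.isKFlat_shift (kf_resP P₀) 1,
    Triangle.π₁.mapIso e', Triangle.π₂.mapIso e', c ≪≫ Triangle.π₃.mapIso e', ?_, ?_⟩
  · exact e'.hom.comm₁.symm
  · refine e'.hom.comm₂.symm.trans ?_
    show _ = _ ≫ c.hom ≫ e'.hom.hom₃
    rw [← Category.assoc]
    rfl

/-- `K ↦ RHom(K, L)` is exact on distinguished triangles. -/
theorem isTri_RHom (L : Dual.D A) (T : Triangle (Dual.D A)) (hT : T ∈ distTriang (Dual.D A)) :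
    IsTri (RHomMap T.mor₂ L) (RHomMap T.mor₁ L) := by
  obtain ⟨I, hI, ⟨eI⟩⟩ := KInjUse.exists_iso_Q_kInjective L
  obtain ⟨S, hS, hf₁, hf₂, hf₃, e₁, e₂, e₃, w₁, w₂⟩ := exists_split_rep_kf T hT
  have w : homPre I S.g ≫ homPre I S.f = 0 := by
    refine HomologicalComplex.hom_ext _ _ fun i => ModuleCat.hom_ext (LinearMap.ext fun z =>
      CochainComplex.HomComplex.Cochain.ext _ _ fun q q' h => ?_)
    show S.f.f q ≫ S.g.f q ≫ (ap z).v q q' h = 0
    rw [← Category.assoc, ← comp_f, S.zero, zero_f, zero_comp]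
  have hbase : IsTri (DerivedCategory.Q.map (homPre I S.g)) (DerivedCategory.Q.map (homPre I S.f)) :=
    ⟨_, DerivedCategory.triangleOfSES_distinguished (shortExact_homPre hS I w), Iso.refl _,
      Iso.refl _, Iso.refl _, (Category.id_comp _).trans (Category.comp_id _).symm,
      (Category.id_comp _).trans (Category.comp_id _).symm⟩
  let i : ∀ {P : DRing.Cx A} {K : Dual.D A}, KF P → (DerivedCategory.Q.obj P ≅ K) →
      (DerivedCategory.Q.obj (DRing.homCx P I) ≅ (RHomR A K).obj L) :=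
    fun {P K} hP f => (haveI := isIso_θ (I := I) hP; asIso (θ P I)) ≪≫
      (RHomR A (DerivedCategory.Q.obj P)).mapIso eI.symm ≪≫ ((RHom A).mapIso f.op).symm.app L
  have key : ∀ {P P' : DRing.Cx A} {K K' : Dual.D A} (hP : KF P) (hP' : KF P')
      (f : DerivedCategory.Q.obj P ≅ K) (f' : DerivedCategory.Q.obj P' ≅ K') (a : P ⟶ P') (b : K ⟶ K'),
      f.hom ≫ b = DerivedCategory.Q.map a ≫ f'.hom →
      (i hP' f').hom ≫ RHomMap b L = DerivedCategory.Q.map (homPre I a) ≫ (i hP f).hom := by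
    intro P P' K K' hP hP' f f' a b hab
    have h1 : RHomMap f'.inv L ≫ RHomMap b L = RHomMap (DerivedCategory.Q.map a) L ≫ RHomMap f.inv L := by
      show ((RHom A).map f'.inv.op).app L ≫ ((RHom A).map b.op).app L =
        ((RHom A).map (DerivedCategory.Q.map a).op).app L ≫ ((RHom A).map f.inv.op).app L
      refine (NatTrans.comp_app _ _ _).symm.trans (Eq.trans ?_ (NatTrans.comp_app _ _ _))
      rw [← Functor.map_comp, ← Functor.map_comp, ← op_comp, ← op_comp]
      have : b ≫ f'.inv = f.inv ≫ DerivedCategory.Q.map a := by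
        rw [Iso.eq_inv_comp, ← Category.assoc, hab, Category.assoc, f'.hom_inv_id, Category.comp_id]
      rw [this]
    have h2 : (RHomR A (DerivedCategory.Q.obj P')).map eI.inv ≫
        RHomMap (DerivedCategory.Q.map a) L =
        RHomMap (DerivedCategory.Q.map a) (DerivedCategory.Q.obj I) ≫
          (RHomR A (DerivedCategory.Q.obj P)).map eI.inv :=
      ((RHom A).map (DerivedCategory.Q.map a).op).naturality eI.inv
    show ((haveI := isIso_θ (I := I) hP'; asIso (θ P' I)).hom ≫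
        (RHomR A (DerivedCategory.Q.obj P')).map eI.inv ≫ RHomMap f'.inv L) ≫ RHomMap b L =
      DerivedCategory.Q.map (homPre I a) ≫ ((haveI := isIso_θ (I := I) hP; asIso (θ P I)).hom ≫
        (RHomR A (DerivedCategory.Q.obj P)).map eI.inv ≫ RHomMap f.inv L)
    simp only [asIso_hom, Category.assoc]
    rw [h1, reassoc_of% h2, reassoc_of% (θ_naturality a I)]
  exact hbase.of_iso (i hf₃ e₃) (i hf₂ e₂) (i hf₁ e₁) (key hf₂ hf₃ e₂ e₃ S.g _ w₂)
    (key hf₁ hf₂ e₁ e₂ S.f _ w₁)

end DTenLib
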