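import Groth.Agent.DTenLib.BaseChange
import Groth.Agent.DTenLib.RHom
import Groth.Prelude.Def_DTen5

/-!
# Base change is monoidal; the comparison `rhomBC` is invertible
-/

set_option autoImplicit false

universe u

open CategoryTheory CategoryTheory.Limits MonoidalCategory HomologicalComplex
attribute [local instance] HasDerivedCategory.standard

namespace DTenLib

open DTen

variable {R R' : Type u} [CommRing R] [CommRing R'] (φ : R →+* R')

/-- Extension of scalars commutes with tensor products of complexes. -/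
noncomputable def extTenIso (P Q : DRing.Cx R) :
    (extCx φ).obj P ⊗ (extCx φ).obj Q ≅ (extCx φ).obj (P ⊗ Q) :=
  KFlatLib.totalMapIso (curriedTensor (ModuleCat.{u} R)) (curriedTensor (ModuleCat.{u} R'))
    (ModuleCat.extendScalars.{u, u, u} φ) (ModuleCat.extendScalars.{u, u, u} φ)
    (ModuleCat.extendScalars.{u, u, u} φ)
    (fun a b => Functor.Monoidal.μIso (ModuleCat.extendScalars.{u, u, u} φ) a b)
    (fun f b => Functor.LaxMonoidal.μ_natural_left (ModuleCat.extendScalars.{u, u, u} φ) f b)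
    (fun a {_ _} g => Functor.LaxMonoidal.μ_natural_right (ModuleCat.extendScalars.{u, u, u} φ) a g)
    P Q

/-- The units followed by the lax comparison of restriction. -/
noncomputable def νCx (P Q : DRing.Cx R) :
    P ⊗ Q ⟶ (resCx φ).obj ((extCx φ).obj P ⊗ (extCx φ).obj Q) :=
  ((unitCx φ).app P ⊗ₘ (unitCx φ).app Q) ≫ resTenCx φ ((extCx φ).obj P) ((extCx φ).obj Q)

theorem νCx_extTenIso (P Q : DRing.Cx R) :
    νCx φ P Q ≫ (resCx φ).map (extTenIso φ P Q).hom = (unitCx φ).app (P ⊗ Q) := by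
  refine HomologicalComplex.hom_ext _ _ fun n => mapBifunctor.hom_ext fun p q (h : p + q = n) =>
    ModuleCat.MonoidalCategory.tensor_ext fun x y => ?_
  letI : Algebra R R' := φ.toAlgebra
  let x' : ((extCx φ).obj P).X p := ((ModuleCat.extendRestrictScalarsAdj.{u, u, u} φ).unit.app (P.X p)).hom x
  let y' : ((extCx φ).obj Q).X q := ((ModuleCat.extendRestrictScalarsAdj.{u, u, u} φ).unit.app (Q.X q)).hom y
  let xr : ((resCx φ).obj ((extCx φ).obj P)).X p := (((unitCx φ).app P).f p).hom x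
  let yr : ((resCx φ).obj ((extCx φ).obj Q)).X q := (((unitCx φ).app Q).f q).hom y
  have h1 : ((((unitCx φ).app P ⊗ₘ (unitCx φ).app Q)).f n).hom
      ((KFlatLib.ιT P Q p q n h).hom (x ⊗ₜ y)) =
      (KFlatLib.ιT ((resCx φ).obj ((extCx φ).obj P)) ((resCx φ).obj ((extCx φ).obj Q)) p q n h).hom
        (xr ⊗ₜ[R] yr) :=
    congr($(KFlatLib.ιT_tMap ((unitCx φ).app P) ((unitCx φ).app Q) p q n h).hom (x ⊗ₜ y))
  show (((extTenIso φ P Q).hom.f n)).hom (((resTenCx φ _ _).f n).hom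
      (((((unitCx φ).app P ⊗ₘ (unitCx φ).app Q)).f n).hom ((KFlatLib.ιT P Q p q n h).hom (x ⊗ₜ y)))) =
    (((unitCx φ).app (P ⊗ Q)).f n).hom ((KFlatLib.ιT P Q p q n h).hom (x ⊗ₜ y))
  rw [h1]
  have h2 : ((resTenCx φ ((extCx φ).obj P) ((extCx φ).obj Q)).f n).hom
      ((KFlatLib.ιT ((resCx φ).obj ((extCx φ).obj P)) ((resCx φ).obj ((extCx φ).obj Q)) p q n h).hom
        (xr ⊗ₜ[R] yr)) =
      ((ιTensorObj ((extCx φ).obj P) ((extCx φ).obj Q) p q n h)).hom (x' ⊗ₜ[R'] y') :=
    congr($(ι_resTenCx φ ((extCx φ).obj P) ((extCx φ).obj Q) p q n h).hom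
      (xr ⊗ₜ[R] yr))
  refine (congrArg ((extTenIso φ P Q).hom.f n).hom h2).trans ?_
  refine (congr($(KFlatLib.ι_totalMapHom (curriedTensor (ModuleCat.{u} R)) (curriedTensor (ModuleCat.{u} R'))
    (ModuleCat.extendScalars.{u, u, u} φ) (ModuleCat.extendScalars.{u, u, u} φ)
    (ModuleCat.extendScalars.{u, u, u} φ)
    (fun a b => Functor.Monoidal.μIso (ModuleCat.extendScalars.{u, u, u} φ) a b) P Q p q n h).hom
      (x' ⊗ₜ[R'] y'))).trans ?_
  have h3 : (Functor.LaxMonoidal.μ (ModuleCat.extendScalars.{u, u, u} φ) (P.X p) (Q.X q)).hom (x' ⊗ₜ[R'] y') =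
      ((ModuleCat.extendRestrictScalarsAdj.{u, u, u} φ).unit.app (P.X p ⊗ Q.X q)).hom (x ⊗ₜ[R] y) :=
    congr($(Functor.Monoidal.δ_μ (ModuleCat.extendScalars.{u, u, u} φ) (P.X p) (Q.X q)).hom
      (((ModuleCat.extendRestrictScalarsAdj.{u, u, u} φ).unit.app (P.X p ⊗ Q.X q)).hom (x ⊗ₜ[R] y)))
  refine (congrArg ((ModuleCat.extendScalars.{u, u, u} φ).map (KFlatLib.ιT P Q p q n h)).hom h3).trans ?_
  exact congr($((ModuleCat.extendRestrictScalarsAdj.{u, u, u} φ).unit.naturality (KFlatLib.ιT P Q p q n h)).hom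
    (x ⊗ₜ[R] y)).symm

variable [HasLTen R] [HasLTen R'] [HasLBase φ] [HasResTen φ] [ResLegIso φ]

/-- The map `X ⊗ K ⟶ res (LBase X ⊗ LBase K)`. -/
noncomputable def ν (X K : Dual.D R) :
    (LTen₂ R).obj (X, K) ⟶ (DRing.restrictD φ).obj ((LTen₂ R').obj ((LBase φ).obj X, (LBase φ).obj K)) :=
  (LTen₂ R).map (Prod.mkHom ((baseAdj φ).unit.app X) ((baseAdj φ).unit.app K)) ≫
    (resPF φ).app ((LBase φ).obj X, (LBase φ).obj K)

theorem ν_naturality {X X' K K' : Dual.D R} (f : X ⟶ X') (g : K ⟶ K') :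
    (LTen₂ R).map (Prod.mkHom f g) ≫ ν φ X' K' =
      ν φ X K ≫ (DRing.restrictD φ).map ((LTen₂ R').map (Prod.mkHom ((LBase φ).map f) ((LBase φ).map g))) := by
  rw [ν, ν, Category.assoc, ← Category.assoc, ← Functor.map_comp]
  have h1 : Prod.mkHom f g ≫ Prod.mkHom ((baseAdj φ).unit.app X') ((baseAdj φ).unit.app K') =
      Prod.mkHom ((baseAdj φ).unit.app X) ((baseAdj φ).unit.app K) ≫
        Prod.mkHom ((DRing.restrictD φ).map ((LBase φ).map f)) ((DRing.restrictD φ).map ((LBase φ).map g)) :=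
    Prod.ext ((baseAdj φ).unit.naturality f) ((baseAdj φ).unit.naturality g)
  rw [h1, Functor.map_comp, Category.assoc]
  exact congrArg _ ((resPF φ).naturality (Prod.mkHom ((LBase φ).map f) ((LBase φ).map g)))

theorem ν_rep (P Q : DRing.Cx R) :
    ν φ (DRing.toD P) (DRing.toD Q) ≫ (DRing.restrictD φ).map
        ((LTen₂ R').map (Prod.mkHom ((baseCmp φ).app P) ((baseCmp φ).app Q)) ≫
          (ε R').app ((extCx φ).obj P, (extCx φ).obj Q)) =
      (ε R).app (P, Q) ≫ DerivedCategory.Q.map (νCx φ P Q) ≫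
        (resFactors φ).inv.app ((extCx φ).obj P ⊗ (extCx φ).obj Q) := by
  have hn : (resPF φ).app ((LBase φ).obj (DRing.toD P), (LBase φ).obj (DRing.toD Q)) ≫
      (DRing.restrictD φ).map ((LTen₂ R').map (Prod.mkHom ((baseCmp φ).app P) ((baseCmp φ).app Q))) =
      (LTen₂ R).map (Prod.mkHom ((DRing.restrictD φ).map ((baseCmp φ).app P))
        ((DRing.restrictD φ).map ((baseCmp φ).app Q))) ≫
        (resPF φ).app ((QQ R').obj ((extCx φ).obj P, (extCx φ).obj Q)) :=
    ((resPF φ).naturality (Prod.mkHom ((baseCmp φ).app P) ((baseCmp φ).app Q))).symm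
  have hf : (resPF φ).app ((QQ R').obj ((extCx φ).obj P, (extCx φ).obj Q)) ≫
      (DRing.restrictD φ).map ((ε R').app ((extCx φ).obj P, (extCx φ).obj Q)) =
      (resβA φ).app ((extCx φ).obj P, (extCx φ).obj Q) ≫
        (resFactors φ).inv.app ((extCx φ).obj P ⊗ (extCx φ).obj Q) := by
    rw [← resPF_fac, Category.assoc]
    refine congrArg _ ?_
    show _ = ((DRing.restrictD φ).map _ ≫ (resFactors φ).hom.app _) ≫ _
    rw [Category.assoc]
    exact ((congrArg _ ((resFactors φ).hom_inv_id_app _)).trans (Category.comp_id _)).symm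
  have hγ : ∀ T : DRing.Cx R,
      (baseAdj φ).unit.app (DRing.toD T) ≫ (DRing.restrictD φ).map ((baseCmp φ).app T) ≫
        (resFactors φ).hom.app ((extCx φ).obj T) = DerivedCategory.Q.map ((unitCx φ).app T) := fun T => by
    rw [← Category.assoc]
    refine (congrArg (· ≫ _) (baseCmp_fac φ T)).trans ?_
    show (DerivedCategory.Q.map _ ≫ _) ≫ _ = _
    rw [Category.assoc]
    exact (congrArg _ ((resFactors φ).inv_hom_id_app _)).trans (Category.comp_id _)
  have hε : (LTen₂ R).map (Prod.mkHom (DerivedCategory.Q.map ((unitCx φ).app P))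
        (DerivedCategory.Q.map ((unitCx φ).app Q))) ≫
      (ε R).app ((resCx φ).obj ((extCx φ).obj P), (resCx φ).obj ((extCx φ).obj Q)) =
      (ε R).app (P, Q) ≫ DerivedCategory.Q.map ((unitCx φ).app P ⊗ₘ (unitCx φ).app Q) := by
    rw [MonoidalCategory.tensorHom_def]
    exact (ε R).naturality (Prod.mkHom ((unitCx φ).app P) ((unitCx φ).app Q))
  rw [ν, Functor.map_comp, Category.assoc, reassoc_of% hn, hf]
  have hA : (resβA φ).app ((extCx φ).obj P, (extCx φ).obj Q) =
      (LTen₂ R).map (Prod.mkHom ((resFactors φ).hom.app ((extCx φ).obj P)) ((resFactors φ).hom.app ((extCx φ).obj Q))) ≫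
        (ε R).app ((resCx φ).obj ((extCx φ).obj P), (resCx φ).obj ((extCx φ).obj Q)) ≫
          DerivedCategory.Q.map (resTenCx φ ((extCx φ).obj P) ((extCx φ).obj Q)) := rfl
  rw [hA, Category.assoc, Category.assoc, ← Functor.map_comp_assoc, ← Functor.map_comp_assoc]
  rw [show (Prod.mkHom ((baseAdj φ).unit.app (DRing.toD P)) ((baseAdj φ).unit.app (DRing.toD Q)) ≫
      Prod.mkHom ((DRing.restrictD φ).map ((baseCmp φ).app P)) ((DRing.restrictD φ).map ((baseCmp φ).app Q))) ≫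
      Prod.mkHom ((resFactors φ).hom.app ((extCx φ).obj P)) ((resFactors φ).hom.app ((extCx φ).obj Q)) =
      Prod.mkHom (DerivedCategory.Q.map ((unitCx φ).app P)) (DerivedCategory.Q.map ((unitCx φ).app Q)) from
    Prod.ext ((Category.assoc _ _ _).trans (hγ P)) ((Category.assoc _ _ _).trans (hγ Q))]
  rw [reassoc_of% hε, νCx, Functor.map_comp, Category.assoc]

/-- `LBase X ⊗ LBase K` has the universal property of `LBase (X ⊗ K)`. -/
theorem bijective_ν (X K : Dual.D R) (M : Dual.D R') :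
    Function.Bijective fun f : (LTen₂ R').obj ((LBase φ).obj X, (LBase φ).obj K) ⟶ M =>
      ν φ X K ≫ (DRing.restrictD φ).map f := by
  obtain ⟨P, hP, ⟨eX⟩⟩ := exists_kf_rep X
  obtain ⟨Q, hQ, ⟨eK⟩⟩ := exists_kf_rep K
  haveI := isIso_baseCmp φ hP
  haveI := isIso_baseCmp φ hQ
  haveI := isIso_ε (A := R') ((extCx φ).obj P) ((extCx φ).obj Q) (Or.inl (KFlatLib.isKFlat_extend φ hP))
  haveI := isIso_ε (A := R) P Q (Or.inl hP)
  haveI : IsIso (Prod.mkHom ((baseCmp φ).app P) ((baseCmp φ).app Q)) :=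
    (isIso_prod_iff _ _).2 ⟨inferInstance, inferInstance⟩
  let i := (LTen₂ R').map (Prod.mkHom ((baseCmp φ).app P) ((baseCmp φ).app Q)) ≫
    (ε R').app ((extCx φ).obj P, (extCx φ).obj Q)
  let t : DRing.toD ((extCx φ).obj P ⊗ (extCx φ).obj Q) ≅ DRing.toD ((extCx φ).obj (P ⊗ Q)) :=
    DerivedCategory.Q.mapIso (extTenIso φ P Q)
  have h1 : ν φ (DRing.toD P) (DRing.toD Q) ≫ (DRing.restrictD φ).map (i ≫ t.hom) =
      (ε R).app (P, Q) ≫ (baseγ φ).app (P ⊗ Q) := by
    rw [Functor.map_comp, ← Category.assoc, ν_rep, Category.assoc, Category.assoc]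
    refine congrArg _ ?_
    show _ = DerivedCategory.Q.map _ ≫ _
    rw [← νCx_extTenIso, Functor.map_comp, Category.assoc]
    exact congrArg _ ((resFactors φ).inv.naturality (extTenIso φ P Q).hom).symm
  have h2 : Function.Bijective fun f : (LTen₂ R').obj ((LBase φ).obj (DRing.toD P), (LBase φ).obj (DRing.toD Q)) ⟶ M =>
      ν φ (DRing.toD P) (DRing.toD Q) ≫ (DRing.restrictD φ).map f := by
    have := (bijective_baseγ φ (kf_tensor hP hQ) M)
    constructor
    · intro f f' hf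
      rw [← cancel_epi (inv (i ≫ t.hom))]
      refine this.1 ((cancel_epi ((ε R).app (P, Q))).1 ?_)
      rw [← reassoc_of% h1, ← reassoc_of% h1, ← Functor.map_comp, ← Functor.map_comp,
        IsIso.hom_inv_id_assoc, IsIso.hom_inv_id_assoc]
      exact hf
    · intro g
      obtain ⟨f, hf⟩ := this.2 (inv ((ε R).app (P, Q)) ≫ g)
      refine ⟨(i ≫ t.hom) ≫ f, ?_⟩
      show _ ≫ _ = g
      rw [Functor.map_comp, reassoc_of% h1]
      exact (congrArg _ hf).trans (IsIso.hom_inv_id_assoc _ _)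
  haveI : IsIso (Prod.mkHom ((LBase φ).map eX.hom) ((LBase φ).map eK.hom)) :=
    (isIso_prod_iff _ _).2 ⟨inferInstance, inferInstance⟩
  haveI : IsIso (Prod.mkHom eX.hom eK.hom) := (isIso_prod_iff _ _).2 ⟨inferInstance, inferInstance⟩
  have h3 := ν_naturality φ eX.hom eK.hom
  constructor
  · intro f f' hf
    rw [← cancel_epi ((LTen₂ R').map (Prod.mkHom ((LBase φ).map eX.hom) ((LBase φ).map eK.hom)))]
    refine h2.1 ?_
    show _ ≫ _ = _ ≫ _
    rw [Functor.map_comp, Functor.map_comp, ← reassoc_of% h3, ← reassoc_of% h3]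
    exact congrArg _ hf
  · intro g
    obtain ⟨f, hf⟩ := h2.2 ((LTen₂ R).map (Prod.mkHom eX.hom eK.hom) ≫ g)
    refine ⟨inv ((LTen₂ R').map (Prod.mkHom ((LBase φ).map eX.hom) ((LBase φ).map eK.hom))) ≫ f, ?_⟩
    rw [← cancel_epi ((LTen₂ R).map (Prod.mkHom eX.hom eK.hom))]
    show _ ≫ _ ≫ _ = _
    rw [reassoc_of% h3, ← Functor.map_comp, IsIso.hom_inv_id_assoc]
    exact hf

variable [HasRHom R] [HasRHom R']

theorem core_comp {X K : Dual.D R} {M : Dual.D R'}
    (p : (LBase φ).obj X ⟶ (RHomR R' ((LBase φ).obj K)).obj M) :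
    (LTen₂ R).map (Prod.mkHom ((baseAdj φ).homEquiv _ _ p) (𝟙 K)) ≫ rhomBCCore φ K M =
      ν φ X K ≫ (DRing.restrictD φ).map
        ((LTen₂ R').map (Prod.mkHom p (𝟙 ((LBase φ).obj K))) ≫ ev ((LBase φ).obj K) M) := by
  have hn : (resPF φ).app ((LBase φ).obj X, (LBase φ).obj K) ≫
      (DRing.restrictD φ).map ((LTen₂ R').map (Prod.mkHom p (𝟙 ((LBase φ).obj K)))) =
      (LTen₂ R).map (Prod.mkHom ((DRing.restrictD φ).map p) ((DRing.restrictD φ).map (𝟙 ((LBase φ).obj K)))) ≫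
        (resPF φ).app ((RHomR R' ((LBase φ).obj K)).obj M, (LBase φ).obj K) :=
    ((resPF φ).naturality (Prod.mkHom p (𝟙 ((LBase φ).obj K)))).symm
  rw [ν, Functor.map_comp, Category.assoc, reassoc_of% hn, rhomBCCore, ← Functor.map_comp_assoc,
    ← Functor.map_comp_assoc]
  refine congrArg (fun t => (LTen₂ R).map t ≫ _) (Prod.ext ?_ ?_)
  · show (baseAdj φ).homEquiv _ _ p ≫ 𝟙 _ = (baseAdj φ).unit.app X ≫ (DRing.restrictD φ).map p
    rw [Category.comp_id, Adjunction.homEquiv_unit]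
  · show 𝟙 K ≫ (baseAdj φ).unit.app K = (baseAdj φ).unit.app K ≫ (DRing.restrictD φ).map (𝟙 _)
    rw [CategoryTheory.Functor.map_id, Category.id_comp]
    exact (Category.comp_id _).symm

theorem isIso_rhomBC (K : Dual.D R) (M : Dual.D R') : IsIso (rhomBC φ K M) := by
  have bij : ∀ X : Dual.D R, Function.Bijective
      fun q : X ⟶ (DRing.restrictD φ).obj ((RHomR R' ((LBase φ).obj K)).obj M) => q ≫ rhomBC φ K M := by
    intro X
    have key : ∀ p, (baseAdj φ).homEquiv _ _ p ≫ rhomBC φ K M =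
        rhomHomEquiv X K _ (ν φ X K ≫ (DRing.restrictD φ).map
          ((rhomAdj R' ((LBase φ).obj K)).homEquiv _ _ |>.symm p)) := by
      intro p
      rw [Adjunction.homEquiv_counit]
      erw [← core_comp φ p]
      exact (Adjunction.homEquiv_naturality_left (rhomAdj R K) ((baseAdj φ).homEquiv _ _ p) (rhomBCCore φ K M)).symm
    have h := ((rhomAdj R K).homEquiv X _).bijective.comp ((bijective_ν φ X K M).comp
      ((rhomAdj R' ((LBase φ).obj K)).homEquiv _ M).symm.bijective)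
    have h' : Function.Bijective fun p : (LBase φ).obj X ⟶ (RHomR R' ((LBase φ).obj K)).obj M =>
        (baseAdj φ).homEquiv _ _ p ≫ rhomBC φ K M := by
      refine (congrArg Function.Bijective (funext fun p => ?_)).mpr h
      exact key p
    exact (Function.Bijective.of_comp_iff _ ((baseAdj φ).homEquiv X _).bijective).1 h'
  obtain ⟨g, hg⟩ := (bij _).2 (𝟙 _)
  exact ⟨g, (bij _).1 (by simp only [Category.assoc]; rw [show g ≫ rhomBC φ K M = 𝟙 _ from hg]; simp), hg⟩

end DTenLib
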