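import Groth.Agent.DRingLib.KFlat
import Groth.Prelude.Def_DTen2

/-!
# Values of the derived tensor product on K-flat complexes
-/

set_option autoImplicit false

universe u

open CategoryTheory CategoryTheory.Limits MonoidalCategory HomologicalComplex
attribute [local instance] HasDerivedCategory.standard

namespace DTenLib

open DTen
open Groth.Agent.DRingLib (resP resψ quasiIso_resψ good_resP quasiIso_tensor_of_kFlat)

variable {A : Type u} [CommRing A]

abbrev KF (K : DRing.Cx A) : Prop := DRing.IsKFlat A K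

theorem kf_resP (K : DRing.Cx A) : KF ((resP A).obj K) := (good_resP K).1

theorem kf_tensor {K L : DRing.Cx A} (hK : KF K) (hL : KF L) : KF (K ⊗ L) := fun M hM =>
  KFlatLib.acyclic_of_iso (α_ M K L) (hL (M ⊗ K) (hK M hM))

theorem kf_unit : KF (𝟙_ (DRing.Cx A)) := fun M hM =>
  KFlatLib.acyclic_of_iso (ρ_ M).symm hM

theorem kf_of_iso {K L : DRing.Cx A} (e : K ≅ L) (hK : KF K) : KF L := fun M hM =>
  KFlatLib.acyclic_of_iso (whiskerLeftIso M e) (hK M hM)

/-- Maps of quasi-isomorphisms with a K-flat source factor. -/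
theorem quasiIso_tensorHom_left {K K' L L' : DRing.Cx A} (f : K ⟶ K') (g : L ⟶ L') [QuasiIso f]
    [QuasiIso g] (hL : KF L) (hK' : KF K') : QuasiIso (f ⊗ₘ g) := by
  have h1 : QuasiIso (f ▷ L) := by
    rw [← MonoidalCategory.tensorHom_id]
    exact KFlatLib.quasiIso_tMap_right hL f
  have h2 : QuasiIso (K' ◁ g) := by
    rw [← MonoidalCategory.id_tensorHom]
    exact KFlatLib.quasiIso_tMap_left hK' g
  rw [MonoidalCategory.tensorHom_def]
  infer_instance

theorem quasiIso_tensorHom_right {K K' L L' : DRing.Cx A} (f : K ⟶ K') (g : L ⟶ L') [QuasiIso f]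
    [QuasiIso g] (hK : KF K) (hL' : KF L') : QuasiIso (f ⊗ₘ g) := by
  have h1 : QuasiIso (K ◁ g) := by
    rw [← MonoidalCategory.id_tensorHom]
    exact KFlatLib.quasiIso_tMap_left hK g
  have h2 : QuasiIso (f ▷ L') := by
    rw [← MonoidalCategory.tensorHom_id]
    exact KFlatLib.quasiIso_tMap_right hL' f
  rw [MonoidalCategory.tensorHom_def']
  infer_instance

/-- Functorial K-flat replacement of a pair. -/
noncomputable abbrev res₂ (A : Type u) [CommRing A] :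
    DRing.Cx A × DRing.Cx A ⥤ DRing.Cx A × DRing.Cx A :=
  (resP A).prod (resP A)

noncomputable def resψ₂ (A : Type u) [CommRing A] : res₂ A ⟶ 𝟭 _ where
  app X := ((resψ A).app X.1, (resψ A).app X.2)
  naturality X Y f := Prod.ext ((resψ A).naturality f.1) ((resψ A).naturality f.2)

theorem qis_resψ (K : DRing.Cx A) : qis A ((resψ A).app K) := quasiIso_resψ K

theorem qis₂_resψ₂ (X : DRing.Cx A × DRing.Cx A) : qis₂ A ((resψ₂ A).app X) :=
  ⟨qis_resψ X.1, qis_resψ X.2⟩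

theorem isIso_Q_map {K L : DRing.Cx A} (f : K ⟶ L) (h : QuasiIso f) :
    IsIso (DerivedCategory.Q.map f) := inferInstance

theorem quasiIso_res_map {K L : DRing.Cx A} (f : K ⟶ L) (hf : QuasiIso f) :
    QuasiIso ((resP A).map f) := by
  have := quasiIso_resψ K
  have := quasiIso_resψ L
  have : QuasiIso ((resP A).map f ≫ (resψ A).app L) := by
    rw [(resψ A).naturality f]
    change QuasiIso ((resψ A).app K ≫ f)
    exact quasiIso_comp _ _
  exact quasiIso_of_comp_right ((resP A).map f) ((resψ A).app L)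

theorem isIso_tensor₂_map {X Y : DRing.Cx A × DRing.Cx A} (f : X ⟶ Y) (h1 : QuasiIso f.1)
    (h2 : QuasiIso f.2) (h : (KF X.2 ∧ KF Y.1) ∨ (KF X.1 ∧ KF Y.2)) :
    IsIso ((tensor₂ A).map f) := by
  have : QuasiIso (f.1 ⊗ₘ f.2) := h.elim (fun h => quasiIso_tensorHom_left _ _ h.1 h.2)
    (fun h => quasiIso_tensorHom_right _ _ h.1 h.2)
  have e : (tensorT A).map f = f.1 ⊗ₘ f.2 := (MonoidalCategory.tensorHom_def f.1 f.2).symm
  show IsIso (DerivedCategory.Q.map ((tensorT A).map f))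
  rw [e]
  infer_instance

theorem inverted_res₂ : (qis₂ A).IsInvertedBy (res₂ A ⋙ tensor₂ A) := fun X Y f hf =>
  isIso_tensor₂_map ((res₂ A).map f) (quasiIso_res_map f.1 hf.1) (quasiIso_res_map f.2 hf.2)
    (Or.inl ⟨kf_resP _, kf_resP _⟩)

theorem exists_derived₂ : ∃ (G : Dual.D A × Dual.D A ⥤ Dual.D A) (α : QQ A ⋙ G ⟶ tensor₂ A),
    G.IsRightKanExtension α ∧ ∀ K L : DRing.Cx A, KF K ∨ KF L → IsIso (α.app (K, L)) := by
  have := KFlatLib.isRightKanExtension_derivedOfRes (QQ A) (qis₂ A) (tensor₂ A) (res₂ A) (resψ₂ A)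
    qis₂_resψ₂ (fun X => isIso_tensor₂_map _ (quasiIso_resψ _) (quasiIso_resψ _)
      (Or.inl ⟨kf_resP _, kf_resP _⟩)) inverted_res₂
  refine ⟨_, KFlatLib.derivedOfResα (QQ A) (qis₂ A) (tensor₂ A) (res₂ A) (resψ₂ A) inverted_res₂,
    this, fun K L h => ?_⟩
  rw [KFlatLib.derivedOfResα_app]
  have := isIso_tensor₂_map ((resψ₂ A).app (K, L)) (quasiIso_resψ _) (quasiIso_resψ _)
    (h.elim (fun hK => Or.inl ⟨kf_resP _, hK⟩) (fun hL => Or.inr ⟨kf_resP _, hL⟩))
  exact @IsIso.comp_isIso _ _ _ _ _ _ _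
    (inferInstanceAs (IsIso ((Localization.fac _ inverted_res₂ (QQ A)).app (K, L)).hom)) this

/-- The counit is invertible when one of the complexes is K-flat. -/
theorem isIso_ε [HasLTen A] (K L : DRing.Cx A) (h : KF K ∨ KF L) : IsIso ((ε A).app (K, L)) := by
  obtain ⟨G, α, hG, hiso⟩ := exists_derived₂ (A := A)
  have := hiso K L h
  have h' : (LTen₂ A).IsRightKanExtension (ε A) :=
    Functor.IsLeftDerivedFunctor.isRightKanExtension _ _ (qis₂ A)
  exact KFlatLib.isIso_app_of_isRightKanExtension _ G _ α _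

/-- Functorial K-flat replacement of a triple. -/
noncomputable abbrev res₃ (A : Type u) [CommRing A] :
    DRing.Cx A × (DRing.Cx A × DRing.Cx A) ⥤ DRing.Cx A × (DRing.Cx A × DRing.Cx A) :=
  (resP A).prod (res₂ A)

noncomputable def resψ₃ (A : Type u) [CommRing A] : res₃ A ⟶ 𝟭 _ where
  app X := ((resψ A).app X.1, (resψ₂ A).app X.2)
  naturality X Y f := Prod.ext ((resψ A).naturality f.1) ((resψ₂ A).naturality f.2)

theorem isIso_tensor₃_map {X Y : DRing.Cx A × (DRing.Cx A × DRing.Cx A)} (f : X ⟶ Y)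
    (h1 : QuasiIso f.1) (h2 : QuasiIso f.2.1) (h3 : QuasiIso f.2.2) (hX₂ : KF X.2.1)
    (hX₃ : KF X.2.2) (hY₁ : KF Y.1) (hY₂ : KF Y.2.1) : IsIso ((tensor₃ A).map f) := by
  have := quasiIso_tensorHom_left f.2.1 f.2.2 hX₃ hY₂
  have : QuasiIso (f.1 ⊗ₘ (f.2.1 ⊗ₘ f.2.2)) :=
    quasiIso_tensorHom_left _ _ (kf_tensor hX₂ hX₃) hY₁
  have e : (tensorT₃ A).map f = f.1 ⊗ₘ (f.2.1 ⊗ₘ f.2.2) := by
    rw [MonoidalCategory.tensorHom_def f.1, MonoidalCategory.tensorHom_def f.2.1]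
    rfl
  show IsIso (DerivedCategory.Q.map ((tensorT₃ A).map f))
  rw [e]
  infer_instance

theorem inverted_res₃ : (qis₃ A).IsInvertedBy (res₃ A ⋙ tensor₃ A) := fun X Y f hf =>
  isIso_tensor₃_map ((res₃ A).map f) (quasiIso_res_map f.1 hf.1) (quasiIso_res_map f.2.1 hf.2.1)
    (quasiIso_res_map f.2.2 hf.2.2) (kf_resP _) (kf_resP _) (kf_resP _) (kf_resP _)

theorem exists_derived₃ : ∃ (G : Dual.D A × (Dual.D A × Dual.D A) ⥤ Dual.D A)
    (α : QQQ A ⋙ G ⟶ tensor₃ A), G.IsRightKanExtension α ∧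
      ∀ K L M : DRing.Cx A, KF K → KF L → IsIso (α.app (K, (L, M))) := by
  have := KFlatLib.isRightKanExtension_derivedOfRes (QQQ A) (qis₃ A) (tensor₃ A) (res₃ A) (resψ₃ A)
    (fun X => ⟨qis_resψ X.1, qis₂_resψ₂ X.2⟩)
    (fun X => isIso_tensor₃_map _ (quasiIso_resψ _) (quasiIso_resψ _) (quasiIso_resψ _)
      (kf_resP _) (kf_resP _) (kf_resP _) (kf_resP _)) inverted_res₃
  refine ⟨_, KFlatLib.derivedOfResα (QQQ A) (qis₃ A) (tensor₃ A) (res₃ A) (resψ₃ A) inverted_res₃,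
    this, fun K L M hK hL => ?_⟩
  rw [KFlatLib.derivedOfResα_app]
  have := isIso_tensor₃_map ((resψ₃ A).app (K, (L, M))) (quasiIso_resψ _) (quasiIso_resψ _)
    (quasiIso_resψ _) (kf_resP _) (kf_resP _) hK hL
  exact @IsIso.comp_isIso _ _ _ _ _ _ _
    (inferInstanceAs (IsIso ((Localization.fac _ inverted_res₃ (QQQ A)).app (K, (L, M))).hom)) this

theorem isIso_ε₃ [HasLTen₃ A] (K L M : DRing.Cx A) (hK : KF K) (hL : KF L) :
    IsIso ((ε₃ A).app (K, (L, M))) := by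
  obtain ⟨G, α, hG, hiso⟩ := exists_derived₃ (A := A)
  have := hiso K L M hK hL
  have h' : (LTen₃ A).IsRightKanExtension (ε₃ A) :=
    Functor.IsLeftDerivedFunctor.isRightKanExtension _ _ (qis₃ A)
  exact KFlatLib.isIso_app_of_isRightKanExtension _ G _ α _

/-- Every object is the image of a K-flat complex. -/
theorem exists_kf_rep (K : Dual.D A) :
    ∃ P : DRing.Cx A, KF P ∧ Nonempty (DerivedCategory.Q.obj P ≅ K) := by
  obtain ⟨P, hP, h⟩ := Groth.Agent.DRingLib.exists_good_rep K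
  exact ⟨P, hP.1, h⟩

theorem isIso_app_of_iso {C D : Type*} [Category* C] [Category* D] {F G : C ⥤ D} (τ : F ⟶ G)
    {X Y : C} (e : X ≅ Y) [IsIso (τ.app X)] : IsIso (τ.app Y) := by
  have h : τ.app Y = F.map e.inv ≫ τ.app X ≫ G.map e.hom := by
    rw [← Category.assoc, τ.naturality, Category.assoc, ← G.map_comp, e.inv_hom_id, G.map_id,
      Category.comp_id]
  rw [h]
  infer_instance

theorem isIso_assocR [HasLTen A] [HasLTen₃ A] (a b c : Dual.D A) :
    IsIso ((assocR A).app (a, (b, c))) := by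
  obtain ⟨P, hP, ⟨e₁⟩⟩ := exists_kf_rep a
  obtain ⟨Q, hQ, ⟨e₂⟩⟩ := exists_kf_rep b
  obtain ⟨R, -, ⟨e₃⟩⟩ := exists_kf_rep c
  have := isIso_ε₃ P Q R hP hQ
  have h : IsIso ((βR A).app (P, (Q, R))) := by
    have := isIso_ε (A := A) Q R (Or.inl hQ)
    have := isIso_ε (A := A) P (Q ⊗ R) (Or.inl hP)
    have : IsIso (Prod.mkHom (𝟙 (DerivedCategory.Q.obj P)) ((ε A).app (Q, R))) :=
      (isIso_prod_iff _ _).2 ⟨inferInstance, inferInstance⟩
    show IsIso ((LTen₂ A).map _ ≫ (ε A).app (P, Q ⊗ R))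
    infer_instance
  rw [← assocR_fac] at h
  have : IsIso ((assocR A).app ((QQQ A).obj (P, (Q, R)))) :=
    IsIso.of_isIso_comp_right _ ((ε₃ A).app (P, (Q, R)))
  exact isIso_app_of_iso (assocR A) (X := (QQQ A).obj (P, (Q, R)))
    (Iso.prod e₁ (Iso.prod e₂ e₃))

theorem isIso_assocL [HasLTen A] [HasLTen₃ A] (a b c : Dual.D A) :
    IsIso ((assocL A).app (a, (b, c))) := by
  obtain ⟨P, hP, ⟨e₁⟩⟩ := exists_kf_rep a
  obtain ⟨Q, hQ, ⟨e₂⟩⟩ := exists_kf_rep b
  obtain ⟨R, -, ⟨e₃⟩⟩ := exists_kf_rep c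
  have := isIso_ε₃ P Q R hP hQ
  have h : IsIso ((βL A).app (P, (Q, R))) := by
    have := isIso_ε (A := A) P Q (Or.inl hP)
    have := isIso_ε (A := A) (P ⊗ Q) R (Or.inl (kf_tensor hP hQ))
    have : IsIso (Prod.mkHom ((ε A).app (P, Q)) (𝟙 (DerivedCategory.Q.obj R))) :=
      (isIso_prod_iff _ _).2 ⟨inferInstance, inferInstance⟩
    show IsIso ((LTen₂ A).map _ ≫ (ε A).app (P ⊗ Q, R) ≫ DerivedCategory.Q.map (α_ P Q R).hom)
    infer_instance
  rw [← assocL_fac] at h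
  have : IsIso ((assocL A).app ((QQQ A).obj (P, (Q, R)))) :=
    IsIso.of_isIso_comp_right _ ((ε₃ A).app (P, (Q, R)))
  exact isIso_app_of_iso (assocL A) (X := (QQQ A).obj (P, (Q, R)))
    (Iso.prod e₁ (Iso.prod e₂ e₃))

theorem isIso_symm_app [HasLTen A] (K L : Dual.D A) : IsIso ((DTen.symm A).app (K, L)) := by
  obtain ⟨P, hP, ⟨e₁⟩⟩ := exists_kf_rep K
  obtain ⟨Q, -, ⟨e₂⟩⟩ := exists_kf_rep L
  have := isIso_ε (A := A) P Q (Or.inl hP)
  have := isIso_ε (A := A) Q P (Or.inr hP)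
  have h : IsIso ((DTen.symm A).app (DerivedCategory.Q.obj P, DerivedCategory.Q.obj Q) ≫
      (ε A).app (P, Q)) := by rw [symm_fac]; infer_instance
  have : IsIso ((DTen.symm A).app ((QQ A).obj (P, Q))) :=
    @IsIso.of_isIso_comp_right _ _ _ _ _ _ ((ε A).app (P, Q)) _ h
  exact isIso_app_of_iso (DTen.symm A) (X := (QQ A).obj (P, Q)) (Iso.prod e₁ e₂)

end DTenLib
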