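import Groth.Agent.DTenLib.PointObj
import Groth.Agent.DTenLib.Val
import Groth.Agent.KFlatLib.Alg

/-!
# Objects locally isomorphic to a shift of the ring are invertible
-/

set_option autoImplicit false
set_option linter.style.haveILetI false
set_option linter.unusedSectionVars false

universe u

open CategoryTheory CategoryTheory.Limits MonoidalCategory
open scoped TensorProduct
open Groth.Agent
open DTenLib.Point (hH)

attribute [local instance] HasDerivedCategory.standard

noncomputable section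

namespace DTenLib.SplitInverse

variable {A : Type u} [CommRing A]

/-- Near every maximal ideal, the cohomology is one free line. -/
def IsLocallyShiftUnit (L : Dual.D A) : Prop :=
  ∀ m : Ideal A, m.IsMaximal → ∃ a : ℤ, ∃ s ∉ m, ∃ v : (hH A a).obj L,
    (∀ i, i ≠ a → ∀ x : (hH A i).obj L, s • x = 0) ∧
      (∀ x, ∃ r : A, s • x = r • v) ∧ (∀ r : A, r • v = 0 → s * r = 0)

/-- The coordinate along `v`. -/
theorem exists_coord {M : Type u} [AddCommGroup M] [Module A M] {s : A} {v : M}
    (h1 : ∀ x, ∃ r : A, s • x = r • v) (h2 : ∀ r : A, r • v = 0 → s * r = 0) :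
    ∃ h : M →ₗ[A] A, ∀ (x : M) (r : A), s • x = r • v → h x = s * r := by
  choose r hr using h1
  have key : ∀ x (r' : A), s • x = r' • v → s * r x = s * r' := fun x r' h => by
    rw [← sub_eq_zero, ← mul_sub]
    exact h2 _ (by rw [sub_smul, ← hr, ← h, sub_self])
  refine ⟨{ toFun := fun x => s * r x, map_add' := fun x y => ?_, map_smul' := fun c x => ?_ },
    fun x r' h => key x r' h⟩
  · rw [← mul_add]
    exact key _ _ (by rw [smul_add, hr, hr, add_smul])
  · rw [RingHom.id_apply, smul_eq_mul]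
    rw [show c * (s * r x) = s * (c * r x) by ring]
    exact key _ _ (by rw [smul_comm, hr, mul_smul])

variable {L : Dual.D A}

theorem projective_hH (hloc : IsLocallyShiftUnit L) (hfin : ∀ i, Module.Finite A ((hH A i).obj L)) (i : ℤ) :
    Module.Projective A ((hH A i).obj L) := by
  haveI := hfin i
  obtain ⟨n, π, hπ⟩ := Module.Finite.exists_fin' A ((hH A i).obj L)
  let S : Ideal A :=
    { carrier := {s | ∃ σ : (hH A i).obj L →ₗ[A] (Fin n → A), π.comp σ = s • LinearMap.id}
      add_mem' := by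
        rintro s s' ⟨σ, h⟩ ⟨σ', h'⟩
        exact ⟨σ + σ', by rw [LinearMap.comp_add, h, h', add_smul]⟩
      zero_mem' := ⟨0, by rw [LinearMap.comp_zero, zero_smul]⟩
      smul_mem' := by
        rintro c s ⟨σ, h⟩
        exact ⟨c • σ, by rw [LinearMap.comp_smul, h, smul_eq_mul, mul_smul]⟩ }
  have hS : S = ⊤ := by
    by_contra hne
    obtain ⟨m, hm, hSm⟩ := Ideal.exists_le_maximal S hne
    obtain ⟨a, s, hs, v, hoff, h1, h2⟩ := hloc m hm
    by_cases hi : i = a
    · subst hi
      obtain ⟨h, hh⟩ := exists_coord h1 h2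
      obtain ⟨w, hw⟩ := hπ v
      have hmem : s * s ∈ S := ⟨(LinearMap.toSpanSingleton A _ w).comp h, LinearMap.ext fun x => by
        obtain ⟨r, hr⟩ := h1 x
        change π (h x • w) = (s * s) • x
        rw [map_smul, hw, hh x r hr, mul_smul, ← hr, ← mul_smul]⟩
      exact (hm.isPrime.mem_or_mem (hSm hmem)).elim hs hs
    · exact hs (hSm ⟨0, by
        rw [LinearMap.comp_zero]
        exact LinearMap.ext fun x => (hoff i hi x).symm⟩)
  obtain ⟨σ, hσ⟩ : (1 : A) ∈ S := hS ▸ Submodule.mem_top
  rw [one_smul] at hσ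
  exact Module.Projective.of_split σ π hσ

variable (L)

/-- The cohomology, as a complex with zero differentials. -/
def ECx : CochainComplex (ModuleCat.{u} A) ℤ where
  X i := (hH A i).obj L
  d _ _ := 0

/-- Its dual. -/
def ECx' : CochainComplex (ModuleCat.{u} A) ℤ where
  X i := ModuleCat.of A (Module.Dual A ((hH A (-i)).obj L))
  d _ _ := 0

variable {L}

theorem nonempty_iso_ECx (hloc : IsLocallyShiftUnit L) (hfin : ∀ i, Module.Finite A ((hH A i).obj L)) :
    Nonempty (DerivedCategory.Q.obj (ECx L) ≅ L) := by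
  let K := DerivedCategory.Q.objPreimage L
  let e : DerivedCategory.Q.obj K ≅ L := DerivedCategory.Q.objObjPreimageIso L
  let eH : ∀ i, (ECx L).X i ≅ K.homology i := fun i =>
    (hH A i).mapIso e.symm ≪≫ (DerivedCategory.homologyFunctorFactors _ i).app K
  have hlift : ∀ i, ∃ l : (ECx L).X i ⟶ K.cycles i, l ≫ K.homologyπ i = (eH i).hom := fun i => by
    haveI : Module.Projective A ((ECx L).X i) := projective_hH hloc hfin i
    haveI : Projective (ModuleCat.of A ((ECx L).X i)) :=
      (IsProjective.iff_projective (R := A) (P := (ECx L).X i)).mp inferInstance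
    exact ⟨Projective.factorThru (P := ModuleCat.of A ((ECx L).X i)) (eH i).hom (K.homologyπ i),
      Projective.factorThru_comp _ _⟩
  choose l hl using hlift
  let φ : ECx L ⟶ K :=
    { f := fun i => l i ≫ K.iCycles i
      comm' := fun i j _ => by simp [ECx] }
  have hd : ∀ i j, (ECx L).d i j = 0 := fun _ _ => rfl
  have hφ : ∀ i, IsIso (HomologicalComplex.homologyMap φ i) := fun i => by
    haveI : IsIso ((ECx L).iCycles i) := (ECx L).isIso_iCycles i (i + 1) (by simp) (hd _ _)
    haveI : IsIso ((ECx L).homologyπ i) := (ECx L).isIso_homologyπ (i - 1) i (by simp) (hd _ _)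
    have h1 : HomologicalComplex.cyclesMap φ i = (ECx L).iCycles i ≫ l i := by
      rw [← cancel_mono (K.iCycles i), HomologicalComplex.cyclesMap_i, Category.assoc]
    have h2 : HomologicalComplex.homologyMap φ i =
        inv ((ECx L).homologyπ i) ≫ (ECx L).iCycles i ≫ (eH i).hom := by
      rw [← cancel_epi ((ECx L).homologyπ i), HomologicalComplex.homologyπ_naturality, h1, ← hl]
      simp
    rw [h2]
    infer_instance
  haveI : IsIso (DerivedCategory.Q.map φ) := by
    rw [DerivedCategory.isIso_iff]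
    intro i
    haveI := hφ i
    exact (NatIso.isIso_map_iff (DerivedCategory.homologyFunctorFactors (ModuleCat.{u} A) i) φ).2
      (inferInstanceAs (IsIso (HomologicalComplex.homologyMap φ i)))
  exact ⟨asIso (DerivedCategory.Q.map φ) ≪≫ e⟩

theorem subsingleton_summand (hloc : IsLocallyShiftUnit L) (p q : ℤ) (h : p + q ≠ 0) :
    IsZero ((ECx L).X p ⊗ (ECx' L).X q) := by
  haveI : Subsingleton ((hH A p).obj L ⊗[A] Module.Dual A ((hH A (-q)).obj L)) := by
    refine subsingleton_of_forall_eq 0 fun z => ?_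
    let S : Ideal A :=
      { carrier := {s | s • z = 0}
        add_mem' := fun {a b} ha hb => by
          change (a + b) • z = 0
          rw [add_smul, show a • z = 0 from ha, show b • z = 0 from hb, add_zero]
        zero_mem' := zero_smul A z
        smul_mem' := fun c a ha => by
          change (c * a) • z = 0
          rw [mul_smul, show a • z = 0 from ha, smul_zero] }
    have hS : S = ⊤ := by
      by_contra hne
      obtain ⟨m, hm, hSm⟩ := Ideal.exists_le_maximal S hne
      obtain ⟨a, s, hs, v, hoff, -, -⟩ := hloc m hm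
      refine hs (hSm ?_)
      change s • z = 0
      suffices ∀ z' : (hH A p).obj L ⊗[A] Module.Dual A ((hH A (-q)).obj L), s • z' = 0 from this z
      clear hSm hne S z
      intro z'
      induction z' using TensorProduct.induction_on with
      | zero => exact smul_zero _
      | add x y hx hy => rw [smul_add, hx, hy, add_zero]
      | tmul x f =>
        by_cases hp : p = a
        · subst hp
          have hf : s • f = 0 := LinearMap.ext fun y => by
            rw [LinearMap.smul_apply, smul_eq_mul, ← smul_eq_mul, ← map_smul, hoff (-q) (by omega) y]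
            exact map_zero _
          rw [← TensorProduct.tmul_smul, hf, TensorProduct.tmul_zero]
        · rw [TensorProduct.smul_tmul', hoff p hp x, TensorProduct.zero_tmul]
    have h1 : (1 : A) ∈ S := hS ▸ Submodule.mem_top
    exact (one_smul A z).symm.trans h1
  exact @ModuleCat.isZero_of_subsingleton _ _ _ this

variable (L)

/-- Contraction. -/
def evQ (q : ℤ) : (ECx L).X (-q) ⊗ (ECx' L).X q ⟶ ModuleCat.of A A :=
  ModuleCat.ofHom (TensorProduct.lift (LinearMap.id (R := A) (M := Module.Dual A ((hH A (-q)).obj L))).flip)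

/-- Contraction in degree `0`. -/
def ev0 : (KFlatLib.tT (ECx L) (ECx' L)).X 0 ⟶ ModuleCat.of A A :=
  HomologicalComplex.mapBifunctorDesc fun p q h =>
    ((ECx L).XIsoOfEq (show p = -q by have : p + q = 0 := h; omega)).hom ▷ (ECx' L).X q ≫ evQ L q

theorem ι_ev0 (q : ℤ) (h : -q + q = 0) : KFlatLib.ιT (ECx L) (ECx' L) (-q) q 0 h ≫ ev0 L = evQ L q := by
  rw [ev0, HomologicalComplex.ι_mapBifunctorDesc]
  simp

variable {L}

theorem tmul_aux {M N : Type u} [AddCommGroup M] [Module A M] [AddCommGroup N] [Module A N]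
    {s r c : A} {x v : M} {f h : N} (hr : s • x = r • v) (hc : c • h = (s * s) • f) :
    (s * (s * s)) • (x ⊗ₜ[A] f) = (c * r) • (v ⊗ₜ[A] h) := by
  rw [mul_comm c r, mul_smul r c, ← TensorProduct.tmul_smul c v h, hc, TensorProduct.smul_tmul' r, ← hr,
    TensorProduct.tmul_smul, ← TensorProduct.smul_tmul', ← mul_smul, mul_comm]

theorem bijective_ev0 (hloc : IsLocallyShiftUnit L) : Function.Bijective (ev0 L).hom := by
  classical
  let T := (KFlatLib.tT (ECx L) (ECx' L)).X 0
  let R : Ideal A := LinearMap.range (ev0 L).hom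
  have key : ∀ m : Ideal A, m.IsMaximal → (∃ c ∉ m, c ∈ R) ∧
      ∀ z : T, (ev0 L).hom z = 0 → ∃ c ∉ m, c • z = 0 := by
    intro m hm
    obtain ⟨a, s, hs, v, hoff, h1, h2⟩ := hloc m hm
    obtain ⟨q₀, rfl⟩ : ∃ q, a = -q := ⟨-a, (neg_neg a).symm⟩
    obtain ⟨h, hh⟩ := exists_coord h1 h2
    let w : T := (KFlatLib.ιT (ECx L) (ECx' L) (-q₀) q₀ 0 (neg_add_cancel q₀)).hom (v ⊗ₜ[A] h)
    have hw : (ev0 L).hom w = s * s := by
      change (KFlatLib.ιT (ECx L) (ECx' L) (-q₀) q₀ 0 _ ≫ ev0 L).hom (v ⊗ₜ[A] h) = _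
      rw [ι_ev0]
      exact hh v s rfl
    refine ⟨⟨s * s, fun hm' => (hm.isPrime.mem_or_mem hm').elim hs hs, w, hw⟩, fun z hz => ?_⟩
    refine ⟨s * (s * s), fun hm' => (hm.isPrime.mem_or_mem hm').elim hs
      fun h' => (hm.isPrime.mem_or_mem h').elim hs hs, ?_⟩
    let ψ : ModuleCat.of A A ⟶ T := ModuleCat.ofHom (LinearMap.toSpanSingleton A T (s • w))
    suffices H : (s * (s * s)) • 𝟙 T = ev0 L ≫ ψ by
      have := congr($(H).hom z)
      change (s * (s * s)) • z = (ev0 L).hom z • (s • w) at this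
      rw [this, hz, zero_smul]
    refine HomologicalComplex.mapBifunctor.hom_ext fun p q hpq => ?_
    obtain rfl : p = -q := by have : p + q = 0 := hpq; omega
    rw [Linear.comp_smul, Category.comp_id, ← Category.assoc]
    erw [ι_ev0]
    refine ModuleCat.hom_ext (TensorProduct.ext' fun (x : (hH A (-q)).obj L)
      (f : Module.Dual A ((hH A (-q)).obj L)) => ?_)
    change (s * (s * s)) • (KFlatLib.ιT (ECx L) (ECx' L) (-q) q 0 hpq).hom (x ⊗ₜ[A] f) = f x • (s • w)
    by_cases hq : q = q₀
    · subst hq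
      obtain ⟨r, hr⟩ := h1 x
      have e2 : f v • h = (s * s) • f := LinearMap.ext fun y => by
        obtain ⟨ry, hry⟩ := h1 y
        change f v * h y = (s * s) * f y
        rw [hh y ry hry, mul_assoc s s, show s * f y = ry * f v by
          rw [← smul_eq_mul, ← map_smul, hry, map_smul, smul_eq_mul]]
        ring
      have e3 : f x * s = f v * r := by
        rw [mul_comm, ← smul_eq_mul, ← map_smul, hr, map_smul, smul_eq_mul, mul_comm]
      rw [← mul_smul (f x) s, e3, ← map_smul, ← map_smul]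
      refine congrArg (KFlatLib.ιT (ECx L) (ECx' L) (-q) q 0 hpq).hom ?_
      exact tmul_aux hr e2
    · have hx : s • x = 0 := hoff (-q) (by omega) x
      have hfx : f x * s = 0 := by
        rw [mul_comm, ← smul_eq_mul, ← map_smul, hx, map_zero]
      have hxf : s • (x ⊗ₜ[A] f : (hH A (-q)).obj L ⊗[A] Module.Dual A ((hH A (-q)).obj L)) = 0 := by
        rw [TensorProduct.smul_tmul', hx, TensorProduct.zero_tmul]
      rw [← mul_smul (f x) s, hfx, zero_smul, mul_comm, mul_smul, ← map_smul]
      exact (congrArg ((s * s) • ·) ((congrArg _ hxf).trans (map_zero _))).trans (smul_zero _)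
  have hR : R = ⊤ := by
    by_contra hne
    obtain ⟨m, hm, hRm⟩ := Ideal.exists_le_maximal R hne
    obtain ⟨⟨c, hc, hcR⟩, -⟩ := key m hm
    exact hc (hRm hcR)
  refine ⟨(injective_iff_map_eq_zero _).2 fun z hz => ?_, LinearMap.range_eq_top.1 hR⟩
  let S : Ideal A := LinearMap.ker (LinearMap.toSpanSingleton A T z)
  have hS : S = ⊤ := by
    by_contra hne
    obtain ⟨m, hm, hSm⟩ := Ideal.exists_le_maximal S hne
    obtain ⟨c, hc, hcz⟩ := (key m hm).2 z hz
    exact hc (hSm hcz)
  have h1 : (1 : A) ∈ S := hS ▸ Submodule.mem_top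
  exact (one_smul A z).symm.trans h1

theorem nonempty_tensor_iso (hloc : IsLocallyShiftUnit L) :
    Nonempty ((ECx L ⊗ ECx' L : DRing.Cx A) ≅ 𝟙_ (DRing.Cx A)) := by
  let o : CochainComplex (ModuleCat.{u} A) ℤ :=
    (HomologicalComplex.single (ModuleCat.{u} A) (ComplexShape.up ℤ) 0).obj (ModuleCat.of A A)
  let T := KFlatLib.tT (ECx L) (ECx' L)
  have hz : ∀ n, n ≠ 0 → IsZero (T.X n) := fun n hn => by
    rw [IsZero.iff_id_eq_zero]
    refine HomologicalComplex.mapBifunctor.hom_ext fun p q h => ?_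
    exact (subsingleton_summand hloc p q (by have : p + q = n := h; omega)).eq_of_src _ _
  let e0 : T.X 0 ≅ o.X 0 := (LinearEquiv.ofBijective (ev0 L).hom (bijective_ev0 hloc)).toModuleIso ≪≫
    (HomologicalComplex.singleObjXSelf (ComplexShape.up ℤ) 0 _).symm
  let e : ∀ n, T.X n ≅ o.X n := fun n =>
    if hn : n = 0 then hn.symm ▸ e0
    else (hz n hn).iso (HomologicalComplex.isZero_single_obj_X _ 0 _ n hn)
  refine ⟨HomologicalComplex.Hom.isoOfComponents e fun i j hij => ?_⟩
  obtain rfl : i + 1 = j := hij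
  by_cases hi : i = 0
  · subst hi
    exact (HomologicalComplex.isZero_single_obj_X (ComplexShape.up ℤ) 0 _ _ (by norm_num)).eq_of_tgt _ _
  · exact (hz i hi).eq_of_src _ _

theorem isKFlat_ECx (hloc : IsLocallyShiftUnit L) (hfin : ∀ i, Module.Finite A ((hH A i).obj L))
    (b : ℤ) (hb : ∀ i, b < i → IsZero ((hH A i).obj L)) : DRing.IsKFlat A (ECx L) :=
  KFlatLib.isKFlat_of_bounded_flat (ECx L) b hb fun i =>
    haveI := projective_hH hloc hfin i
    inferInstanceAs (Module.Flat A ((hH A i).obj L))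

/-- An object locally isomorphic to a shift of the ring is invertible. -/
theorem isInvertible [DTen.HasLTen A] (hloc : IsLocallyShiftUnit L)
    (hfin : ∀ i, Module.Finite A ((hH A i).obj L)) (b : ℤ) (hb : ∀ i, b < i → IsZero ((hH A i).obj L)) :
    DTen.IsInvertible A L := by
  obtain ⟨eL⟩ := nonempty_iso_ECx hloc hfin
  obtain ⟨c⟩ := nonempty_tensor_iso hloc
  haveI := isIso_ε (A := A) (ECx L) (ECx' L) (Or.inl (isKFlat_ECx hloc hfin b hb))
  let e1 : (DTen.LTen₂ A).obj (L, DerivedCategory.Q.obj (ECx' L)) ≅ DTen.unit A :=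
    (DTen.LTen₂ A).mapIso (Iso.prod eL.symm (Iso.refl _)) ≪≫
      asIso ((DTen.ε A).app (ECx L, ECx' L)) ≪≫ DerivedCategory.Q.mapIso c
  haveI := isIso_symm_app (A := A) L (DerivedCategory.Q.obj (ECx' L))
  exact ⟨DerivedCategory.Q.obj (ECx' L), ⟨e1⟩,
    ⟨asIso ((DTen.symm A).app (L, DerivedCategory.Q.obj (ECx' L))) ≪≫ e1⟩⟩

end DTenLib.SplitInverse
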